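import Cfsg.Agent.SporadicA.PermTab
import Cfsg.Agent.HN.Classes
set_option linter.all false

-- part: HN/ColChain
section
set_option autoImplicit false

/-!
Upper bounds for the order of a group of automorphisms of a graph which commutes with given permutations:
stabiliser chains with colour refinement (kernel computation).
-/

namespace Cfsg.Agent.HN.ColChain

open Cfsg.Agent.SporadicA.PermTab Equiv

/-- adjacency and equality of two points -/
def rel (n A p q : ℕ) : ℕ := Nat.add (bitM n A p q) (cond (Nat.beq p q) 2 0)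

/-- the basic colour: relations with the points of the list `F`, and with the images under the tables `VS`. -/
noncomputable def c0 (n A : ℕ) (VS F : List ℕ) (p : ℕ) : ℕ :=
  List.rec (List.rec 1 (fun f _ ih => Nat.add (Nat.mul 4 ih) (rel n A p f)) F)
    (fun V _ ih => Nat.add (Nat.mul 4 ih) (rel n A p (lk V p))) VS

/-- hash -/
def hsh (c : ℕ) : ℕ := Nat.mod (Nat.mul c (Nat.mul c c)) 1000000007

/-- entry of a table with 32 bits per entry -/
def lw (T q : ℕ) : ℕ := Nat.land (Nat.shiftRight T (Nat.mul 32 q)) 4294967295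

/-- sum of the table values over the neighbours -/
noncomputable def nsum (n A T p : ℕ) : ℕ :=
  Nat.rec 0 (fun q ih => Nat.add ih (Nat.mul (bitM n A p q) (lw T q))) n

/-- the refined colour -/
noncomputable def c1 (n A : ℕ) (VS : List ℕ) (T p : ℕ) : ℕ :=
  List.rec (Nat.add (Nat.mul (nsum n A T p) 4294967296) (lw T p))
    (fun V _ ih => Nat.add (Nat.mul ih 4294967296) (lw T (lk V p))) VS

/-- the table is the table of the hashed basic colours. -/
noncomputable def tOK (n A : ℕ) (VS F : List ℕ) (T : ℕ) : Bool :=
  allB (fun q => Nat.beq (lw T q) (hsh (c0 n A VS F q))) n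

/-- the images of a point under the tables -/
def imgs (VS : List ℕ) (y : ℕ) : List ℕ := VS.map (fun V => lk V y)

/-- final check: the refined colours are pairwise different. -/
noncomputable def finB (n A : ℕ) (VS F : List ℕ) (T R O : ℕ) : Bool :=
  band (tOK n A VS F T) (band
    (allB (fun v => band (Nat.blt (lk R v) n) (Nat.beq (lk O (lk R v)) v)) n)
    (allB (fun i => Nat.blt (c1 n A VS T (lk O i)) (c1 n A VS T (lk O (Nat.succ i)))) (Nat.pred n)))

/-- The chain: entries `(y, m, T, c)`; `m` points have the refined colour `c` of `y`. -/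
noncomputable def chB (n A : ℕ) (VS : List ℕ) (T R O : ℕ) : List ℕ → List (ℕ × ℕ × ℕ × ℕ) → Bool :=
  fun F bs => List.rec (motive := fun _ => List ℕ → Bool) (fun F => finB n A VS F T R O)
    (fun b _ ih F => band (Nat.blt b.1 n) (band (tOK n A VS F b.2.2.1)
      (band (Nat.beq (c1 n A VS b.2.2.1 b.1) b.2.2.2)
        (band (cntB (fun p => Nat.beq (c1 n A VS b.2.2.1 p) b.2.2.2) n b.2.1)
          (ih (b.1 :: (imgs VS b.1 ++ F))))))) bs F

/-- the bound -/
def prodM (bs : List (ℕ × ℕ × ℕ × ℕ)) : ℕ := bs.foldr (fun b r => b.2.1 * r) 1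

theorem chB_cons (n A : ℕ) (VS : List ℕ) (T R O : ℕ) (F : List ℕ) (y m T' c : ℕ) (bs : List (ℕ × ℕ × ℕ × ℕ)) :
    chB n A VS T R O F ((y, m, T', c) :: bs) = band (Nat.blt y n) (band (tOK n A VS F T')
      (band (Nat.beq (c1 n A VS T' y) c)
        (band (cntB (fun p => Nat.beq (c1 n A VS T' p) c) n m)
          (chB n A VS T R O (y :: (imgs VS y ++ F)) bs)))) := rfl

variable {n A : ℕ} {VS : List ℕ}

/-- The table `V` belongs to a permutation commuting with all elements of `Γ`. -/
def Com (Γ : Subgroup (Perm (Fin n))) (V : ℕ) : Prop :=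
  ∃ v : Perm (Fin n), (∀ i, (v i : ℕ) = lk V i) ∧ ∀ g ∈ Γ, g * v = v * g

theorem Com.apply {Γ : Subgroup (Perm (Fin n))} {V : ℕ} (h : Com Γ V) {g : Perm (Fin n)} (hg : g ∈ Γ) (i : Fin n) :
    ∃ h' : lk V i < n, ((g ⟨lk V i, h'⟩ : Fin n) : ℕ) = lk V (g i) := by
  obtain ⟨v, hv, hc⟩ := h
  refine ⟨hv i ▸ (v i).2, ?_⟩
  have h1 : (⟨lk V i, hv i ▸ (v i).2⟩ : Fin n) = v i := Fin.ext (hv i).symm
  rw [h1, ← hv (g i), ← Perm.mul_apply, hc g hg, Perm.mul_apply]

theorem rel_inv {g : Perm (Fin n)} (hg : g ∈ autG n A) (i j : Fin n) : rel n A (g i) (g j) = rel n A i j := by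
  unfold rel
  have h1 : bitM n A (g i) (g j) = bitM n A i j := hg i j
  have h2 : Nat.beq (g i : ℕ) (g j) = Nat.beq (i : ℕ) j := by
    rw [Bool.eq_iff_iff]
    constructor
    · intro h
      have h3 := g.injective (Fin.ext (Nat.eq_of_beq_eq_true h))
      rw [h3]; exact Nat.beq_refl _
    · intro h
      have h3 : i = j := Fin.ext (Nat.eq_of_beq_eq_true h)
      rw [h3]; exact Nat.beq_refl _
  rw [h1, h2]

theorem c0_inv {Γ : Subgroup (Perm (Fin n))} (hΓ : Γ ≤ autG n A) {F : List ℕ} (hV : ∀ V ∈ VS, Com Γ V)
    (hF : FixL Γ F) {g : Perm (Fin n)} (hg : g ∈ Γ) (p : Fin n) : c0 n A VS F (g p) = c0 n A VS F p := by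
  have h1 : ∀ F : List ℕ, FixL Γ F →
      (List.rec 1 (fun f _ ih => Nat.add (Nat.mul 4 ih) (rel n A (g p) f)) F : ℕ) =
      List.rec 1 (fun f _ ih => Nat.add (Nat.mul 4 ih) (rel n A p f)) F := by
    intro F hF
    induction F with
    | nil => rfl
    | cons f F ih =>
      have h2 := ih (fun f' hf' => hF f' (List.mem_cons_of_mem _ hf'))
      have h3 : rel n A (g p) f = rel n A p f := by
        obtain ⟨hfn, hfix⟩ := hF f List.mem_cons_self
        have h4 := rel_inv (hΓ hg) p ⟨f, hfn⟩
        rw [hfix g hg ⟨f, hfn⟩ rfl] at h4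
        exact h4
      change Nat.add (Nat.mul 4 _) _ = Nat.add (Nat.mul 4 _) _
      rw [h2, h3]
  unfold c0
  rw [h1 F hF]
  induction VS with
  | nil => rfl
  | cons V VS ih =>
    have h2 := ih (fun V' hV' => hV V' (List.mem_cons_of_mem _ hV'))
    have h3 : rel n A (g p) (lk V (g p)) = rel n A p (lk V p) := by
      obtain ⟨h5, h6⟩ := (hV V List.mem_cons_self).apply hg p
      have h4 := rel_inv (hΓ hg) p ⟨lk V p, h5⟩
      rw [h6] at h4
      exact h4
    change Nat.add (Nat.mul 4 _) _ = Nat.add (Nat.mul 4 _) _
    rw [h2, h3]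

theorem lw_inv {Γ : Subgroup (Perm (Fin n))} (hΓ : Γ ≤ autG n A) {F : List ℕ} (hV : ∀ V ∈ VS, Com Γ V)
    (hF : FixL Γ F) {T : ℕ} (hT : tOK n A VS F T = true) {g : Perm (Fin n)} (hg : g ∈ Γ) (p : Fin n) :
    lw T (g p) = lw T p := by
  unfold tOK at hT
  rw [allB_iff] at hT
  rw [Nat.eq_of_beq_eq_true (hT _ (g p).2), Nat.eq_of_beq_eq_true (hT _ p.2), c0_inv hΓ hV hF hg]

theorem nsum_eq (T p : ℕ) (k : ℕ) : (Nat.rec 0 (fun q ih => Nat.add ih (Nat.mul (bitM n A p q) (lw T q))) k : ℕ) =
    ∑ q ∈ Finset.range k, bitM n A p q * lw T q := by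
  induction k with
  | zero => rfl
  | succ k ih => rw [Finset.sum_range_succ, ← ih]; rfl

theorem nsum_eq' (T p : ℕ) : nsum n A T p = ∑ q : Fin n, bitM n A p q * lw T q := by
  rw [nsum, nsum_eq, ← Fin.sum_univ_eq_sum_range (fun q => bitM n A p q * lw T q)]

theorem nsum_inv {T : ℕ} {g : Perm (Fin n)} (hA : g ∈ autG n A) (h : ∀ p : Fin n, lw T (g p) = lw T p) (p : Fin n) :
    nsum n A T (g p) = nsum n A T p := by
  rw [nsum_eq', nsum_eq', ← Equiv.sum_comp g]
  apply Finset.sum_congr rfl
  intro q _
  rw [h q, show bitM n A (g p) (g q) = bitM n A p q from hA p q]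

theorem c1_inv {Γ : Subgroup (Perm (Fin n))} (hΓ : Γ ≤ autG n A) {F : List ℕ} (hV : ∀ V ∈ VS, Com Γ V)
    (hF : FixL Γ F) {T : ℕ} (hT : tOK n A VS F T = true) {g : Perm (Fin n)} (hg : g ∈ Γ) (p : Fin n) :
    c1 n A VS T (g p) = c1 n A VS T p := by
  have hlw := fun p => lw_inv hΓ hV hF hT hg p
  have hns := nsum_inv (hΓ hg) hlw p
  clear hT
  unfold c1
  rw [hns, hlw p]
  induction VS with
  | nil => rfl
  | cons V VS ih =>
    have h2 := ih (fun V' hV' => hV V' (List.mem_cons_of_mem _ hV'))
    have h3 : lw T (lk V (g p)) = lw T (lk V p) := by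
      obtain ⟨h5, h6⟩ := (hV V List.mem_cons_self).apply hg p
      rw [← h6, hlw]
    change Nat.add (Nat.mul _ _) _ = Nat.add (Nat.mul _ _) _
    rw [h2, h3]

theorem inj_of_order {sig : ℕ → ℕ} {R O : ℕ}
    (hR : allB (fun v => band (Nat.blt (lk R v) n) (Nat.beq (lk O (lk R v)) v)) n = true)
    (hO : allB (fun i => Nat.blt (sig (lk O i)) (sig (lk O (Nat.succ i)))) (Nat.pred n) = true) :
    ∀ u v : Fin n, sig u = sig v → u = v := by
  rw [allB_iff] at hR hO
  have hmono : ∀ i j, i < j → j < n → sig (lk O i) < sig (lk O j) := by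
    intro i j hij hj
    induction j, hij using Nat.le_induction with
    | base =>
      have h := hO i (by rw [Nat.pred_eq_sub_one]; omega)
      exact Nat.blt_eq ▸ h
    | succ k hk ih =>
      have h := hO k (by rw [Nat.pred_eq_sub_one]; omega)
      exact (ih (by omega)).trans (Nat.blt_eq ▸ h)
  intro u v huv
  have hu := hR u u.2
  have hv := hR v v.2
  rw [band_eq_true] at hu hv
  have hu1 : lk R u < n := Nat.blt_eq ▸ hu.1
  have hv1 : lk R v < n := Nat.blt_eq ▸ hv.1
  have hu2 := Nat.eq_of_beq_eq_true hu.2
  have hv2 := Nat.eq_of_beq_eq_true hv.2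
  rcases Nat.lt_trichotomy (lk R u) (lk R v) with h | h | h
  · have := hmono _ _ h hv1
    rw [hu2, hv2, huv] at this
    exact absurd this (lt_irrefl _)
  · apply Fin.ext
    rw [← hu2, ← hv2, h]
  · have := hmono _ _ h hu1
    rw [hu2, hv2, huv] at this
    exact absurd this (lt_irrefl _)

/-- **The bound.** -/
theorem card_le_prod (bs : List (ℕ × ℕ × ℕ × ℕ)) (F : List ℕ) (Γ : Subgroup (Perm (Fin n))) (hΓ : Γ ≤ autG n A)
    (hV : ∀ V ∈ VS, Com Γ V) (hF : FixL Γ F) {T R O : ℕ} (h : chB n A VS T R O F bs = true) :
    Nat.card Γ ≤ prodM bs := by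
  induction bs generalizing F Γ with
  | nil =>
    have h' : finB n A VS F T R O = true := h
    unfold finB at h'
    rw [band_eq_true, band_eq_true] at h'
    have : Γ = ⊥ := by
      rw [eq_bot_iff]
      intro g hg
      rw [Subgroup.mem_bot]
      ext p
      exact congrArg Fin.val (inj_of_order h'.2.1 h'.2.2 _ _ (c1_inv hΓ hV hF h'.1 hg p))
    rw [this]
    simp [prodM]
  | cons b bs ih =>
    obtain ⟨y, m, T', c⟩ := b
    rw [chB_cons, band_eq_true, band_eq_true, band_eq_true, band_eq_true] at h
    obtain ⟨h1, h2, h3, h4, h5⟩ := h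
    have hy : y < n := Nat.blt_eq ▸ h1
    have hV' : ∀ V ∈ VS, Com (ps Γ ⟨y, hy⟩) V := by
      intro V hVS
      obtain ⟨v, hv, hc⟩ := hV V hVS
      exact ⟨v, hv, fun g hg => hc g hg.1⟩
    have h6 : Nat.card (ps Γ ⟨y, hy⟩) ≤ prodM bs := by
      refine ih (y :: (imgs VS y ++ F)) (ps Γ ⟨y, hy⟩) ((ps_le _ _).trans hΓ) hV' ?_ h5
      intro f hf
      rcases List.mem_cons.1 hf with h7 | h7
      · subst h7
        refine ⟨hy, fun g hg i hi => ?_⟩
        have : i = ⟨f, hy⟩ := Fin.ext hi
        rw [this]; exact hg.2
      · rcases List.mem_append.1 h7 with h8 | h8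
        · obtain ⟨V, hVS, rfl⟩ := List.mem_map.1 h8
          have h9 : lk V y < n := ((hV V hVS).apply Γ.one_mem ⟨y, hy⟩).1
          refine ⟨h9, fun g hg i hi => ?_⟩
          obtain ⟨_, h10⟩ := (hV V hVS).apply hg.1 ⟨y, hy⟩
          rw [hg.2] at h10
          have : i = ⟨lk V y, h9⟩ := Fin.ext hi
          rw [this]
          exact Fin.ext h10
        · exact ⟨(hF f h8).1, fun g hg => (hF f h8).2 g hg.1⟩
    refine card_le Γ ⟨y, hy⟩ _ ?_ (card_fin_of_cntB _ n m h4) h6
    intro g hg
    simp only [Finset.mem_filter, Finset.mem_univ, true_and]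
    have h7 := c1_inv hΓ hV hF h2 hg ⟨y, hy⟩
    rw [h7, Nat.eq_of_beq_eq_true h3]
    exact Nat.beq_refl _

end Cfsg.Agent.HN.ColChain
end

-- part: HN/CentUp
section
set_option autoImplicit false

/-!
Upper bounds for centralisers in `H0`, from kernel-checked coloured chains on the 100 points; the orders of
`C(a)`, `C(z)`, `C(d)`.
-/

namespace Cfsg.Agent.HN.CentUp

open Cfsg.Agent.HN.Pres Cfsg.Agent.HN.HS100 Cfsg.Agent.HN.P1408 Cfsg.Agent.HN.H0Basic
open Cfsg.Agent.HN.Syl Cfsg.Agent.HN.Classes Cfsg.Agent.HN.ColChain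
open Cfsg.Agent.SporadicA.PermTab
open Equiv

/-- The elements given by the words. -/
def wset (ws : List (List ℕ)) : Set H0 := {g | ∃ w ∈ ws, g = hw w}

/-- The subgroup of `autG` centralising the images of the words. -/
def cenA (ws : List (List ℕ)) : Subgroup (Perm (Fin 100)) :=
  autG 100 adjA ⊓ Subgroup.centralizer (φ '' wset ws)

/-- `VS` contains tables of the words `ws`. -/
def tabB (ws : List (List ℕ)) (VS : List ℕ) : Bool :=
  List.rec (motive := fun _ => List (List ℕ) → Bool) (fun _ => true)
    (fun V _ ih ws => List.rec (motive := fun _ => Bool) false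
      (fun w ws' _ => band (allB (fun i => Nat.beq (t1 w i) (lk V i)) 100) (ih ws')) ws) VS ws

theorem exists_of_tabB {ws : List (List ℕ)} {VS : List ℕ} (h : tabB ws VS = true) :
    ∀ V ∈ VS, ∃ w ∈ ws, ∀ i < 100, t1 w i = lk V i := by
  induction VS generalizing ws with
  | nil => intro V hV; exact absurd hV List.not_mem_nil
  | cons V VS ih =>
    match ws with
    | [] => exact absurd h (by simp [tabB])
    | w :: ws =>
      have h' : band (allB (fun i => Nat.beq (t1 w i) (lk V i)) 100) (tabB ws VS) = true := h
      rw [band_eq_true, allB_iff] at h'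
      intro V' hV'
      rcases List.mem_cons.1 hV' with rfl | hV'
      · exact ⟨w, List.mem_cons_self, fun i hi => Nat.eq_of_beq_eq_true (h'.1 i hi)⟩
      · obtain ⟨w', hw', h2⟩ := ih h'.2 V' hV'
        exact ⟨w', List.mem_cons_of_mem _ hw', h2⟩

/-- **Upper bound in `autG`.** -/
theorem card_cenA_le {ws : List (List ℕ)} {VS : List ℕ} {bs : List (ℕ × ℕ × ℕ × ℕ)} {T R O : ℕ}
    (hV : tabB ws VS = true) (h : chB 100 adjA VS T R O [] bs = true) :
    Nat.card (cenA ws) ≤ prodM bs := by
  refine card_le_prod bs [] (cenA ws) inf_le_left ?_ ?_ h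
  · intro V hVS
    obtain ⟨w, hw', h1⟩ := exists_of_tabB hV V hVS
    refine ⟨φ (hw w), fun i => ?_, fun g hg => ?_⟩
    · rw [φ_hw_apply]
      exact h1 i i.2
    · exact (Subgroup.mem_centralizer_iff.1 hg.2 _ ⟨hw w, ⟨w, hw', rfl⟩, rfl⟩).symm
  · intro f hf
    exact absurd hf List.not_mem_nil

/-- The order of the preimage. -/
theorem card_eq_two_mul {C : Subgroup H0} (hτ : τ ∈ C) : Nat.card C = 2 * Nat.card (C.map φ) := by
  let f : C →* C.map φ := (φ.comp C.subtype).codRestrict (C.map φ) (fun c => ⟨c, c.2, rfl⟩)
  have hf : Function.Surjective f := by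
    rintro ⟨_, c, hc, rfl⟩
    exact ⟨⟨c, hc⟩, rfl⟩
  have h1 : Nat.card f.ker = 2 := by
    rw [Nat.card_eq_two_iff]
    refine ⟨⟨⟨1, C.one_mem⟩, by rw [MonoidHom.mem_ker]; exact Subtype.ext (map_one φ)⟩,
      ⟨⟨τ, hτ⟩, by rw [MonoidHom.mem_ker]; exact Subtype.ext φ_τ⟩, ?_, ?_⟩
    · intro h
      have h2 : (1 : H0) = τ := congrArg (fun g : f.ker => ((g : C) : H0)) h
      exact τ_ne_one h2.symm
    · rw [Set.eq_univ_iff_forall]
      rintro ⟨⟨g, hg⟩, hg'⟩
      have h3 : φ g = 1 := congrArg Subtype.val (MonoidHom.mem_ker.1 hg')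
      rcases φ_eq_one_iff.1 h3 with rfl | rfl
      · exact Or.inl rfl
      · exact Or.inr rfl
  have h2 := Subgroup.card_eq_card_quotient_mul_card_subgroup f.ker
  rw [h1, Nat.card_congr (QuotientGroup.quotientKerEquivOfSurjective f hf).toEquiv] at h2
  rw [h2, mul_comm]

theorem map_le_cenA (ws : List (List ℕ)) : (Subgroup.centralizer (wset ws)).map φ ≤ cenA ws := by
  rintro _ ⟨g, hg, rfl⟩
  refine ⟨range_le ⟨g, rfl⟩, ?_⟩
  change φ g ∈ Subgroup.centralizer (φ '' wset ws)
  rw [Subgroup.mem_centralizer_iff]
  rintro _ ⟨k, hk, rfl⟩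
  rw [← map_mul, ← map_mul, Subgroup.mem_centralizer_iff.1 hg k hk]

theorem τ_mem_centralizer (s : Set H0) : τ ∈ Subgroup.centralizer s := by
  rw [Subgroup.mem_centralizer_iff]
  intro g _
  exact τ_comm g

/-- **Upper bound in `H0`.** -/
theorem card_centralizer_le {ws : List (List ℕ)} {N : ℕ} (h : Nat.card (cenA ws) ≤ N) :
    Nat.card (Subgroup.centralizer (wset ws)) ≤ 2 * N := by
  rw [card_eq_two_mul (τ_mem_centralizer _)]
  exact Nat.mul_le_mul_left 2 ((Nat.card_le_card_of_injective _
    (Subgroup.inclusion_injective (map_le_cenA ws))).trans h)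

/-- **Upper bound in `H0`** if some element centralises the words modulo `τ` but not all words. -/
theorem card_centralizer_le_of_sign {ws : List (List ℕ)} {N : ℕ} (h : Nat.card (cenA ws) ≤ N) {x : H0}
    (hx : φ x ∈ cenA ws) {w : List ℕ} (hw' : w ∈ ws) (hne : x * hw w ≠ hw w * x) :
    Nat.card (Subgroup.centralizer (wset ws)) ≤ N := by
  rw [card_eq_two_mul (τ_mem_centralizer _)]
  have hle := map_le_cenA ws
  have hnot : φ x ∉ (Subgroup.centralizer (wset ws)).map φ := by
    rintro ⟨g, hg, hgx⟩
    have h1 := Subgroup.mem_centralizer_iff.1 hg (hw w) ⟨w, hw', rfl⟩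
    rcases φ_eq_iff.1 hgx with h2 | h2
    · rw [h2] at h1
      exact hne h1.symm
    · rw [h2] at h1
      apply hne
      have h3 : hw w * (x * τ) = (hw w * x) * τ := (mul_assoc _ _ _).symm
      have h4 : x * τ * hw w = x * hw w * τ := by rw [mul_assoc, ← τ_comm, mul_assoc]
      rw [h3, h4] at h1
      exact (mul_right_cancel h1).symm
  have hlt : (Subgroup.centralizer (wset ws)).map φ < cenA ws :=
    lt_of_le_of_ne hle (fun h' => hnot (h' ▸ hx))
  have hd := Subgroup.card_dvd_of_le hle
  obtain ⟨k, hk⟩ := hd
  have hk2 : 2 ≤ k := by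
    by_contra hk'
    have hpos : 0 < Nat.card (cenA ws) := Nat.card_pos
    have : k = 1 := by
      rcases Nat.eq_zero_or_pos k with h0 | h0
      · rw [h0, mul_zero] at hk; omega
      · omega
    rw [this, mul_one] at hk
    exact absurd (Subgroup.eq_of_le_of_card_ge hle hk.le) hlt.ne
  calc 2 * Nat.card ((Subgroup.centralizer (wset ws)).map φ)
      ≤ k * Nat.card ((Subgroup.centralizer (wset ws)).map φ) := Nat.mul_le_mul_right _ hk2
    _ = Nat.card (cenA ws) := by rw [hk, mul_comm]
    _ ≤ N := h

theorem wset_singleton (w : List ℕ) : wset [w] = {hw w} := by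
  ext g
  simp [wset]

/-- tables for `cA` -/
def cAV : List ℕ := [0x98188308580b6178160290be0e82c8600ae0b82a8540500fc1201809e05c268630921282584803c0ec1e81208609c208110a40542283108c1681c82106802c110370660281e00905e1580d85d05607c2e053084014098510340d41c00805411c0780305a08c0c85009c0081f00e04a1102000103a0500680006c0c81802000e010130060380580800c]
/-- chain for `cA` -/
def cABS : List (ℕ × ℕ × ℕ × ℕ) := [
  (40, 80, 0x40000000d8000000d80000004000000040000000d800000040000000400000004000000040000000d800000040000000d800000040000000d8000000d800000040000000400000004000000040000000d800000040000000d80000004000000040000000d800000040000000d800000040000000400000004000000040000000d800000040000000d800000040000000400000004000000040000000400000004000000040000000d80000004000000040000000400000004000000040000000d8000000400000004000000040000000d8000000400000004000000040000000d80000004000000040000000400000004000000040000000400000004000000040000000400000004000000040000000400000004000000040000000400000004000000040000000d80000004000000040000000400000004000000040000000400000004000000040000000400000004000000040000000d80000004000000040000000400000004000000040000000d800000040000000400000004000000040000000400000004000000040,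 0x7e00000004000000040),
  (96, 16, 0x4000000046308000463080004cc400004cc4000046308000400000007d0000007d00000040000000463080007d00000046308000400000009b4980009b498000d8000000400000004000000040000000463080007d0000009b49800040000000400000004630800040000000463080007d0000007d0000007d0000007d0000004630800040000000463080004000000040000000400000004cc40000400000004cc4000040000000463080004cc4000040000000400000004cc40000400000004630800040000000400000004cc4000046308000400000004cc400004000000046308000400000004cc400005b20000040000000400000007d00000040000000400000007d0000007d00000040000000400000004cc400007d000000400000007d0000004000000046308000400000004cc4000040000000400000007d0000004cc400004cc40000400000004cc400004cc400004cc400004630800090b4000040000000400000007d000000400000009b49800040000000400000004000000040000000400000007d00000090b40, 0x721e200004cc400007d000),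
  (87, 3, 0x46535f904c5660104c5660112dde7f9149905f9089c0f910525f63905ca6bf206f75c32046535f904c566010f66ebf204c56601046535f91a240afa1a240afa2c01b1eb0525f639046535f90525f63904c5660105ca6bf21a240afa046535f9046535f904c56601046535f904c5660106f75c3205ca6bf205ca6bf205ca6bf2089c0f91077145f904c56601046535f9077145f9046535f9112935f9046535f9112935f9046535f904c56601112935f9046535f9046535f9112935f9046535f904c566010525f639046535f9149905f9089c0f91046535f9149905f9077145f9089c0f910525f639112935f920790e390525f639046535f905ca6bf2046535f90525f63905ca6bf205ca6bf20525f639077145f9149905f905ca6bf20838153906f75c32077145f904c56601077145f9112935f90525f639046535f906f75c32112935f9112935f9046535f9149905f9112935f9149905f904c56601197e6bf2046535f9077145f906f75c32077145f91a240afa046535f9046535f9046535f908381539077145f906f75c32197e6bf2, 0xdecec4ec04c5660104c56601),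
  (54, 4, 0x2c53bbe272d71bf272d71bf1ee0cc900c6f740a1ce5538e2ef2fc5937b3d32503e16d7802c53bbe272d71bf19082f1238fd523f02c53bbe1c416cde1c416cde06ac3d502ef2fc5902c53bbe025c9d222ee8fadf37b3d3252996dc1202c53bbe02c53bbe272d71bf02c53bbe272d71bf2abde6ee37b3d32537b3d32537b3d3251ce5538e1a664c07272d71bf02c53bbe1a664c0702c53bbe117f21c302c53bbe117f21c302c53bbe2ee8fadf1d9bcc8502c53bbe02c53bbe1d9bcc8502c53bbe2ee8fadf2ef2fc5902c53bbe0c6f740a1ce5538e02c53bbe1bcce34f1a664c071ce5538e025c9d22117f21c31eececff2ef2fc590a44ba8e37b3d32502c53bbe2ef2fc5907726daf07726daf2ef2fc59048bb0d01bcce34f37b3d3252216c95d2abde6ee1a664c07272d71bf048bb0d0117f21c32ef2fc5902c53bbe2abde6ee117f21c3117f21c302c53bbe1bcce34f117f21c31bcce34f2ee8fadf37034a1f02c53bbe1a664c0703e16d781a664c072996dc1202c53bbe0a44ba8e02c53bbe2216c95d1a664c072abde6ee37034a1f, 0x239650a9602c53bbe02c53bbe)]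
/-- last table for `cA` -/
def cAT : ℕ := 0x720869929eccb920ede6c5e37552c0120e2aca60ae4618c132fb3ca3238295b280194ba0720869929eccb920af3c0f81db224ec16d9eece252969da0853d6cf20e78f7a132fb3ca16d9eece11de4792232e88fc03460e662c05914201c4de7f16d9eece29eccb9216d9eece29eccb922da912813238295b3238295b14c4ec5c0ae4618c2ebd176829eccb9216d9eece09ece26601c4de7f15539b2216d9eece15539b2201c4de7f39e4047628ef246216d9eece29ca99b70bd9fc4f16d9eece39e40476193aa75116d9eece0f14449f0ae4618c16d9eece147c41f709ece2661612a9ea193ea30b15539b220af0f3e5346490e6266282b903460e6616d9eece132fb3ca2e4bd6fa2ce1ac07132fb3ca0af3bc332a1002f03238295b300c6ab915efc5ac09ece26629eccb921666c7781232e3ed346490e6072086990b9715b11232e3ed1260cd4e16d9eece19559fc615539b2219559fc639e4047601db78090f677e642f1c31600ee5149f09ece2662c05914201c4de7f266282b907208699264203fb2ebd17680b9715b1393ae146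
/-- ranks for `cA` -/
def cAR : ℕ := 0x4e0342401a01208c298370100d80901c0c40580780a0ae1782601304205c0a8550620b8288490a41340604408c1081503b0b412c030430a00a0270020520101603e0601001281d04c0002e8100c617c1a03a0b201c0d8330b00f40083801c0fc158450b80443081909e1581a8390781281001e05a088208240160bc190050c016c0185403011c0a01f
/-- order for `cA` -/
def cAO : ℕ := 0x5615c0c8070541481681b00c0fc138230a6058260040ba11c2483b02e0e42305107c0482406100410c0e0440781080683203c0d0110130800a00a0200b81680a829048024258330141280783503a1041b83a0c60bc1880c0bc038278110000401805804a1800c00309c158268010a01640d02c0aa07c310450161502f85b04c0f40403600a0e01082e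

theorem cA_le : Nat.card (cenA [[2, 2, 2]]) ≤ 15360 :=
  card_cenA_le (VS := cAV) (bs := cABS) (T := cAT) (R := cAR) (O := cAO) (by decide +kernel) (by decide +kernel)

/-- tables for `cZ` -/
def cZV : List ℕ := [0xc6160308600aa1482e85c0a0138288620ae1582f8540801782c85b09e1681d83e08c0d02404906412c188420861101705307e1301483c09a0e8130380480d81a84a04211c2283005e1041681d0360701e82802c0e40a8370460881982003e0481602a0560640d00d01809c128140260780400f02001c0c0170160100181101c0080280a01201800800]
/-- chain for `cZ` -/
def cZBS : List (ℕ × ℕ × ℕ × ℕ) := [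
  (40, 30, 0xd800000040000000d8000000d80000004000000040000000d8000000d800000040000000400000004000000040000000d8000000d800000040000000d800000040000000400000004000000040000000d80000004000000040000000400000004000000040000000400000004000000040000000400000004000000040000000d8000000400000004000000040000000d80000004000000040000000d800000040000000d800000040000000d800000040000000d8000000d800000040000000400000004000000040000000d8000000d800000040000000d800000040000000400000004000000040000000d800000040000000400000004000000040000000d8000000d800000040000000d8000000d800000040000000400000004000000040000000400000004000000040000000400000004000000040000000d8000000d800000040000000400000004000000040000000400000004000000040000000d80000004000000040000000400000004000000040000000d8000000400000004000000040000000d8000000d8, 0xa40000000d8000000d8),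
  (20, 14, 0x4630800040000000463080009b49800090b4000040000000463080004630800040000000400000004000000040000000463080004630800090b400009b49800040000000400000004000000040000000463080004000000090b4000040000000400000004000000040000000400000004000000040000000400000004000000046308000400000004000000040000000463080004000000090b400004630800090b4000046308000400000009b49800040000000463080009b498000400000004000000040000000400000009b49800046308000400000009b49800040000000400000004000000090b4000122c6800040000000400000004000000040000000463080004630800040000000463080004630800090b4000040000000400000004000000040000000400000004000000090b400004000000040000000463080009b49800090b400004000000090b4000090b4000090b400004000000090b400004630800040000000400000004000000090b400004000000046308000400000004000000040000000463080009b498, 0x7a75000004630800046308),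
  (29, 32, 0x89c0f91046535f9089c0f9120b77c8a197e6bf2046535f904c5660104c56601046535f9046535f9046535f9046535f904c5660104c56601197e6bf21a240afa08381539046535f9046535f9046535f9089c0f91046535f9197e6bf2046535f9046535f9046535f9046535f9046535f9046535f9046535f9046535f9046535f904c56601046535f9083815390838153904c56601046535f9197e6bf204c56601197e6bf204c566010838153920b77c8a0838153904c566011a240afa046535f9046535f9046535f9046535f920b77c8a04c56601083815391a240afa046535f9046535f9046535f9197e6bf22532a5ec046535f908381539046535f90838153904c5660104c56601046535f904c56601089c0f91200ce732046535f9046535f9046535f9046535f9046535f9046535f9197e6bf2046535f9046535f90c99076120b77c8a200ce73208381539197e6bf2197e6bf2197e6bf2046535f9197e6bf204c56601046535f9046535f908381539197e6bf20838153904c56601046535f9046535f90838153904c566011a240afa, 0xfe87198c046535f9046535f9),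
  (0, 3, 0x1ce5538e1000dde91ce5538e148e60bd1c324e3502c53bbe272d71bf272d71bf3843d36a02c53bbe3843d36a3843d36a272d71bf272d71bf0817337e2996dc1209824cb802c53bbe1000dde91000dde90eeadaa702c53bbe37034a1f1000dde902c53bbe02c53bbe02c53bbe02c53bbe02c53bbe02c53bbe02c53bbe02c53bbe272d71bf02c53bbe304e78940ce63c32272d71bf3843d36a0817337e2ee8fadf37034a1f272d71bf09824cb8148e60bd09824cb8272d71bf1c416cde02c53bbe02c53bbe02c53bbe02c53bbe148e60bd272d71bf304e78942996dc1233a8010f1000dde93843d36a1c324e35143c83e43843d36a0ce63c323843d36a0ce63c322ee8fadf272d71bf02c53bbe2ee8fadf1ce5538e0c1f5fe01d5481941000dde93843d36a1000dde93843d36a02c53bbe1c324e351000dde91000dde9225c111738d5b98915c80929304e789437034a1f37034a1f37034a1f02c53bbe0817337e272d71bf02c53bbe02c53bbe304e789437034a1f304e7894272d71bf02c53bbe02c53bbe304e7894272d71bf2996dc12, 0x25efe06f72996dc122996dc12),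
  (1, 2, 0xae4618c2c5d43f30ae4618c34f4138526b0b10916d9eece0ede6c5e29eccb921da7b24a16d9eece1da7b24a1da7b24a29eccb920ede6c5e3aa3e2d32c0591422579022516d9eece2c5d43f32c5d43f30b489b3c16d9eece1b12e0a40e5e326116d9eece16d9eece33a64f5133a64f5116d9eece16d9eece16d9eece16d9eece0ede6c5e16d9eece23b7ff3f2e31c99c0ede6c5e0243a88e3aa3e2d3232e88fc1b12e0a429eccb922579022534f413851af62c2529eccb92252969da16d9eece16d9eece16d9eece16d9eece34f4138529eccb9223b7ff3f2c0591422f2e2cf52c5d43f30243a88e26b0b109045734721da7b24a2e31c99c1da7b24a1a0bebc6232e88fc29eccb9216d9eece39e404760ae4618c03529f3920bd12e70e5e32611da7b24a2c5d43f31da7b24a33a64f5126b0b1092c5d43f32c5d43f339be721a30c7a4e63005f71823b7ff3f1b12e0a41b12e0a41b12e0a433a64f513aa3e2d30ede6c5e16d9eece16d9eece23b7ff3f1b12e0a42b137d4d29eccb9216d9eece16d9eece2b137d4d29eccb9209822e22, 0x2f77840b529eccb9229eccb92)]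
/-- last table for `cZ` -/
def cZT : ℕ := 0x313781a62949cca80a5b06db23216d8b2deaf35213a1e1122451eb561d84b0e3347b164d13a1e112347b164d347b164d1d84b0e32451eb562b0f9fd5117e29341e51433b13a1e1122949cca82949cca810a19ad713a1e1121d66652406cebf7013a1e1121edd620214124cf514124cf513a1e11213a1e11213a1e11213a1e1122451eb5613a1e112222750e612f8edb42451eb56245f8de31e76f74415a78eee1d6665242925721c062c3397395310962ef4c55c1d84b0e30c89f2161edd620213a1e11213a1e11213a1e11223216d8b1d84b0e3222750e6218608f10c8cd35a2949cca823d08dc30e480e4335890d7f347b164d1b74ed36347b164d36068d1515a78eee1d84b0e313a1e1122ffcaaa80a5b06db1417a1c42e559881155d2703347b164d1458d77c279f88d423585b7e2deaf3522949cca82949cca805344b8332e99148081d3dc4222750e61d6665241d6665241d66652423585b7e2b0f9fd52451eb561edd620213a1e112222750e61d6665240a14df102925721c1edd620213a1e1120a14df1038bb1d4f148c0566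
/-- ranks for `cZ` -/
def cZR : ℕ := 0xa6094158580a80142783c0140b00000903a1480f85c08c0341d82a022130238550300a0220370360c80b04b0ac090138130c00d80181c05c1242183f07c0400d0330400300785a04408c310630ba05c2403d01c0181a0020020c0168080621441a8500700e80585e0ae1382c81502801c0c8450840bc3082102416c2501e09a1042005f0520e413004
/-- order for `cZ` -/
def cZO : ℕ := 0x580b40683f008060158540140c00a86002e10c2605f0c61580f01c0ba0580384e0880241d02909a14c0804907203c030050700dc1405c0a20680101b0900f80e8250681180f82201c0ec1085a0c21400184a0820043104205c0bc060330aa0202b83c08e0d40884b0541140a01308002c2783606209c2903203216c2c0200240982f00007a09011859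

theorem cZ_le : Nat.card (cenA [[4]]) ≤ 80640 :=
  card_cenA_le (VS := cZV) (bs := cZBS) (T := cZT) (R := cZR) (O := cZO) (by decide +kernel) (by decide +kernel)

/-- tables for `cD` -/
def cDV : List ℕ := [0xba1881181408414c3185405c1682c85806a0882205c0bc100288410021381f03b07a124250340720a41985506017c2805205a134258000980d82382804e0e82b84808a0981084303e16c1f81803c0442303806e0c80b8160c21581881305e0ac068080240400782c04a0900606004006c1501a0320280e81500a0380301c0080240580700400c2783c]
/-- chain for `cD` -/
def cDBS : List (ℕ × ℕ × ℕ × ℕ) := [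
  (29, 60, 0x40000000d80000007d0000007d0000004000000040000000400000004000000040000000d8000000d8000000d80000007d0000007d00000040000000400000004000000040000000d8000000400000007d000000d80000004000000040000000400000007d0000007d0000007d00000040000000400000007d00000040000000400000004000000040000000400000004000000040000000400000007d000000400000007d000000400000007d0000007d0000007d0000007d0000007d0000007d000000400000007d00000040000000400000004000000040000000400000004000000040000000400000007d0000007d000000400000007d0000007d0000007d0000007d0000007d0000004000000040000000400000004000000040000000400000004000000040000000400000007d0000007d0000007d0000007d000000400000004000000040000000400000004000000040000000400000007d000000400000004000000040000000400000004000000040000000400000004000000040000000400000007d0000007d, 0x8980000004000000040),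
  (84, 32, 0x400000009b49800081bf1000430c10004cc400007d00000040000000400000004000000046308000463080004630800081bf1000430c100040000000400000004cc40000400000009b4980004cc400005033d00046308000400000004cc4000040000000430c1000430c1000430c10007d0000007d000000430c100040000000400000007d0000007d000000400000004000000040000000400000005033d0007d000000430c10004cc40000430c10005033d000430c10005033d000430c1000430c100040000000430c1000400000004000000040000000400000004000000090b40000400000004cc40000430c100081bf10004000000081bf100081bf10005033d000430c1000430c100090b400004000000090b400005b2000004cc40000400000004cc4000040000000400000005033d0005033d0005033d000430c100090b4000040000000400000007d0000004000000040000000d800000081bf10004000000040000000400000007d00000040000000400000004000000040000000400000004000000081bf100081bf1, 0x775cc00004000000040000),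
  (37, 2, 0x46535f91a240afa0ad66e23049541fa112935f90bbdfb32046535f90a95b5f9046535f904c56601089c0f9104c566010742e36f049541fa046535f905e837f9157901390838153920b77c8a112935f9115f72ba04c56601046535f9112935f9046535f90556627607a2d52a07a2d52a05ca6bf205ca6bf2049541fa046535f9046535f905ca6bf205ca6bf2083815390525f639046535f9046535f9115f72ba05ca6bf207a2d52a112935f907a2d52a123965360556627614d0ddea05566276049541fa046535f9049541fa046535f90525f639046535f9077145f9046535f9197e6bf2077145f9112935f9055662760ad66e23046535f906157af30742e36f12396536049541fa049541fa1aca2832077145f9197e6bf21f8535f9149905f9046535f91202c2390525f639046535f9115f72ba14d0ddea115f72ba049541fa1eb93bf2046535f90525f6390a897bf2077145f9046535f9252fa1eb06157af30525f639046535f9046535f906f75c32046535f9046535f9077145f9046535f9046535f9046535f906157af306157af3, 0xe717fd3606157af3115f72ba)]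
/-- last table for `cD` -/
def cDT : ℕ := 0x3843d36a2996dc121744ed2e32c5fbbf117f21c329674b631000dde916cbd61f3843d36a272d71bf1ce5538e272d71bf3a9c3da832c5fbbf02c53bbe379df2ed15a61dcf09824cb8148e60bd377b83ee0c1523bd272d71bf02c53bbe117f21c302c53bbe327b977a227e75d6104f450137b3d32504f150922cc1cc9402c53bbe3843d36a37b3d32504f150920ce63c322ef2fc5902c53bbe02c53bbe0c1523bd37b3d325239d2f68117f21c3239d2f68102e594723b8cbe817fde84923b92313046cd41f1000dde932c5fbbf1000dde90214a07d1000dde91a664c071000dde937034a1f1a664c07377b83ee23b8cbe802d3cdcb3843d36a19a4bf4e3a9c3da8242d8ee732c5fbbf32c5fbbf39f70db02c7d19ac37034a1f16e1a8560c9aab7302c53bbe29315c2d2eda89fe3843d36a0023feb217fde8490c1523bd32c5fbbf1257304702c53bbe2ef2fc5905fbc4342dae1e321000dde92716d6320b7f2f180214a07d3843d36a3843d36a3b19ee6202c53bbe1000dde92c7d19ac02c53bbe02c53bbe02c53bbe0b7f2f180b7f2f18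
/-- ranks for `cD` -/
def cDR : ℕ := 0x1203823843032010270160a20482d0490ae0e81985d04a1640581f02a1281b00809e0341202306a0280085f0820c00282d0a81000e0560341481d83c07a01c1902105c09c1f84d0681801100f08c17022806006078010580300742585b0840ac1303e0a00a0088000c61300a02c0a61841885e0c40e42a82f0540a4080170700dc060200261102401b
/-- order for `cD` -/
def cDO : ℕ := 0x2e03c0902e0880402a02a040164290240ae0f00683f0260e82d81b096174180160421382c0010c20ac148020c007c2183e0620701b8380721580700700c1342382f0aa0d4088420180cc2001403c02c0501a064074298490900b41a0040a00981103d0000ec2f823010170278150061680c809058188250050a21183184c06c0a02085e04e09422818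

theorem cD_le : Nat.card (cenA [[1, 3, 1, 2, 1, 4, 3, 4, 2, 4]]) ≤ 3840 :=
  card_cenA_le (VS := cDV) (bs := cDBS) (T := cDT) (R := cDR) (O := cDO) (by decide +kernel) (by decide +kernel)

theorem centralizer_singleton_mem {v g : H0} : g ∈ Subgroup.centralizer {v} ↔ g * v = v * g :=
  Subgroup.mem_centralizer_singleton_iff

theorem S_le_centralizer_a : S ≤ Subgroup.centralizer {a} := fun _ hg => centralizer_singleton_mem.2 (a_comm hg)

theorem prime_dvd_card {C : Subgroup H0} {g : H0} (hg : g ∈ C) {p : ℕ} (hp : p.Prime) (h1 : g ^ p = 1) (h2 : g ≠ 1) :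
    p ∣ Nat.card C := by
  have : Fact p.Prime := ⟨hp⟩
  have h3 : orderOf (⟨g, hg⟩ : C) = p :=
    orderOf_eq_prime (Subtype.ext h1) (fun h => h2 (congrArg Subtype.val h))
  rw [← h3]
  exact orderOf_dvd_natCard _

/-- an element of order 5 in `C(a)` -/
def f5 : H0 := hw [1, 3, 3, 4, 2, 0, 4, 3, 3, 0, 3, 3, 0, 3, 3, 1]

/-- **The order of `C(a)`.** -/
theorem card_centralizer_a : Nat.card (Subgroup.centralizer {a}) = 30720 := by
  apply le_antisymm
  · have h := card_centralizer_le cA_le
    rwa [wset_singleton, hw_a] at h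
  · have h11 : 2 ^ 11 ∣ Nat.card (Subgroup.centralizer {a}) := by
      rw [← card_S]
      exact Subgroup.card_dvd_of_le S_le_centralizer_a
    have h3 : 3 ∣ Nat.card (Subgroup.centralizer {a}) := by
      refine prime_dvd_card (g := gy ^ 2) ?_ Nat.prime_three ?_ ?_
      · rw [centralizer_singleton_mem, a, ← pow_add, ← pow_add]
      · rw [← pow_mul]
        exact rels_H0.r1
      · rw [pow_two, ← hw_y, ← hw_append, ← hw_nil]
        exact hw_ne rfl rfl (p := 3) (by norm_num) (by decide +kernel)
    have h5 : 5 ∣ Nat.card (Subgroup.centralizer {a}) := by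
      refine prime_dvd_card (g := f5) ?_ Nat.prime_five ?_ ?_
      · rw [centralizer_singleton_mem, f5, ← hw_a, ← hw_append, ← hw_append]
        exact hw_eq (by decide +kernel)
      · simp only [pow_succ, pow_zero, one_mul]
        rw [f5, ← hw_append, ← hw_append, ← hw_append, ← hw_append, ← hw_nil]
        exact hw_eq (by decide +kernel)
      · rw [f5, ← hw_nil]
        exact hw_ne rfl rfl (p := 0) (by norm_num) (by decide +kernel)
    have h15 : 2 ^ 11 * (3 * 5) ∣ Nat.card (Subgroup.centralizer {a}) :=
      Nat.Coprime.mul_dvd_of_dvd_of_dvd (by norm_num) h11 (Nat.Coprime.mul_dvd_of_dvd_of_dvd (by norm_num) h3 h5)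
    exact Nat.le_of_dvd Nat.card_pos h15

theorem centralizer_mul_τ (v : H0) : Subgroup.centralizer {v * τ} = Subgroup.centralizer {v} := by
  ext g
  rw [centralizer_singleton_mem, centralizer_singleton_mem]
  have h1 : g * (v * τ) = g * v * τ := (mul_assoc _ _ _).symm
  have h2 : v * τ * g = v * g * τ := by rw [mul_assoc, ← τ_comm, mul_assoc]
  rw [h1, h2]
  exact ⟨fun h => mul_right_cancel h, fun h => by rw [h]⟩

theorem card_centralizer_aτ : Nat.card (Subgroup.centralizer {a * τ}) = 30720 := by
  rw [centralizer_mul_τ, card_centralizer_a]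

/-- If `x` maps `v` to `v τ`, the bound in `autG` is a bound in `H0`. -/
theorem card_centralizer_le_of_conj {w : List ℕ} {N : ℕ} (h : Nat.card (cenA [w]) ≤ N) {x : H0}
    (hx : x⁻¹ * hw w * x = hw w * τ) : Nat.card (Subgroup.centralizer {hw w}) ≤ N := by
  have h1 : hw w * x = x * hw w * τ := by
    rw [mul_assoc x, ← hx]
    group
  have h2 := card_centralizer_le_of_sign h (x := x) ?_ List.mem_cons_self ?_
  · rwa [wset_singleton] at h2
  · refine ⟨range_le ⟨x, rfl⟩, ?_⟩
    change φ x ∈ Subgroup.centralizer (φ '' wset [w])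
    rw [Subgroup.mem_centralizer_iff, wset_singleton]
    rintro _ ⟨_, rfl, rfl⟩
    rw [← map_mul, h1, map_mul, φ_τ, mul_one, map_mul]
  · intro h2
    rw [← h2] at h1
    exact τ_ne_one (mul_eq_left.1 h1.symm)

theorem card_centralizer_z_le : Nat.card (Subgroup.centralizer {gz}) ≤ 80640 := by
  rw [← hw_z]
  exact card_centralizer_le_of_conj cZ_le (x := gx) (by rw [hw_z]; exact hw_z_conj)

theorem card_centralizer_d_le : Nat.card (Subgroup.centralizer {d}) ≤ 3840 :=
  card_centralizer_le_of_conj cD_le hw_d_conj

end Cfsg.Agent.HN.CentUp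
end
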