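import Cfsg.Prelude.Def_Spor_HN
import Cfsg.Agent.Lib.PackMatGroup
import Cfsg.Agent.HN.RepData
set_option linter.all false

/-!
# The 133-dimensional representation over the field with 31 elements of the presented group HN

`rho : Cfsg.Spor.HN →* U C` (`U C` = invertible 133 by 133 matrices over `ZMod 31`).
Letters of words: 0 = x, 1 = x⁻¹, 2 = y, 3 = y⁻¹, 4 = z, 5 = z⁻¹, 6 = t, 7 = t⁻¹; `gens` is the list of these elements
of HN, `L` the list of their packed matrices, `codes_gens` the link.
-/

set_option autoImplicit false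

namespace Cfsg.Agent.HN.Rep

open Cfsg.Agent.Lib.PackMat Cfsg.Agent.Lib.PackMatGroup Cfsg.Agent.HN.RepData

theorem good : C.good = true := by decide +kernel
theorem one_lt : 1 < C.p := by decide

theorem okX : okG C X = true := by decide +kernel
theorem okXI : okG C XI = true := by decide +kernel
theorem okY : okG C Y = true := by decide +kernel
theorem okYI : okG C YI = true := by decide +kernel
theorem okZ : okG C Z = true := by decide +kernel
theorem okT : okG C T = true := by decide +kernel
theorem okTI : okG C TI = true := by decide +kernel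

/-- matrix of x -/
def xg : U C := unit C X XI (mat_mul_eq_one good one_lt okX okXI (by decide +kernel))
/-- matrix of y -/
def yg : U C := unit C Y YI (mat_mul_eq_one good one_lt okY okYI (by decide +kernel))
/-- matrix of z -/
def zg : U C := unit C Z Z (mat_mul_eq_one good one_lt okZ okZ (by decide +kernel))
/-- matrix of t -/
def tg : U C := unit C T TI (mat_mul_eq_one good one_lt okT okTI (by decide +kernel))

/-- The packed matrices of the letters. -/
def L : List ℕ := [X, XI, Y, YI, Z, Z, T, TI]

/-- The matrices of the letters. -/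
def LG : List (U C) := [xg, xg⁻¹, yg, yg⁻¹, zg, zg⁻¹, tg, tg⁻¹]

theorem codes : List.Forall₂ (Codes C) LG L := by
  unfold LG L
  exact .cons (codes_unit _ okX) (.cons (codes_unit_inv _ okXI) (.cons (codes_unit _ okY)
    (.cons (codes_unit_inv _ okYI) (.cons (codes_unit _ okZ) (.cons (codes_unit_inv _ okZ)
    (.cons (codes_unit _ okT) (.cons (codes_unit_inv _ okTI) .nil)))))))

attribute [irreducible] xg yg zg tg

/-- rewrite products of words to normal form -/
macro "word_norm" : tactic => `(tactic| simp only [LG, evG_cons, evG_nil, List.getD_cons_zero,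
  List.getD_cons_succ, mul_one, pow_succ, pow_zero, one_mul, mul_assoc, mul_inv_rev, inv_inv] at *)


/-- word of relator 1 -/
def w1 : List ℕ := [2, 2, 2, 2, 2, 2]
theorem c1_0 : checkScalar C (cw L w1) 1 0 133 = true := by decide +kernel
theorem rel1 : yg ^ 6 = 1 := by
  have h : evG LG w1 = 1 := by
    refine eq_one_of_rows good one_lt codes (by decide) fun i hi => ?_
    have hi' : i < 133 := hi
    exact checkScalar_spec c1_0 i (Nat.zero_le _) (by omega)
  unfold w1 at h
  word_norm
  exact h

/-- word of relator 2 -/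
def w2 : List ℕ := [0, 0, 2, 0, 0, 3]
theorem c2_0 : checkScalar C (cw L w2) 1 0 133 = true := by decide +kernel
theorem rel2 : (xg ^ 2) * yg * (xg ^ 2) * (yg⁻¹) = 1 := by
  have h : evG LG w2 = 1 := by
    refine eq_one_of_rows good one_lt codes (by decide) fun i hi => ?_
    have hi' : i < 133 := hi
    exact checkScalar_spec c2_0 i (Nat.zero_le _) (by omega)
  unfold w2 at h
  word_norm
  exact h

/-- word of relator 3 -/
def w3 : List ℕ := [1, 3, 0, 2, 1, 3, 0, 2, 1, 3, 0, 2]
theorem c3_0 : checkScalar C (cw L w3) 1 0 83 = true := by decide +kernel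
theorem c3_1 : checkScalar C (cw L w3) 1 83 50 = true := by decide +kernel
theorem rel3 : (xg⁻¹ * yg⁻¹ * xg * yg) ^ 3 = 1 := by
  have h : evG LG w3 = 1 := by
    refine eq_one_of_rows good one_lt codes (by decide) fun i hi => ?_
    have hi' : i < 133 := hi
    rcases lt_or_ge i 83 with h0 | h0
    · exact checkScalar_spec c3_0 i (Nat.zero_le _) h0
    exact checkScalar_spec c3_1 i h0 (by omega)
  unfold w3 at h
  word_norm
  exact h

/-- word of relator 4 -/
def w4 : List ℕ := [1, 2, 2, 0, 2, 2, 2, 1, 2, 2, 0, 2, 2, 2, 1, 2, 2, 0, 2, 2, 2]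
theorem c4_0 : checkScalar C (cw L w4) 1 0 47 = true := by decide +kernel
theorem c4_1 : checkScalar C (cw L w4) 1 47 47 = true := by decide +kernel
theorem c4_2 : checkScalar C (cw L w4) 1 94 39 = true := by decide +kernel
theorem rel4 : ((xg⁻¹) * (yg ^ 2) * xg * (yg ^ 3)) ^ 3 = 1 := by
  have h : evG LG w4 = 1 := by
    refine eq_one_of_rows good one_lt codes (by decide) fun i hi => ?_
    have hi' : i < 133 := hi
    rcases lt_or_ge i 47 with h0 | h0
    · exact checkScalar_spec c4_0 i (Nat.zero_le _) h0
    rcases lt_or_ge i 94 with h1 | h1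
    · exact checkScalar_spec c4_1 i h0 h1
    exact checkScalar_spec c4_2 i h1 (by omega)
  unfold w4 at h
  word_norm
  exact h

/-- word of relator 5 -/
def w5 : List ℕ := [0, 2, 0, 2, 0, 2, 0, 2, 0, 2, 0, 2, 0, 2, 0, 2]
theorem c5_0 : checkScalar C (cw L w5) 1 0 62 = true := by decide +kernel
theorem c5_1 : checkScalar C (cw L w5) 1 62 62 = true := by decide +kernel
theorem c5_2 : checkScalar C (cw L w5) 1 124 9 = true := by decide +kernel
theorem rel5 : (xg * yg) ^ 8 = 1 := by
  have h : evG LG w5 = 1 := by
    refine eq_one_of_rows good one_lt codes (by decide) fun i hi => ?_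
    have hi' : i < 133 := hi
    rcases lt_or_ge i 62 with h0 | h0
    · exact checkScalar_spec c5_0 i (Nat.zero_le _) h0
    rcases lt_or_ge i 124 with h1 | h1
    · exact checkScalar_spec c5_1 i h0 h1
    exact checkScalar_spec c5_2 i h1 (by omega)
  unfold w5 at h
  word_norm
  exact h

/-- word of relator 6 -/
def w6 : List ℕ := [0, 2, 0, 2, 2, 2, 0, 2, 0, 2, 2, 2, 0, 2, 0, 2, 2, 2, 0, 2, 0, 2, 2, 2]
theorem c6_0 : checkScalar C (cw L w6) 1 0 41 = true := by decide +kernel
theorem c6_1 : checkScalar C (cw L w6) 1 41 41 = true := by decide +kernel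
theorem c6_2 : checkScalar C (cw L w6) 1 82 41 = true := by decide +kernel
theorem c6_3 : checkScalar C (cw L w6) 1 123 10 = true := by decide +kernel
theorem rel6 : (xg * yg * xg * (yg ^ 3)) ^ 4 = 1 := by
  have h : evG LG w6 = 1 := by
    refine eq_one_of_rows good one_lt codes (by decide) fun i hi => ?_
    have hi' : i < 133 := hi
    rcases lt_or_ge i 41 with h0 | h0
    · exact checkScalar_spec c6_0 i (Nat.zero_le _) h0
    rcases lt_or_ge i 82 with h1 | h1
    · exact checkScalar_spec c6_1 i h0 h1
    rcases lt_or_ge i 123 with h2 | h2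
    · exact checkScalar_spec c6_2 i h1 h2
    exact checkScalar_spec c6_3 i h2 (by omega)
  unfold w6 at h
  word_norm
  exact h

/-- word of relator 7 -/
def w7 : List ℕ := [4, 4]
theorem c7_0 : checkScalar C (cw L w7) 1 0 133 = true := by decide +kernel
theorem rel7 : zg ^ 2 = 1 := by
  have h : evG LG w7 = 1 := by
    refine eq_one_of_rows good one_lt codes (by decide) fun i hi => ?_
    have hi' : i < 133 := hi
    exact checkScalar_spec c7_0 i (Nat.zero_le _) (by omega)
  unfold w7 at h
  word_norm
  exact h

/-- word of relator 8 -/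
def w8 : List ℕ := [4, 0, 4, 0]
theorem c8_0 : checkScalar C (cw L w8) 1 0 133 = true := by decide +kernel
theorem rel8 : (zg * xg) ^ 2 = 1 := by
  have h : evG LG w8 = 1 := by
    refine eq_one_of_rows good one_lt codes (by decide) fun i hi => ?_
    have hi' : i < 133 := hi
    exact checkScalar_spec c8_0 i (Nat.zero_le _) (by omega)
  unfold w8 at h
  word_norm
  exact h

/-- word of relator 9 -/
def w9 : List ℕ := [5, 2, 1, 3, 3, 1, 3, 1, 3, 4, 2, 0, 2, 0, 2, 2, 0, 3, 1, 1]
theorem c9_0 : checkScalar C (cw L w9) 1 0 50 = true := by decide +kernel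
theorem c9_1 : checkScalar C (cw L w9) 1 50 50 = true := by decide +kernel
theorem c9_2 : checkScalar C (cw L w9) 1 100 33 = true := by decide +kernel
theorem rel9 : (zg⁻¹ * (yg * xg * yg * xg * (yg ^ 2) * xg * (yg⁻¹))⁻¹ * zg * (yg * xg * yg * xg * (yg ^ 2) * xg * (yg⁻¹))) * ((xg ^ 2)⁻¹) = 1 := by
  have h : evG LG w9 = 1 := by
    refine eq_one_of_rows good one_lt codes (by decide) fun i hi => ?_
    have hi' : i < 133 := hi
    rcases lt_or_ge i 50 with h0 | h0
    · exact checkScalar_spec c9_0 i (Nat.zero_le _) h0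
    rcases lt_or_ge i 100 with h1 | h1
    · exact checkScalar_spec c9_1 i h0 h1
    exact checkScalar_spec c9_2 i h1 (by omega)
  unfold w9 at h
  word_norm
  exact h

/-- word of relator 10 -/
def w10 : List ℕ := [4, 3, 1, 3, 1, 3, 3, 3, 4, 2, 2, 2, 0, 2, 0, 2, 0, 3, 1, 3, 1, 3, 3, 3, 4, 2, 2, 2, 0, 2, 0, 2, 0, 3, 1, 3, 1, 3, 3, 3, 4, 2, 2, 2, 0, 2, 0, 2, 0]
theorem c10_0 : checkScalar C (cw L w10) 1 0 20 = true := by decide +kernel
theorem c10_1 : checkScalar C (cw L w10) 1 20 20 = true := by decide +kernel
theorem c10_2 : checkScalar C (cw L w10) 1 40 20 = true := by decide +kernel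
theorem c10_3 : checkScalar C (cw L w10) 1 60 20 = true := by decide +kernel
theorem c10_4 : checkScalar C (cw L w10) 1 80 20 = true := by decide +kernel
theorem c10_5 : checkScalar C (cw L w10) 1 100 20 = true := by decide +kernel
theorem c10_6 : checkScalar C (cw L w10) 1 120 13 = true := by decide +kernel
theorem rel10 : zg * (((((yg ^ 3) * xg * yg * xg * yg)⁻¹ * zg * ((yg ^ 3) * xg * yg * xg * yg)) * xg) ^ 3) = 1 := by
  have h : evG LG w10 = 1 := by
    refine eq_one_of_rows good one_lt codes (by decide) fun i hi => ?_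
    have hi' : i < 133 := hi
    rcases lt_or_ge i 20 with h0 | h0
    · exact checkScalar_spec c10_0 i (Nat.zero_le _) h0
    rcases lt_or_ge i 40 with h1 | h1
    · exact checkScalar_spec c10_1 i h0 h1
    rcases lt_or_ge i 60 with h2 | h2
    · exact checkScalar_spec c10_2 i h1 h2
    rcases lt_or_ge i 80 with h3 | h3
    · exact checkScalar_spec c10_3 i h2 h3
    rcases lt_or_ge i 100 with h4 | h4
    · exact checkScalar_spec c10_4 i h3 h4
    rcases lt_or_ge i 120 with h5 | h5
    · exact checkScalar_spec c10_5 i h4 h5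
    exact checkScalar_spec c10_6 i h5 (by omega)
  unfold w10 at h
  word_norm
  exact h

/-- word of relator 11 -/
def w11 : List ℕ := [6, 6, 6, 6, 6]
theorem c11_0 : checkScalar C (cw L w11) 1 0 133 = true := by decide +kernel
theorem rel11 : tg ^ 5 = 1 := by
  have h : evG LG w11 = 1 := by
    refine eq_one_of_rows good one_lt codes (by decide) fun i hi => ?_
    have hi' : i < 133 := hi
    exact checkScalar_spec c11_0 i (Nat.zero_le _) (by omega)
  unfold w11 at h
  word_norm
  exact h

/-- word of relator 12 -/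
def w12 : List ℕ := [1, 6, 0, 6, 6]
theorem c12_0 : checkScalar C (cw L w12) 1 0 133 = true := by decide +kernel
theorem rel12 : (xg⁻¹ * tg * xg) * (tg ^ 2) = 1 := by
  have h : evG LG w12 = 1 := by
    refine eq_one_of_rows good one_lt codes (by decide) fun i hi => ?_
    have hi' : i < 133 := hi
    exact checkScalar_spec c12_0 i (Nat.zero_le _) (by omega)
  unfold w12 at h
  word_norm
  exact h

/-- word of relator 13 -/
def w13 : List ℕ := [7, 3, 6, 2]
theorem c13_0 : checkScalar C (cw L w13) 1 0 133 = true := by decide +kernel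
theorem rel13 : tg⁻¹ * yg⁻¹ * tg * yg = 1 := by
  have h : evG LG w13 = 1 := by
    refine eq_one_of_rows good one_lt codes (by decide) fun i hi => ?_
    have hi' : i < 133 := hi
    exact checkScalar_spec c13_0 i (Nat.zero_le _) (by omega)
  unfold w13 at h
  word_norm
  exact h

/-- word of relator 14 -/
def w14 : List ℕ := [4, 6, 4, 6, 4, 6]
theorem c14_0 : checkScalar C (cw L w14) 1 0 133 = true := by decide +kernel
theorem rel14 : (zg * tg) ^ 3 = 1 := by
  have h : evG LG w14 = 1 := by
    refine eq_one_of_rows good one_lt codes (by decide) fun i hi => ?_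
    have hi' : i < 133 := hi
    exact checkScalar_spec c14_0 i (Nat.zero_le _) (by omega)
  unfold w14 at h
  word_norm
  exact h

/-- images of the generators -/
def genMap : Cfsg.Spor.HN.Gen → U C
  | .x => xg
  | .y => yg
  | .z => zg
  | .t => tg

theorem lift_of (g : Cfsg.Spor.HN.Gen) : FreeGroup.lift genMap (FreeGroup.of g) = genMap g :=
  FreeGroup.lift_apply_of

theorem lift_relator (r : FreeGroup Cfsg.Spor.HN.Gen)
    (hr : r ∈ Cfsg.Spor.coxRelators Cfsg.Spor.HN.edges ∪ {r | r ∈ Cfsg.Spor.HN.extra}) :
    FreeGroup.lift genMap r = 1 := by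
  rcases hr with ⟨g, hg, _⟩ | hr
  · exact absurd hg (by simp [Cfsg.Spor.coxNodes, Cfsg.Spor.HN.edges])
  · have hr' : r ∈ Cfsg.Spor.HN.extra := hr
    unfold Cfsg.Spor.HN.extra at hr'
    simp only [List.mem_cons, List.not_mem_nil, or_false] at hr'
    rcases hr' with rfl | rfl | rfl | rfl | rfl | rfl | rfl | rfl | rfl | rfl | rfl | rfl | rfl | rfl <;>
      simp only [map_mul, map_pow, map_inv, lift_of, genMap]
    · exact rel1
    · exact rel2
    · exact rel3
    · exact rel4
    · exact rel5
    · exact rel6
    · exact rel7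
    · exact rel8
    · exact rel9
    · exact rel10
    · exact rel11
    · exact rel12
    · exact rel13
    · exact rel14

/-- The 133-dimensional representation of the presented group HN. -/
noncomputable def rho : Cfsg.Spor.HN →* U C :=
  PresentedGroup.toGroup (f := genMap) lift_relator

/-- the image of the generator x in HN -/
def x : Cfsg.Spor.HN := PresentedGroup.of Cfsg.Spor.HN.Gen.x
/-- the image of the generator y in HN -/
def y : Cfsg.Spor.HN := PresentedGroup.of Cfsg.Spor.HN.Gen.y
/-- the image of the generator z in HN -/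
def z : Cfsg.Spor.HN := PresentedGroup.of Cfsg.Spor.HN.Gen.z
/-- the image of the generator t in HN -/
def t : Cfsg.Spor.HN := PresentedGroup.of Cfsg.Spor.HN.Gen.t

theorem rho_x : rho x = xg := PresentedGroup.toGroup.of lift_relator
theorem rho_y : rho y = yg := PresentedGroup.toGroup.of lift_relator
theorem rho_z : rho z = zg := PresentedGroup.toGroup.of lift_relator
theorem rho_t : rho t = tg := PresentedGroup.toGroup.of lift_relator

/-- The letters: `x, x⁻¹, y, y⁻¹, z, z⁻¹, t, t⁻¹`. -/
def gens : List Cfsg.Spor.HN := [x, x⁻¹, y, y⁻¹, z, z⁻¹, t, t⁻¹]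

theorem gens_map : gens.map rho = LG := by
  simp only [gens, LG, List.map_cons, List.map_nil, map_inv, rho_x, rho_y, rho_z, rho_t]

/-- The image of a word of HN. -/
theorem rho_word (w : List ℕ) : rho (evG gens w) = evG LG w := by
  rw [← gens_map, evG_map]

/-- HN is generated by x, y, z, t. -/
theorem closure_eq_top : Subgroup.closure {x, y, z, t} = (⊤ : Subgroup Cfsg.Spor.HN) := by
  rw [eq_top_iff, ← PresentedGroup.closure_range_of]
  apply Subgroup.closure_mono
  rintro _ ⟨g, rfl⟩
  cases g
  · exact Or.inl rfl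
  · exact Or.inr (Or.inl rfl)
  · exact Or.inr (Or.inr (Or.inl rfl))
  · exact Or.inr (Or.inr (Or.inr rfl))

end Cfsg.Agent.HN.Rep
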