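import Cfsg.Agent.HN.DCoverData
set_option linter.all false

set_option autoImplicit false

/-!
The nine double cosets `H w_i H` are closed under multiplication by `t`.
-/

namespace Cfsg.Agent.HN.DCover

open Cfsg.Agent.HN.Pres Cfsg.Agent.HN.DCheck Cfsg.Agent.HN.DSem Cfsg.Agent.HN.DData
open Cfsg.Agent.HN.DCert Cfsg.Agent.HN.DCoverData
open Cfsg.Agent.HN.NormalH Cfsg.Agent.SporadicA.PermTab
open Cfsg.Agent.HN.P1408 (hw tr okw il iw hw_append hw_iw fix0 eq_of_tr letG ev eqw U ΓU Γ
  U_eq_ps ψ_hw_inv_apply ψ_injective tr_append)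
open DoubleCoset

/-- label of the point `q` for the double coset number `i` -/
def lab (i q : ℕ) : ℕ := Nat.land (Nat.shiftRight LT (Nat.mul 4 (Nat.add (Nat.mul 1408 i) q))) 15

/-- the field of the point `q` -/
def fldq (T q : ℕ) : ℕ := Nat.land (Nat.shiftRight T (Nat.mul 32 q)) 4294967295

/-- position of the point `q` -/
def posq (T q : ℕ) : ℕ := Nat.shiftRight (fldq T q) 21

/-- check at the point `q` (row `r`, double coset representative number `i`). -/
def chkP (r i T q : ℕ) : Bool :=
  band (Nat.blt (lab r q) 9)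
  (bif Nat.beq (Nat.land (fldq T q) 1) 1 then
    (fun F : Fct => band (Nat.beq F.k 1) (band (Nat.beq F.i i) (band (okw F.a)
      (band (Nat.beq (tr (iw F.a) 0) q) (Nat.beq (nth 0 ids (lab r q)) F.j)))))
      (nth ⟨0, 0, [], 0, []⟩ FL (Nat.land (Nat.shiftRight (fldq T q) 2) 255))
  else
    (fun F : Fct => band (Nat.beq F.k 0) (band (Nat.beq F.i i) (band (Nat.beq F.j i)
      (band (okw F.a) (band (okw F.b)
      ((fun q' => band (Nat.blt q' 1408) (band (Nat.blt (posq T q') (posq T q))
        (band (Nat.beq (lab r q') (lab r q))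
        (bif Nat.beq (Nat.land (fldq T q) 2) 2 then Nat.beq (tr (F.b ++ iw F.a) q') q
          else Nat.beq (tr (F.a ++ iw F.b) q') q))))
        (Nat.land (Nat.shiftRight (fldq T q) 10) 2047)))))))
      (nth ⟨0, 0, [], 0, []⟩ FL (Nat.land (Nat.shiftRight (fldq T q) 2) 255)))

theorem okw_iw {a : List ℕ} (h : okw a = true) : okw (iw a) = true := by
  induction a with
  | nil => rfl
  | cons l a ih =>
    obtain ⟨h1, h2⟩ := P1408.okw_cons h
    have e : iw (l :: a) = iw a ++ [il l] := by rw [iw, iw, List.map_cons, List.reverse_cons]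
    rw [e]
    have hap : ∀ u v : List ℕ, okw u = true → okw v = true → okw (u ++ v) = true := by
      intro u v hu hv
      induction u with
      | nil => exact hv
      | cons m u ihu =>
        obtain ⟨h3, h4⟩ := P1408.okw_cons hu
        change band (Nat.blt m 5) (okw (u ++ v)) = true
        rw [band_eq_true]
        refine ⟨?_, ihu h4⟩
        rw [Nat.blt_eq]; exact h3
    refine hap _ _ (ih h2) ?_
    match l, h1 with
    | 0, _ => rfl
    | 1, _ => rfl
    | 2, _ => rfl
    | 3, _ => rfl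
    | 4, _ => rfl

theorem okw_append {u v : List ℕ} (hu : okw u = true) (hv : okw v = true) : okw (u ++ v) = true := by
  induction u with
  | nil => exact hv
  | cons m u ihu =>
    obtain ⟨h3, h4⟩ := P1408.okw_cons hu
    change band (Nat.blt m 5) (okw (u ++ v)) = true
    rw [band_eq_true]
    refine ⟨?_, ihu h4⟩
    rw [Nat.blt_eq]; exact h3

/-- the point of `g` -/
def pt (g : H0) : Fin 1408 := P1408.ψ g 0

section

variable (hfin : Finite H0) (hle : Nat.card H0 ≤ 177408000)

include hfin hle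

theorem mem_U {u : H0} (h : P1408.ψ u 0 = 0) : u ∈ U := by
  have h1 : P1408.ψ u ∈ ps Γ 0 := ⟨Subgroup.mem_map_of_mem _ trivial, h⟩
  rw [← U_eq_ps hfin hle] at h1
  obtain ⟨g, hg, h2⟩ := h1
  rw [← ψ_injective hfin hle h2]
  exact hg

/-- the claim that the point `q` is labelled correctly -/
def Lab (i q j : ℕ) : Prop := ∀ g : H0, (pt g : ℕ) = q →
  ∃ b ∈ H, R (w i * ψ g * ht) (w j * b)

theorem lab_root {F : Fct} (hF : holds w F) (hk : F.k = 1) (ha : okw F.a = true) {q : ℕ}
    (hq : tr (iw F.a) 0 = q) : Lab F.i q F.j := by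
  intro g hg
  have h1 : P1408.ψ ((hw F.a)⁻¹ * g) 0 = 0 := by
    have h2 : P1408.ψ g 0 = P1408.ψ (hw F.a) 0 := by
      apply Fin.ext
      have h3 := ψ_hw_inv_apply (okw_iw ha) 0
      rw [hw_iw, map_inv, inv_inv] at h3
      rw [h3]
      exact hg.trans hq.symm
    rw [map_mul, Equiv.Perm.mul_apply, h2, ← Equiv.Perm.mul_apply, ← map_mul, inv_mul_cancel,
      map_one, Equiv.Perm.one_apply]
  have hc := comm_U (mem_U hfin hle h1)
  have h5 := (hF.2 hk).mul (ψ ((hw F.a)⁻¹ * g))
  refine ⟨vh F.b * ψ ((hw F.a)⁻¹ * g), H.mul_mem (vh_mem _) (by rw [← range_ψ]; exact ⟨_, rfl⟩), ?_⟩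
  have e : w F.i * ψ g * ht = w F.i * vh F.a * ht * ψ ((hw F.a)⁻¹ * g) := by
    rw [mul_assoc _ ht, ← hc, map_mul, map_inv, vh]
    group
  rw [e, ← mul_assoc]
  exact h5

theorem lab_step {a b : List ℕ} {i q q' j : ℕ} (hF : R (w i * vh a) (w i * vh b))
    (ha : okw a = true) (hb : okw b = true)
    (hq : tr (a ++ iw b) q' = q) (hq' : q' < 1408) (hL : Lab i q' j) : Lab i q j := by
  intro g hg
  have h1 : (pt (hw a * (hw b)⁻¹ * g) : ℕ) = q' := by
    have h3 := ψ_hw_inv_apply (okw_append ha (okw_iw hb)) ⟨q', hq'⟩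
    rw [hw_append, hw_iw] at h3
    have h4 : (P1408.ψ (hw a * (hw b)⁻¹))⁻¹ ⟨q', hq'⟩ = P1408.ψ g 0 := by
      apply Fin.ext
      rw [h3]
      exact hq.trans hg.symm
    change ((P1408.ψ (hw a * (hw b)⁻¹ * g) 0 : Fin 1408) : ℕ) = q'
    rw [map_mul, Equiv.Perm.mul_apply, ← h4, ← Equiv.Perm.mul_apply, mul_inv_cancel,
      Equiv.Perm.one_apply]
  obtain ⟨c, hc, hR⟩ := hL _ h1
  refine ⟨c, hc, R.trans ?_ hR⟩
  apply R.mul
  have h5 := hF.mul ((vh b)⁻¹ * ψ g)
  have e1 : w i * vh b * ((vh b)⁻¹ * ψ g) = w i * ψ g := by group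
  have e2 : w i * vh a * ((vh b)⁻¹ * ψ g) = w i * ψ (hw a * (hw b)⁻¹ * g) := by
    rw [map_mul, map_mul, map_inv, vh, vh]; group
  rw [e1, e2] at h5
  exact h5.symm

theorem lab_all (r i T : ℕ) (hT : allB (chkP r i T) 1408 = true) (n : ℕ) :
    ∀ q < 1408, posq T q = n → Lab i q (nth 0 ids (lab r q)) := by
  induction n using Nat.strong_induction_on with
  | _ n ih =>
    intro q hq hn
    have hc := (allB_iff _ _).1 hT q hq
    have hc' : band (Nat.blt (lab r q) 9)
      (bif Nat.beq (Nat.land (fldq T q) 1) 1 then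
        (fun F : Fct => band (Nat.beq F.k 1) (band (Nat.beq F.i i) (band (okw F.a)
          (band (Nat.beq (tr (iw F.a) 0) q) (Nat.beq (nth 0 ids (lab r q)) F.j)))))
          (nth ⟨0, 0, [], 0, []⟩ FL (Nat.land (Nat.shiftRight (fldq T q) 2) 255))
      else
        (fun F : Fct => band (Nat.beq F.k 0) (band (Nat.beq F.i i) (band (Nat.beq F.j i)
          (band (okw F.a) (band (okw F.b)
          ((fun q' => band (Nat.blt q' 1408) (band (Nat.blt (posq T q') (posq T q))
            (band (Nat.beq (lab r q') (lab r q))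
            (bif Nat.beq (Nat.land (fldq T q) 2) 2 then Nat.beq (tr (F.b ++ iw F.a) q') q
              else Nat.beq (tr (F.a ++ iw F.b) q') q))))
            (Nat.land (Nat.shiftRight (fldq T q) 10) 2047)))))))
          (nth ⟨0, 0, [], 0, []⟩ FL (Nat.land (Nat.shiftRight (fldq T q) 2) 255))) = true := hc
    clear hc
    rw [band_eq_true] at hc'
    obtain ⟨-, hc2⟩ := hc'
    have hlt : Nat.land (Nat.shiftRight (fldq T q) 2) 255 < 176 ∨
        176 ≤ Nat.land (Nat.shiftRight (fldq T q) 2) 255 := Nat.lt_or_ge _ _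
    generalize hf : Nat.land (Nat.shiftRight (fldq T q) 2) 255 = f at hc2 hlt
    have hholds : holds w (nth ⟨0, 0, [], 0, []⟩ FL f) := by
      rcases hlt with h | h
      · exact holds_all hfin hle f h
      · have hdef : ∀ (L : List Fct) (m : ℕ), L.length ≤ m → nth ⟨0, 0, [], 0, []⟩ L m = ⟨0, 0, [], 0, []⟩ := by
          intro L
          induction L with
          | nil => intro m _; rfl
          | cons a L ihL =>
            intro m hm
            change (bif Nat.beq m 0 then a else nth ⟨0, 0, [], 0, []⟩ L (Nat.sub m 1)) = _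
            have hm0 : m ≠ 0 := by rintro rfl; simp at hm
            have : Nat.beq m 0 = false := by
              cases hb : Nat.beq m 0
              · rfl
              · exact absurd (Nat.eq_of_beq_eq_true hb) hm0
            rw [this]
            refine ihL _ ?_
            have e : Nat.sub m 1 = m - 1 := rfl
            rw [e]
            simp only [List.length_cons] at hm
            omega
        rw [hdef FL f (by have : FL.length = 176 := by decide +kernel
                          omega)]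
        refine ⟨fun _ => ?_, fun h => absurd h (by decide)⟩
        exact R.refl _
    generalize nth ⟨0, 0, [], 0, []⟩ FL f = F at hc2 hholds
    cases h1 : Nat.beq (Nat.land (fldq T q) 1) 1 with
    | true =>
      rw [h1] at hc2
      have hc3 : band (Nat.beq F.k 1) (band (Nat.beq F.i i) (band (okw F.a)
          (band (Nat.beq (tr (iw F.a) 0) q) (Nat.beq (nth 0 ids (lab r q)) F.j)))) = true := hc2
      simp only [band_eq_true] at hc3
      obtain ⟨hk, hi, ha, hq2, hj⟩ := hc3
      have hi' := Nat.eq_of_beq_eq_true hi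
      rw [Nat.eq_of_beq_eq_true hj, ← hi']
      exact lab_root hfin hle hholds (Nat.eq_of_beq_eq_true hk) ha (Nat.eq_of_beq_eq_true hq2)
    | false =>
      rw [h1] at hc2
      have hc3 : (fun F : Fct => band (Nat.beq F.k 0) (band (Nat.beq F.i i) (band (Nat.beq F.j i)
          (band (okw F.a) (band (okw F.b)
          ((fun q' => band (Nat.blt q' 1408) (band (Nat.blt (posq T q') (posq T q))
            (band (Nat.beq (lab r q') (lab r q))
            (bif Nat.beq (Nat.land (fldq T q) 2) 2 then Nat.beq (tr (F.b ++ iw F.a) q') q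
              else Nat.beq (tr (F.a ++ iw F.b) q') q))))
            (Nat.land (Nat.shiftRight (fldq T q) 10) 2047))))))) F = true := hc2
      simp only [band_eq_true] at hc3
      obtain ⟨hk, hi, hj, ha, hb, hq'lt, hpos, hlab, hstep⟩ := hc3
      generalize Nat.land (Nat.shiftRight (fldq T q) 10) 2047 = q' at hq'lt hpos hlab hstep
      have hi' := Nat.eq_of_beq_eq_true hi
      have hj' := Nat.eq_of_beq_eq_true hj
      rw [Nat.blt_eq] at hq'lt hpos
      have hL := ih _ (hn ▸ hpos) q' hq'lt rfl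
      rw [Nat.eq_of_beq_eq_true hlab] at hL
      have hR := hholds.1 (Nat.eq_of_beq_eq_true hk)
      rw [hi', hj'] at hR
      cases h2 : Nat.beq (Nat.land (fldq T q) 2) 2 with
      | true =>
        rw [h2] at hstep
        exact lab_step hfin hle hR.symm hb ha (Nat.eq_of_beq_eq_true hstep) hq'lt hL
      | false =>
        rw [h2] at hstep
        exact lab_step hfin hle hR ha hb (Nat.eq_of_beq_eq_true hstep) hq'lt hL

end

set_option maxRecDepth 100000 in
theorem k0 : allB (chkP 0 0 T0) 1408 = true := by decide +kernel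
set_option maxRecDepth 100000 in
theorem k1 : allB (chkP 1 1 T1) 1408 = true := by decide +kernel
set_option maxRecDepth 100000 in
theorem k2 : allB (chkP 2 2 T2) 1408 = true := by decide +kernel
set_option maxRecDepth 100000 in
theorem k3 : allB (chkP 3 3 T3) 1408 = true := by decide +kernel
set_option maxRecDepth 100000 in
theorem k4 : allB (chkP 4 8 T4) 1408 = true := by decide +kernel
set_option maxRecDepth 100000 in
theorem k5 : allB (chkP 5 11 T5) 1408 = true := by decide +kernel
set_option maxRecDepth 100000 in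
theorem k6 : allB (chkP 6 13 T6) 1408 = true := by decide +kernel
set_option maxRecDepth 100000 in
theorem k7 : allB (chkP 7 17 T7) 1408 = true := by decide +kernel
set_option maxRecDepth 100000 in
theorem k8 : allB (chkP 8 19 T8) 1408 = true := by decide +kernel

/-- the nine representatives -/
noncomputable def w9 (i : Fin 9) : Cfsg.Spor.HN := w (nth 0 ids i)

theorem lab_lt (r i T : ℕ) (hT : allB (chkP r i T) 1408 = true) (q : ℕ) (hq : q < 1408) : lab r q < 9 := by
  have hc := (allB_iff _ _).1 hT q hq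
  rw [chkP, band_eq_true, Nat.blt_eq] at hc
  exact hc.1

theorem lab_lt' (i : Fin 9) (q : Fin 1408) : lab i q < 9 := by
  fin_cases i
  · exact lab_lt 0 0 T0 k0 q q.2
  · exact lab_lt 1 1 T1 k1 q q.2
  · exact lab_lt 2 2 T2 k2 q q.2
  · exact lab_lt 3 3 T3 k3 q q.2
  · exact lab_lt 4 8 T4 k4 q q.2
  · exact lab_lt 5 11 T5 k5 q q.2
  · exact lab_lt 6 13 T6 k6 q q.2
  · exact lab_lt 7 17 T7 k7 q q.2
  · exact lab_lt 8 19 T8 k8 q q.2

/-- the labels -/
def τ (i : Fin 9) (q : Fin 1408) : Fin 9 := ⟨lab i q, lab_lt' i q⟩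

section

variable (hfin : Finite H0) (hle : Nat.card H0 ≤ 177408000)

include hfin hle

/-- **Closure under `t`.** -/
theorem closure_t (i : Fin 9) (g : H0) : ∃ a ∈ H, ∃ b ∈ H,
    w9 i * ψ g * ht = a * w9 (τ i (pt g)) * b := by
  have key : ∀ (r i' T : ℕ), allB (chkP r i' T) 1408 = true → ∃ b ∈ H,
      R (w i' * ψ g * ht) (w (nth 0 ids (lab r (pt g))) * b) := fun r i' T hT =>
    lab_all hfin hle r i' T hT _ (pt g) (pt g).2 rfl g rfl
  have hmain : ∃ b ∈ H, R (w9 i * ψ g * ht) (w9 (τ i (pt g)) * b) := by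
    fin_cases i
    · exact key 0 0 T0 k0
    · exact key 1 1 T1 k1
    · exact key 2 2 T2 k2
    · exact key 3 3 T3 k3
    · exact key 4 8 T4 k4
    · exact key 5 11 T5 k5
    · exact key 6 13 T6 k6
    · exact key 7 17 T7 k7
    · exact key 8 19 T8 k8
  obtain ⟨b, hb, hR⟩ := hmain
  refine ⟨_, hR, b, hb, ?_⟩
  group

end

end Cfsg.Agent.HN.DCover
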