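import Cfsg.Agent.HN.HS100
set_option linter.all false

set_option autoImplicit false

/-!
The automorphism group of the Higman–Sims graph (adjacency matrix `adjA`) has order 88704000; it is
generated by `X, Y, Z`, and `Q` (the group generated by `X, Y, Z Y Z`) is its even part, of order 44352000.
-/

namespace Cfsg.Agent.HN.AutBound

open Cfsg.Agent.SporadicA.PermTab Cfsg.Agent.HN.Pres Cfsg.Agent.HN.HS100 Equiv

def bsA : List (ℕ × ℕ) := [(0, 100), (1, 77), (3, 60), (2, 12), (25, 2), (4, 4), (6, 2), (28, 1), (41, 1), (33, 1), (11, 1), (5, 1), (7, 1), (9, 1), (10, 1), (14, 1), (16, 1), (8, 1), (12, 1), (13, 1), (15, 1)]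
def ordO : ℕ := 0x2216812824096074018020c2084008480500880d8260541082f01f0b20fc318190620ec2b812046054030320560201f0270261482984305a038248290b81601a0410080001b00707a180238390c41380b05603c0401702c0a805c1c05d038134278090981400684a06e1140d05b030144100050801100604606a028058550780e80a00f06617c17830
def ordR : ℕ := 0x9a0ac2d82e00414410037028188278360920a00402307a0f80901a03a0a80f01b0be0601c85805a0300b00e0781481a00f09c104178070940181602102e0c405835006110258000020941d82408614c1c0570801503086008e1582d0110a009c2f01f0aa054260130440a42300507e120318260080e80c80d0120280e042060114080330ba1702c832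

theorem chain_ok : chainB 100 adjA [] bsA = true := by decide +kernel

theorem dist_ok : chkDist 100 adjA (maskL (lastF [] bsA)) ordR ordO = true := by decide +kernel

theorem card_autG_le' : Nat.card (autG 100 adjA) ≤ 88704000 := by
  have h := card_autG_le chain_ok dist_ok
  have h2 : prodC bsA = 88704000 := by decide +kernel
  rwa [h2] at h

theorem sign_Q {g : Perm (Fin 100)} (hg : g ∈ Q) : Perm.sign g = 1 := by
  obtain ⟨k, hk, rfl⟩ := hg
  exact hk

theorem Z_mem : Z ∈ autG 100 adjA := range_le ⟨gz, φ_gz⟩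

theorem card_Q : Nat.card Q = 44352000 := by
  have h1 := two_mul_card_le Q_le (fun g hg => sign_Q hg) Z_mem sign_Z
  have h2 := card_autG_le'
  have h3 := card_Q_ge
  omega

theorem card_autG : Nat.card (autG 100 adjA) = 88704000 := by
  have h1 := two_mul_card_le Q_le (fun g hg => sign_Q hg) Z_mem sign_Z
  have h2 := card_autG_le'
  have h3 := card_Q_ge
  omega

/-- the even automorphisms form `Q`. -/
theorem mem_Q_iff {g : Perm (Fin 100)} : g ∈ Q ↔ g ∈ autG 100 adjA ∧ Perm.sign g = 1 := by
  constructor
  · intro h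
    exact ⟨Q_le h, sign_Q h⟩
  · rintro ⟨h1, h2⟩
    let E : Subgroup (Perm (Fin 100)) := autG 100 adjA ⊓ Perm.sign.ker
    have h3 : 2 * Nat.card E ≤ Nat.card (autG 100 adjA) :=
      two_mul_card_le inf_le_left (fun g hg => hg.2) Z_mem sign_Z
    have h4 : Q ≤ E := fun g hg => ⟨Q_le hg, sign_Q hg⟩
    have h5 : Q = E := by
      apply Subgroup.eq_of_le_of_card_ge h4
      rw [card_Q]
      rw [card_autG] at h3
      omega
    rw [h5]
    exact ⟨h1, h2⟩

theorem range_eq : φ.range = autG 100 adjA := by
  apply Subgroup.eq_of_le_of_card_ge range_le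
  have h1 : Q ≤ φ.range := by
    rintro _ ⟨g, -, rfl⟩
    exact ⟨g, rfl⟩
  have h2 : 2 * Nat.card Q ≤ Nat.card φ.range :=
    two_mul_card_le h1 (fun g hg => sign_Q hg) ⟨gz, φ_gz⟩ sign_Z
  rw [card_autG]
  rw [card_Q] at h2
  exact h2

theorem card_range : Nat.card φ.range = 88704000 := by rw [range_eq, card_autG]

end Cfsg.Agent.HN.AutBound
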