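import Cfsg.Agent.HN.AutBound
import Cfsg.Agent.HN.DoubleCover
set_option linter.all false

-- part: HN/SrgHS
section
set_option autoImplicit false

/-!
The graph `adjA` on 100 points is strongly regular with parameters (100, 22, 0, 6); Cauchy-type identities
for subsets.
-/

namespace Cfsg.Agent.HN.SrgHS

open Cfsg.Agent.SporadicA.PermTab Cfsg.Agent.HN.Pres Cfsg.Agent.HN.HS100 Equiv Finset

/-- the adjacency function (with values 0 and 1) -/
def ad (u v : Fin 100) : ℕ := bitM 100 adjA u v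

def sumN (f : ℕ → ℕ) (n : ℕ) : ℕ := Nat.rec 0 (fun k ih => Nat.add (f k) ih) n

theorem sumN_eq (f : ℕ → ℕ) (n : ℕ) : sumN f n = ∑ i ∈ range n, f i := by
  induction n with
  | zero => rfl
  | succ n ih =>
    change f n + sumN f n = _
    rw [sum_range_succ, ← ih, add_comm]

theorem ad_zero_or_one (u v : Fin 100) : ad u v = 0 ∨ ad u v = 1 := by
  rw [ad, bitM_eq]
  cases Nat.testBit adjA (100 * (u : ℕ) + v) <;> simp

theorem chkSym : allB (fun i => allB (fun j => Nat.beq (bitM 100 adjA i j) (bitM 100 adjA j i)) 100) 100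
    = true := by decide +kernel

theorem ad_symm (u v : Fin 100) : ad u v = ad v u := by
  have h := (allB_iff _ _).1 ((allB_iff _ _).1 chkSym u u.2) v v.2
  exact Nat.eq_of_beq_eq_true h

theorem chkIrr : allB (fun i => Nat.beq (bitM 100 adjA i i) 0) 100 = true := by decide +kernel

theorem ad_self (u : Fin 100) : ad u u = 0 :=
  Nat.eq_of_beq_eq_true ((allB_iff _ _).1 chkIrr u u.2)

theorem chkDeg : Nat.beq (sumN (fun w => bitM 100 adjA 0 w) 100) 22 = true := by decide +kernel

theorem chkSrg : allB (fun v => Nat.beq (Nat.add (sumN (fun w => Nat.mul (bitM 100 adjA 0 w) (bitM 100 adjA v w))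
    100) (Nat.mul 6 (bitM 100 adjA 0 v))) (cond (Nat.beq v 0) 22 6)) 100 = true := by decide +kernel

theorem ad_map {g : Perm (Fin 100)} (hg : g ∈ autG 100 adjA) (u v : Fin 100) :
    ad (g u) (g v) = ad u v := hg u v

theorem ad_map_Q {g : Perm (Fin 100)} (hg : g ∈ Q) (u v : Fin 100) : ad (g u) (g v) = ad u v :=
  ad_map (Q_le hg) u v

theorem exists_map (u v : Fin 100) : ∃ g ∈ Q, g u = v := by
  obtain ⟨⟨g, hg⟩, h⟩ := trans_Q.exists_smul_eq u v
  exact ⟨g, hg, h⟩

theorem deg (u : Fin 100) : ∑ w, ad u w = 22 := by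
  obtain ⟨g, hg, rfl⟩ := exists_map 0 u
  rw [← Equiv.sum_comp g]
  simp only [ad_map_Q hg]
  have h := Nat.eq_of_beq_eq_true chkDeg
  rw [sumN_eq, Finset.sum_range] at h
  exact h

theorem srg (u v : Fin 100) : ∑ w, ad u w * ad v w + 6 * ad u v = if v = u then 22 else 6 := by
  obtain ⟨g, hg, rfl⟩ := exists_map 0 u
  obtain ⟨v, rfl⟩ := g.surjective v
  rw [← Equiv.sum_comp g]
  simp only [ad_map_Q hg, EmbeddingLike.apply_eq_iff_eq]
  have h := Nat.eq_of_beq_eq_true ((allB_iff _ _).1 chkSrg v v.2)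
  rw [sumN_eq, Finset.sum_range] at h
  have h2 : (if v = 0 then 22 else 6 : ℕ) = cond (Nat.beq v 0) 22 6 := by
    by_cases hv : v = 0
    · subst hv; rfl
    · rw [if_neg hv]
      have : Nat.beq (v : ℕ) 0 = false := by
        rw [Bool.eq_false_iff]
        intro h3
        exact hv (Fin.ext (Nat.eq_of_beq_eq_true h3))
      rw [this]
      rfl
  rw [h2]
  exact h

/-- triangle-free -/
theorem no_triangle {u v w : Fin 100} (h1 : ad u v = 1) (h2 : ad u w = 1) (h3 : ad v w = 1) : False := by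
  have h := srg u v
  have hne : v ≠ u := by
    rintro rfl
    rw [ad_self] at h1
    exact absurd h1 (by decide)
  rw [if_neg hne, h1] at h
  have h4 : ∑ w, ad u w * ad v w = 0 := by omega
  rw [Finset.sum_eq_zero_iff] at h4
  have h5 := h4 w (mem_univ w)
  rw [h2, h3] at h5
  exact absurd h5 (by decide)

/-- the number of neighbours of `w` in `O` -/
def nb (O : Finset (Fin 100)) (w : Fin 100) : ℤ := ∑ v ∈ O, (ad w v : ℤ)

theorem sum_nb (O : Finset (Fin 100)) : ∑ w, nb O w = 22 * O.card := by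
  unfold nb
  rw [Finset.sum_comm]
  have : ∀ v ∈ O, ∑ w, (ad w v : ℤ) = 22 := by
    intro v _
    have h := deg v
    have h2 : ∑ w, ad w v = 22 := by
      rw [← h]
      exact Finset.sum_congr rfl fun w _ => ad_symm w v
    rw [← Nat.cast_sum, h2]
    rfl
  rw [Finset.sum_congr rfl this, Finset.sum_const, nsmul_eq_mul, mul_comm]

theorem sum_nb_sq (O : Finset (Fin 100)) :
    ∑ w, nb O w ^ 2 = 16 * O.card + 6 * O.card ^ 2 - 6 * ∑ u ∈ O, nb O u := by
  have h1 : ∀ w, nb O w ^ 2 = ∑ u ∈ O, ∑ v ∈ O, (ad w u : ℤ) * ad w v := by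
    intro w
    rw [sq, nb, Finset.sum_mul_sum]
  have h2 : ∀ u v : Fin 100, ∑ w, (ad w u : ℤ) * ad w v = (if v = u then 22 else 6) - 6 * (ad u v : ℤ) := by
    intro u v
    have h := srg u v
    have h3 : ∑ w, ad w u * ad w v = ∑ w, ad u w * ad v w :=
      Finset.sum_congr rfl fun w _ => by rw [ad_symm w u, ad_symm w v]
    have h4 : (∑ w, (ad w u : ℤ) * ad w v) = ((∑ w, ad w u * ad w v : ℕ) : ℤ) := by
      push_cast
      rfl
    rw [h4, h3]
    split_ifs with h5
    · rw [if_pos h5] at h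
      have : (((∑ w, ad u w * ad v w + 6 * ad u v : ℕ)) : ℤ) = 22 := by rw [h]; rfl
      push_cast at this ⊢
      linarith
    · rw [if_neg h5] at h
      have : (((∑ w, ad u w * ad v w + 6 * ad u v : ℕ)) : ℤ) = 6 := by rw [h]; rfl
      push_cast at this ⊢
      linarith
  simp only [h1]
  rw [Finset.sum_comm]
  have h3 : ∀ u ∈ O, ∑ w, ∑ v ∈ O, (ad w u : ℤ) * ad w v = 16 + 6 * O.card - 6 * nb O u := by
    intro u hu
    rw [Finset.sum_comm]
    simp only [h2]
    rw [Finset.sum_sub_distrib, ← Finset.mul_sum]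
    have h4 : ∑ v ∈ O, (if v = u then (22 : ℤ) else 6) = 16 + 6 * O.card := by
      have h5 : ∀ v ∈ O, (if v = u then (22 : ℤ) else 6) = (if v = u then (16 : ℤ) else 0) + 6 := by
        intro v _
        split_ifs <;> rfl
      rw [Finset.sum_congr rfl h5, Finset.sum_add_distrib, Finset.sum_ite_eq' O u (fun _ => (16 : ℤ)),
        if_pos hu, Finset.sum_const, nsmul_eq_mul, mul_comm]
    rw [h4]
    rfl
  rw [Finset.sum_congr rfl h3, Finset.sum_sub_distrib, Finset.sum_const, nsmul_eq_mul, ← Finset.mul_sum]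
  ring

end Cfsg.Agent.HN.SrgHS
end

-- part: HN/FixPoint
section
set_option autoImplicit false

/-!
Every subgroup of order 443520 of the Higman–Sims group (acting on 100 points) fixes a point.
-/

namespace Cfsg.Agent.HN.FixPoint

open Cfsg.Agent.SporadicA.PermTab Cfsg.Agent.HN.Pres Cfsg.Agent.HN.HS100 Cfsg.Agent.HN.SrgHS Equiv Finset
open Cfsg.Agent.HN.AutBound

/-- fixed points of a permutation of prime order on an invariant set. -/
theorem card_modEq {p : ℕ} [hp : Fact p.Prime] {g : Perm (Fin 100)} (hg : g ^ p = 1) (S : Finset (Fin 100))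
    (hS : ∀ x ∈ S, g x ∈ S) : S.card ≡ (S.filter (fun x => g x = x)).card [MOD p] := by
  classical
  let f : Function.End S := fun x => ⟨g x, hS x x.2⟩
  have hpow : ∀ n : ℕ, ∀ x : S, ((f ^ n) x : Fin 100) = (g ^ n) x := by
    intro n
    induction n with
    | zero => intro x; rfl
    | succ n ih =>
      intro x
      rw [pow_succ', pow_succ']
      change g ((f ^ n) x : Fin 100) = g ((g ^ n) x)
      rw [ih]
  have hf : f ^ p ^ 1 = 1 := by
    funext x
    apply Subtype.ext
    rw [pow_one, hpow, hg]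
    rfl
  have h := Equiv.Perm.card_fixedPoints_modEq (p := p) (n := 1) hf
  rw [Fintype.card_coe] at h
  refine h.trans ?_
  have h2 : Fintype.card (Function.fixedPoints f) = (S.filter (fun x => g x = x)).card := by
    rw [← Set.toFinset_card]
    refine Finset.card_bij (fun x _ => (x : Fin 100)) ?_ ?_ ?_
    · intro x hx
      rw [Set.mem_toFinset] at hx
      rw [Finset.mem_filter]
      exact ⟨x.2, congrArg Subtype.val hx⟩
    · intro x _ y _ h
      exact Subtype.ext h
    · intro x hx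
      rw [Finset.mem_filter] at hx
      refine ⟨⟨x, hx.1⟩, ?_, rfl⟩
      rw [Set.mem_toFinset]
      exact Subtype.ext hx.2
  rw [h2]

/-- the orbits of a point stabiliser -/
theorem ad_of_mem_orbit {u v w : Fin 100} (h : ∃ g ∈ Q, g u = u ∧ g v = w) : ad u v = ad u w := by
  obtain ⟨g, hg, h1, h2⟩ := h
  rw [← ad_map_Q hg u v, h1, h2]

theorem mem_orbit_iff {G : Subgroup (Perm (Fin 100))} {b v : Fin 100} :
    v ∈ MulAction.orbit G b ↔ ∃ g ∈ G, g b = v := by
  constructor
  · rintro ⟨⟨g, hg⟩, rfl⟩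
    exact ⟨g, hg, rfl⟩
  · rintro ⟨g, hg, rfl⟩
    exact ⟨⟨g, hg⟩, rfl⟩

theorem card_Q1 : Nat.card Q1 = 443520 := by
  have h := card_eq_mul_card_ps Q (0 : Fin 100)
  rw [card_Q] at h
  have h2 : (MulAction.orbit Q (0 : Fin 100)).ncard = 100 := by
    have : MulAction.orbit Q (0 : Fin 100) = Set.univ := by
      rw [Set.eq_univ_iff_forall]
      intro v
      exact mem_orbit_iff.2 (exists_map 0 v)
    rw [this, Set.ncard_univ, Nat.card_eq_fintype_card, Fintype.card_fin]
  rw [h2] at h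
  change Nat.card (ps Q 0) = 443520
  omega

theorem orbit_eq (b : Fin 100) : MulAction.orbit (MulAction.stabilizer Q (0 : Fin 100)) b =
    MulAction.orbit Q1 b := by
  ext v
  rw [mem_orbit_iff', mem_orbit_iff]

theorem card_22 : ({v : Fin 100 | ad 0 v = 1} : Set (Fin 100)).ncard = 22 := by
  have h := card_fin_of_cntB _ 100 22 cnt22
  rw [← Set.ncard_coe_finset] at h
  rw [← h]
  congr 1
  ext v
  simp only [Set.mem_ofPred_eq, coe_filter, mem_univ, true_and]
  exact (iff_of_eq Nat.beq_eq).symm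

theorem card_77 : ({v : Fin 100 | v ≠ 0 ∧ ad 0 v = 0} : Set (Fin 100)).ncard = 77 := by
  have h := card_fin_of_cntB _ 100 77 cnt77
  rw [← Set.ncard_coe_finset] at h
  rw [← h]
  congr 1
  ext v
  simp only [Set.mem_ofPred_eq, coe_filter, mem_univ, true_and]
  rw [band_eq_true, nbeq_iff]
  exact and_congr (not_congr Fin.ext_iff) (iff_of_eq Nat.beq_eq).symm

theorem orb22 {v : Fin 100} (h : ad 0 v = 1) : ∃ g ∈ Q1, g 2 = v := by
  have h1 : MulAction.orbit (MulAction.stabilizer Q (0 : Fin 100)) (2 : Fin 100) =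
      {v : Fin 100 | ad 0 v = 1} := by
    refine Set.eq_of_subset_of_ncard_le ?_ (by rw [orbit22, card_22]) (Set.toFinite _)
    intro w hw
    obtain ⟨g, ⟨hg, h0⟩, rfl⟩ := mem_orbit_iff'.1 hw
    have h2 := ad_map_Q hg 0 2
    rw [h0] at h2
    change ad 0 (g 2) = 1
    rw [h2]
    decide +kernel
  exact mem_orbit_iff'.1 (h1 ▸ h : v ∈ MulAction.orbit (MulAction.stabilizer Q (0 : Fin 100)) (2 : Fin 100))

theorem orb77 {v : Fin 100} (h0 : v ≠ 0) (h : ad 0 v = 0) : ∃ g ∈ Q1, g 1 = v := by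
  have h1 : MulAction.orbit (MulAction.stabilizer Q (0 : Fin 100)) (1 : Fin 100) =
      {v : Fin 100 | v ≠ 0 ∧ ad 0 v = 0} := by
    refine Set.eq_of_subset_of_ncard_le ?_ (by rw [orbit77, card_77]) (Set.toFinite _)
    intro w hw
    obtain ⟨g, ⟨hg, h0⟩, rfl⟩ := mem_orbit_iff'.1 hw
    have h2 := ad_map_Q hg 0 1
    rw [h0] at h2
    refine ⟨fun h3 => ?_, ?_⟩
    · rw [← h0] at h3
      exact absurd (g.injective h3) (by decide)
    · rw [h2]
      decide +kernel
  exact mem_orbit_iff'.1 (h1 ▸ (⟨h0, h⟩ : v ≠ 0 ∧ ad 0 v = 0) :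
    v ∈ MulAction.orbit (MulAction.stabilizer Q (0 : Fin 100)) (1 : Fin 100))

theorem card_ps2 : Nat.card (ps Q1 2) = 20160 := by
  have h := card_eq_mul_card_ps Q1 (2 : Fin 100)
  rw [← orbit_eq, orbit22, card_Q1] at h
  omega

theorem card_ps1 : Nat.card (ps Q1 1) = 5760 := by
  have h := card_eq_mul_card_ps Q1 (1 : Fin 100)
  rw [← orbit_eq, orbit77, card_Q1] at h
  omega

/-- elements of prime order fixing two points. -/
theorem two_fixed {p : ℕ} (hp : p.Prime) {g : Perm (Fin 100)} (hg : g ∈ Q) (hgp : g ^ p = 1) (hg1 : g ≠ 1)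
    {u v : Fin 100} (huv : v ≠ u) (hu : g u = u) (hv : g v = v) :
    (ad u v = 1 ∧ p ∣ 20160) ∨ (ad u v = 0 ∧ p ∣ 5760) := by
  have : Fact p.Prime := ⟨hp⟩
  have key : ∀ (c : Fin 100) (k : Perm (Fin 100)), k ∈ Q → k 0 = u → k c = v → p ∣ Nat.card (ps Q1 c) := by
    intro c k hk h0 hc
    have hm : k⁻¹ * g * k ∈ ps Q1 c := by
      refine ⟨⟨Q.mul_mem (Q.mul_mem (Q.inv_mem hk) hg) hk, ?_⟩, ?_⟩
      · rw [Perm.mul_apply, Perm.mul_apply, h0, hu, Perm.inv_eq_iff_eq, h0]
      · rw [Perm.mul_apply, Perm.mul_apply, hc, hv, Perm.inv_eq_iff_eq, hc]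
    have ho : orderOf (⟨k⁻¹ * g * k, hm⟩ : ps Q1 c) = p := by
      refine orderOf_eq_prime ?_ ?_
      · apply Subtype.ext
        change (k⁻¹ * g * k) ^ p = 1
        have : k⁻¹ * g * k = k⁻¹ * g * (k⁻¹)⁻¹ := by rw [inv_inv]
        rw [this, conj_pow, hgp, mul_one, mul_inv_cancel]
      · intro h
        have h2 : k⁻¹ * g * k = 1 := congrArg Subtype.val h
        apply hg1
        have h3 : g = k * (k⁻¹ * g * k) * k⁻¹ := by group
        rw [h3, h2]
        group
    rw [← ho]
    exact orderOf_dvd_natCard _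
  obtain ⟨k, hk, rfl⟩ := exists_map 0 u
  obtain ⟨w, rfl⟩ := k.surjective v
  have hw0 : w ≠ 0 := fun h => huv (by rw [h])
  rw [ad_map_Q hk]
  rcases ad_zero_or_one 0 w with h | h
  · obtain ⟨l, hl, hl2⟩ := orb77 hw0 h
    right
    refine ⟨h, ?_⟩
    rw [← card_ps1]
    refine key 1 (k * l) (Q.mul_mem hk hl.1) ?_ ?_
    · rw [Perm.mul_apply, hl.2]
    · rw [Perm.mul_apply, hl2]
  · obtain ⟨l, hl, hl2⟩ := orb22 h
    left
    refine ⟨h, ?_⟩
    rw [← card_ps2]
    refine key 2 (k * l) (Q.mul_mem hk hl.1) ?_ ?_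
    · rw [Perm.mul_apply, hl.2]
    · rw [Perm.mul_apply, hl2]

theorem fix11 {g : Perm (Fin 100)} (hg : g ∈ Q) (hgp : g ^ 11 = 1) (hg1 : g ≠ 1)
    {u v : Fin 100} (hu : g u = u) (hv : g v = v) : v = u := by
  by_contra huv
  rcases two_fixed (by norm_num) hg hgp hg1 huv hu hv with h | h
  · exact absurd h.2 (by norm_num)
  · exact absurd h.2 (by norm_num)

theorem fix7 {g : Perm (Fin 100)} (hg : g ∈ Q) (hgp : g ^ 7 = 1) (hg1 : g ≠ 1) :
    ((univ : Finset (Fin 100)).filter (fun x => g x = x)).card ≤ 2 := by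
  by_contra hcon
  push Not at hcon
  obtain ⟨a, b, c, ha, hb, hc, hab, hac, hbc⟩ := Finset.two_lt_card_iff.1 hcon
  simp only [mem_filter, mem_univ, true_and] at ha hb hc
  have h1 : ∀ u v : Fin 100, v ≠ u → g u = u → g v = v → ad u v = 1 := by
    intro u v huv hu hv
    rcases two_fixed (by norm_num) hg hgp hg1 huv hu hv with h | h
    · exact h.1
    · exact absurd h.2 (by norm_num)
  exact no_triangle (h1 a b hab.symm ha hb) (h1 a c hac.symm ha hc) (h1 b c hbc.symm hb hc)

/-- invariant sets under an element of order 11 -/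
theorem mod11 {g : Perm (Fin 100)} (hg : g ∈ Q) (hgp : g ^ 11 = 1) (hg1 : g ≠ 1) {β : Fin 100}
    (hβ : g β = β) (S : Finset (Fin 100)) (hS : ∀ x ∈ S, g x ∈ S) :
    (β ∈ S → S.card % 11 = 1) ∧ (β ∉ S → S.card % 11 = 0) := by
  have : Fact (Nat.Prime 11) := ⟨by norm_num⟩
  have h := card_modEq hgp S hS
  constructor
  · intro h2
    have h3 : S.filter (fun x => g x = x) = {β} := by
      ext x
      simp only [mem_filter, mem_singleton]
      constructor
      · rintro ⟨-, hx⟩
        exact fix11 hg hgp hg1 hβ hx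
      · rintro rfl
        exact ⟨h2, hβ⟩
    rw [h3, card_singleton] at h
    exact h
  · intro h2
    have h3 : S.filter (fun x => g x = x) = ∅ := by
      rw [Finset.filter_eq_empty_iff]
      intro x hx hgx
      apply h2
      rw [← fix11 hg hgp hg1 hβ hgx]
      exact hx
    rw [h3, card_empty] at h
    exact h

theorem exists_fix11 {g : Perm (Fin 100)} (hgp : g ^ 11 = 1) :
    ∃ β, g β = β := by
  have : Fact (Nat.Prime 11) := ⟨by norm_num⟩
  have h := card_modEq hgp univ (fun _ _ => mem_univ _)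
  by_contra hcon
  push Not at hcon
  have h3 : (univ : Finset (Fin 100)).filter (fun x => g x = x) = ∅ := by
    rw [Finset.filter_eq_empty_iff]
    intro x _
    exact hcon x
  rw [h3, card_empty, card_univ, Fintype.card_fin] at h
  exact absurd h (by decide)

theorem mod7 {g : Perm (Fin 100)} (hg : g ∈ Q) (hgp : g ^ 7 = 1) (hg1 : g ≠ 1)
    (S : Finset (Fin 100)) (hS : ∀ x ∈ S, g x ∈ S) : S.card % 7 ≤ 2 := by
  have : Fact (Nat.Prime 7) := ⟨by norm_num⟩
  have h := card_modEq hgp S hS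
  have h2 : (S.filter (fun x => g x = x)).card ≤ 2 :=
    le_trans (card_le_card (filter_subset_filter _ (subset_univ S))) (fix7 hg hgp hg1)
  have h3 : S.card % 7 = (S.filter (fun x => g x = x)).card % 7 := h
  omega

theorem nb_map {g : Perm (Fin 100)} (hg : g ∈ Q) {O : Finset (Fin 100)} (hO : ∀ x ∈ O, g x ∈ O)
    (w : Fin 100) : nb O (g w) = nb O w := by
  have himg : O.image g = O := by
    refine Finset.eq_of_subset_of_card_le ?_ ?_
    · intro x hx
      obtain ⟨y, hy, rfl⟩ := Finset.mem_image.1 hx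
      exact hO y hy
    · rw [Finset.card_image_of_injective _ g.injective]
  unfold nb
  conv_lhs => rw [← himg]
  rw [Finset.sum_image (fun x _ y _ h => g.injective h)]
  exact Finset.sum_congr rfl fun v _ => by rw [ad_map_Q hg]

theorem nb_eq_card (O : Finset (Fin 100)) (w : Fin 100) :
    nb O w = ((O.filter (fun v => ad w v = 1)).card : ℤ) := by
  unfold nb
  rw [Finset.card_filter]
  push_cast
  refine Finset.sum_congr rfl fun v _ => ?_
  rcases ad_zero_or_one w v with h | h <;> rw [h] <;> simp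

theorem card_filter_le (O : Finset (Fin 100)) (w : Fin 100) :
    (O.filter (fun v => ad w v = 1)).card ≤ 22 := by
  have h := deg w
  rw [← h, Finset.card_filter]
  refine le_trans (Finset.sum_le_sum (fun v _ => ?_)) (Finset.sum_le_sum_of_subset (subset_univ O))
  rcases ad_zero_or_one w v with h | h <;> rw [h] <;> simp

theorem no_square (x : ℤ) : x * x ≠ 14 := by
  intro h
  have h1 : x ≤ 3 := by
    by_contra h1
    push Not at h1
    nlinarith
  have h2 : -3 ≤ x := by
    by_contra h2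
    push Not at h2
    nlinarith
  interval_cases x <;> omega

theorem arith (n : ℕ) (hn : n ≤ 100) (h11 : n % 11 = 1) (h7 : n % 7 ≤ 2) (h : n ∣ 40320) :
    n = 1 ∨ n = 56 := by
  revert n
  decide +kernel

theorem arith44 (n : ℕ) (hn : n ≤ 44) (h11 : n % 11 = 0) (h7 : n % 7 ≤ 2) : n = 0 ∨ n = 22 ∨ n = 44 := by
  omega

/-- **A subgroup of order 443520 of the Higman–Sims group fixes one of the 100 points.** -/
theorem exists_fixed (G : Subgroup (Perm (Fin 100))) (hG : G ≤ Q) (hc : Nat.card G = 443520) :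
    ∃ β : Fin 100, ∀ g ∈ G, g β = β := by
  classical
  have hp11 : Fact (Nat.Prime 11) := ⟨by norm_num⟩
  have hp7 : Fact (Nat.Prime 7) := ⟨by norm_num⟩
  obtain ⟨a, ha⟩ := exists_prime_orderOf_dvd_card' (G := G) 11 (by rw [hc]; norm_num)
  obtain ⟨b, hb⟩ := exists_prime_orderOf_dvd_card' (G := G) 7 (by rw [hc]; norm_num)
  have haQ : (a : Perm (Fin 100)) ∈ Q := hG a.2
  have hbQ : (b : Perm (Fin 100)) ∈ Q := hG b.2
  have hap : (a : Perm (Fin 100)) ^ 11 = 1 := by
    rw [← Subgroup.coe_pow, ← ha, pow_orderOf_eq_one, Subgroup.coe_one]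
  have hbp : (b : Perm (Fin 100)) ^ 7 = 1 := by
    rw [← Subgroup.coe_pow, ← hb, pow_orderOf_eq_one, Subgroup.coe_one]
  have ha1 : (a : Perm (Fin 100)) ≠ 1 := by
    intro h
    have h2 : a = 1 := Subtype.ext h
    rw [h2, orderOf_one] at ha
    exact absurd ha (by norm_num)
  have hb1 : (b : Perm (Fin 100)) ≠ 1 := by
    intro h
    have h2 : b = 1 := Subtype.ext h
    rw [h2, orderOf_one] at hb
    exact absurd hb (by norm_num)
  obtain ⟨β, hβ⟩ := exists_fix11 hap
  refine ⟨β, ?_⟩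
  let O : Finset (Fin 100) := univ.filter (fun v => ∃ g ∈ G, g β = v)
  have memO : ∀ v, v ∈ O ↔ ∃ g ∈ G, g β = v := by
    intro v
    simp only [O, mem_filter, mem_univ, true_and]
  have hOinv : ∀ g ∈ G, ∀ x ∈ O, g x ∈ O := by
    intro g hg x hx
    obtain ⟨k, hk, rfl⟩ := (memO x).1 hx
    exact (memO _).2 ⟨g * k, G.mul_mem hg hk, rfl⟩
  have hβO : β ∈ O := (memO β).2 ⟨1, G.one_mem, rfl⟩
  have hcard : O.card * Nat.card (ps G β) = 443520 := by
    rw [← hc, card_eq_mul_card_ps G β, ← Set.ncard_coe_finset]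
    congr 2
    ext v
    rw [mem_coe, memO, mem_orbit_iff]
  have h11 : 11 ∣ Nat.card (ps G β) := by
    have hm : (a : Perm (Fin 100)) ∈ ps G β := ⟨a.2, hβ⟩
    have ho : orderOf (⟨a, hm⟩ : ps G β) = 11 := by
      refine orderOf_eq_prime ?_ ?_
      · exact Subtype.ext hap
      · intro h
        exact ha1 (congrArg Subtype.val h)
    rw [← ho]
    exact orderOf_dvd_natCard _
  have hdvd : O.card ∣ 40320 := by
    obtain ⟨m, hm⟩ := h11
    rw [hm] at hcard
    refine ⟨m, ?_⟩
    have : 11 * (O.card * m) = 11 * 40320 := by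
      rw [← mul_assoc, mul_comm 11, mul_assoc, hcard]
    omega
  have hle : O.card ≤ 100 := by
    have := card_le_univ O
    rwa [Fintype.card_fin] at this
  have hm11 := (mod11 haQ hap ha1 hβ O (hOinv a a.2)).1 hβO
  have hm7 := mod7 hbQ hbp hb1 O (hOinv b b.2)
  rcases arith _ hle hm11 hm7 hdvd with h1 | h56
  · intro g hg
    obtain ⟨c, hcO⟩ := Finset.card_eq_one.1 h1
    have h2 : β = c := by
      have := hβO
      rw [hcO, mem_singleton] at this
      exact this
    have h3 : g β ∈ O := (memO _).2 ⟨g, hg, rfl⟩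
    rw [hcO, mem_singleton] at h3
    rw [h3, ← h2]
  exfalso
  -- the orbit has 56 elements
  have hnb : ∀ g ∈ G, ∀ w, nb O (g w) = nb O w := fun g hg w => nb_map (hG hg) (hOinv g hg) w
  have hnbO : ∀ w ∈ O, nb O w = nb O β := by
    intro w hw
    obtain ⟨g, hg, rfl⟩ := (memO w).1 hw
    exact hnb g hg β
  have hk : nb O β = 0 ∨ nb O β = 11 ∨ nb O β = 22 := by
    rw [nb_eq_card]
    have h1 := (mod11 haQ hap ha1 hβ (O.filter (fun v => ad β v = 1)) (by
      intro x hx
      rw [mem_filter] at hx ⊢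
      refine ⟨hOinv a a.2 x hx.1, ?_⟩
      rw [← hx.2, ← ad_map_Q haQ β x, hβ])).2 (by
        rw [mem_filter, ad_self]
        rintro ⟨-, h⟩
        exact absurd h (by norm_num))
    have h2 := card_filter_le O β
    omega
  have hs1 := sum_nb O
  have hs2 := sum_nb_sq O
  rw [Finset.sum_congr rfl hnbO, Finset.sum_const, nsmul_eq_mul, h56] at hs2
  rw [h56] at hs1
  have hOc : (Oᶜ).card = 44 := by
    rw [Finset.card_compl, Fintype.card_fin, h56]
  have ht1 : ∑ w ∈ Oᶜ, nb O w = 1232 - 56 * nb O β := by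
    have h := Finset.sum_add_sum_compl O (fun w => nb O w)
    rw [hs1, Finset.sum_congr rfl hnbO, Finset.sum_const, nsmul_eq_mul, h56] at h
    push_cast at h
    linarith
  have ht2 : ∑ w ∈ Oᶜ, nb O w ^ 2 = 19712 - 336 * nb O β - 56 * nb O β ^ 2 := by
    have h := Finset.sum_add_sum_compl O (fun w => nb O w ^ 2)
    rw [hs2, Finset.sum_congr rfl (fun w hw => by rw [hnbO w hw] :
      ∀ w ∈ O, nb O w ^ 2 = nb O β ^ 2), Finset.sum_const, nsmul_eq_mul, h56] at h
    push_cast at h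
    linarith
  rcases hk with hk | hk | hk
  · rw [hk] at ht1 ht2
    have h := sq_sum_le_card_mul_sum_sq (s := Oᶜ) (f := fun w => nb O w)
    rw [ht1, ht2, hOc] at h
    norm_num at h
  · rw [hk] at ht1 ht2
    norm_num at ht1 ht2
    -- level sets
    have hL : ∀ c : ℤ, ((Oᶜ).filter (fun w => nb O w = c)).card = 0 ∨
        ((Oᶜ).filter (fun w => nb O w = c)).card = 22 ∨ ((Oᶜ).filter (fun w => nb O w = c)).card = 44 := by
      intro c
      have hinv : ∀ g ∈ G, ∀ x ∈ (Oᶜ).filter (fun w => nb O w = c), g x ∈ (Oᶜ).filter (fun w => nb O w = c) := by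
        intro g hg x hx
        rw [mem_filter, mem_compl] at hx ⊢
        refine ⟨fun h => hx.1 ?_, by rw [hnb g hg, hx.2]⟩
        have := hOinv g⁻¹ (G.inv_mem hg) _ h
        rwa [show g⁻¹ (g x) = x from g.symm_apply_apply x] at this
      refine arith44 _ ?_ ?_ (mod7 hbQ hbp hb1 _ (hinv b b.2))
      · rw [← hOc]
        exact card_le_card (filter_subset _ _)
      · refine (mod11 haQ hap ha1 hβ _ (hinv a a.2)).2 ?_
        rw [mem_filter, mem_compl]
        exact fun h => h.1 hβO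
    have hsumL : ∀ (c : ℤ) (m : ℕ), ((Oᶜ).filter (fun w => nb O w = c)).card = m →
        ∑ w ∈ (Oᶜ).filter (fun w => nb O w = c), nb O w = m * c ∧
        ∑ w ∈ (Oᶜ).filter (fun w => nb O w = c), nb O w ^ 2 = m * c ^ 2 := by
      intro c m hm
      constructor
      · rw [Finset.sum_congr rfl (fun w hw => (mem_filter.1 hw).2), Finset.sum_const, hm, nsmul_eq_mul]
      · rw [Finset.sum_congr rfl (fun w hw => by rw [(mem_filter.1 hw).2] :
          ∀ w ∈ (Oᶜ).filter (fun w => nb O w = c), nb O w ^ 2 = c ^ 2), Finset.sum_const, hm, nsmul_eq_mul]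
    obtain ⟨w0, hw0⟩ : (Oᶜ).Nonempty := by
      rw [← Finset.card_pos, hOc]
      norm_num
    have hw0' : w0 ∈ (Oᶜ).filter (fun w => nb O w = nb O w0) := mem_filter.2 ⟨hw0, rfl⟩
    rcases hL (nb O w0) with h | h | h
    · rw [Finset.card_eq_zero] at h
      rw [h] at hw0'
      exact absurd hw0' (notMem_empty _)
    · obtain ⟨w1, hw1, hw1'⟩ : ∃ w1 ∈ Oᶜ, nb O w1 ≠ nb O w0 := by
        by_contra hcon
        push Not at hcon
        rw [Finset.filter_true_of_mem hcon, hOc] at h
        exact absurd h (by norm_num)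
      have hw1'' : w1 ∈ (Oᶜ).filter (fun w => nb O w = nb O w1) := mem_filter.2 ⟨hw1, rfl⟩
      have hsub : (Oᶜ).filter (fun w => nb O w = nb O w1) ⊆ (Oᶜ).filter (fun w => ¬ nb O w = nb O w0) := by
        intro x hx
        rw [mem_filter] at hx ⊢
        exact ⟨hx.1, by rw [hx.2]; exact hw1'⟩
      have hcompl : ((Oᶜ).filter (fun w => ¬ nb O w = nb O w0)).card = 22 := by
        have h2 := Finset.card_filter_add_card_filter_not (s := Oᶜ) (fun w => nb O w = nb O w0)
        rw [h, hOc] at h2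
        omega
      have hle2 := card_le_card hsub
      rw [hcompl] at hle2
      have h22 : ((Oᶜ).filter (fun w => nb O w = nb O w1)).card = 22 := by
        rcases hL (nb O w1) with h' | h' | h'
        · rw [Finset.card_eq_zero] at h'
          rw [h'] at hw1''
          exact absurd hw1'' (notMem_empty _)
        · exact h'
        · omega
      have heq := Finset.eq_of_subset_of_card_le hsub (by rw [hcompl, h22])
      have e1 := Finset.sum_filter_add_sum_filter_not (Oᶜ) (fun w => nb O w = nb O w0) (fun w => nb O w)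
      have e2 := Finset.sum_filter_add_sum_filter_not (Oᶜ) (fun w => nb O w = nb O w0) (fun w => nb O w ^ 2)
      rw [← heq, (hsumL _ _ h).1, (hsumL _ _ h22).1, ht1] at e1
      rw [← heq, (hsumL _ _ h).2, (hsumL _ _ h22).2, ht2] at e2
      push_cast at e1 e2
      have e3 : nb O w1 = 28 - nb O w0 := by linarith
      rw [e3] at e2
      apply no_square (nb O w0 - 14)
      nlinarith
    · have h2 : (Oᶜ).filter (fun w => nb O w = nb O w0) = Oᶜ :=
        Finset.eq_of_subset_of_card_le (filter_subset _ _) (by rw [h, hOc])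
      have e1 := (hsumL _ _ h).1
      have e2 := (hsumL _ _ h).2
      rw [h2, ht1] at e1
      rw [h2, ht2] at e2
      push_cast at e1 e2
      have e3 : nb O w0 = 14 := by linarith
      rw [e3] at e2
      norm_num at e2
  · rw [hk] at ht2
    have h : 0 ≤ ∑ w ∈ Oᶜ, nb O w ^ 2 := Finset.sum_nonneg fun w _ => sq_nonneg _
    rw [ht2] at h
    norm_num at h

end Cfsg.Agent.HN.FixPoint
end

-- part: HN/AutHS
section
set_option autoImplicit false

/-!
Every automorphism of the Higman–Sims group `Q` (on 100 points) is conjugation by a unique permutation,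
which is an automorphism of the graph.
-/

namespace Cfsg.Agent.HN.AutHS

open Cfsg.Agent.SporadicA.PermTab Cfsg.Agent.HN.Pres Cfsg.Agent.HN.HS100 Cfsg.Agent.HN.SrgHS Equiv
open Cfsg.Agent.HN.AutBound Cfsg.Agent.HN.FixPoint

theorem finite_Q : Finite Q := inferInstance

/-- the centraliser of `Q` is trivial. -/
theorem eq_one_of_comm {p : Perm (Fin 100)} (h : ∀ q ∈ Q, p * q = q * p) : p = 1 := by
  have h0 : ∀ q ∈ Q, q 0 = 0 → q (p 0) = p 0 := by
    intro q hq h0
    have h1 := congrArg (fun r : Perm (Fin 100) => r 0) (h q hq)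
    simp only [Perm.mul_apply, h0] at h1
    exact h1.symm
  have hp0 : p 0 = 0 := by
    by_contra hne
    rcases ad_zero_or_one 0 (p 0) with h1 | h1
    · -- the orbit would have 77 points
      obtain ⟨g, hg, hg1⟩ := orb77 hne h1
      have h77 : ∀ v : Fin 100, v ≠ 0 → ad 0 v = 0 → v = p 0 := by
        intro v hv0 hv
        obtain ⟨k, hk, rfl⟩ := orb77 hv0 hv
        have h2 : (k * g⁻¹) (p 0) = p 0 :=
          h0 _ (Q.mul_mem hk.1 (Q.inv_mem hg.1)) (by
            rw [Perm.mul_apply, Perm.inv_eq_iff_eq.2 hg.2.symm, hk.2])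
        rw [Perm.mul_apply, Perm.inv_eq_iff_eq.2 hg1.symm] at h2
        exact h2
      have h2 := card_77
      have h3 : ({v : Fin 100 | v ≠ 0 ∧ ad 0 v = 0} : Set (Fin 100)) ⊆ {p 0} := fun v hv => h77 v hv.1 hv.2
      have h4 := Set.ncard_le_ncard h3 (Set.toFinite _)
      rw [h2, Set.ncard_singleton] at h4
      exact absurd h4 (by norm_num)
    · obtain ⟨g, hg, hg1⟩ := orb22 h1
      have h22 : ∀ v : Fin 100, ad 0 v = 1 → v = p 0 := by
        intro v hv
        obtain ⟨k, hk, rfl⟩ := orb22 hv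
        have h2 : (k * g⁻¹) (p 0) = p 0 :=
          h0 _ (Q.mul_mem hk.1 (Q.inv_mem hg.1)) (by
            rw [Perm.mul_apply, Perm.inv_eq_iff_eq.2 hg.2.symm, hk.2])
        rw [Perm.mul_apply, Perm.inv_eq_iff_eq.2 hg1.symm] at h2
        exact h2
      have h2 := card_22
      have h3 : ({v : Fin 100 | ad 0 v = 1} : Set (Fin 100)) ⊆ {p 0} := fun v hv => h22 v hv
      have h4 := Set.ncard_le_ncard h3 (Set.toFinite _)
      rw [h2, Set.ncard_singleton] at h4
      exact absurd h4 (by norm_num)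
  refine Equiv.ext fun v => ?_
  obtain ⟨g, hg, rfl⟩ := exists_map 0 v
  have h1 := congrArg (fun r : Perm (Fin 100) => r 0) (h g hg)
  simp only [Perm.mul_apply, hp0] at h1
  exact h1

/-- the orbit of `v` under the stabiliser of `u` -/
def orb (u v : Fin 100) : Set (Fin 100) := {w | ∃ g ∈ Q, g u = u ∧ g v = w}

theorem orb_map {g : Perm (Fin 100)} (hg : g ∈ Q) (u v : Fin 100) : orb (g u) (g v) = g '' orb u v := by
  ext w
  constructor
  · rintro ⟨k, hk, h1, h2⟩
    refine ⟨g⁻¹ w, ⟨g⁻¹ * k * g, Q.mul_mem (Q.mul_mem (Q.inv_mem hg) hk) hg, ?_, ?_⟩, ?_⟩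
    · rw [Perm.mul_apply, Perm.mul_apply, h1]
      exact g.symm_apply_apply u
    · rw [Perm.mul_apply, Perm.mul_apply, h2]
    · exact g.apply_symm_apply w
  · rintro ⟨_, ⟨k, hk, h1, rfl⟩, rfl⟩
    refine ⟨g * k * g⁻¹, Q.mul_mem (Q.mul_mem hg hk) (Q.inv_mem hg), ?_, ?_⟩
    · rw [Perm.mul_apply, Perm.mul_apply, show g⁻¹ (g u) = u from g.symm_apply_apply u, h1]
    · rw [Perm.mul_apply, Perm.mul_apply, show g⁻¹ (g v) = v from g.symm_apply_apply v]

theorem ncard_orb_zero (v : Fin 100) : (orb 0 v).ncard = 22 ↔ ad 0 v = 1 := by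
  by_cases hv : v = 0
  · subst hv
    have h1 : orb 0 0 = {0} := by
      ext w
      rw [Set.mem_singleton_iff]
      constructor
      · rintro ⟨g, -, h1, rfl⟩
        exact h1
      · rintro rfl
        exact ⟨1, Q.one_mem, rfl, rfl⟩
    rw [h1, Set.ncard_singleton, ad_self]
    decide
  rcases ad_zero_or_one 0 v with h | h
  · have h1 : orb 0 v = {w : Fin 100 | w ≠ 0 ∧ ad 0 w = 0} := by
      ext w
      constructor
      · rintro ⟨g, hg, h1, rfl⟩
        refine ⟨fun h2 => hv ?_, ?_⟩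
        · rw [← h1] at h2
          exact g.injective h2
        · have h3 := ad_map_Q hg 0 v
          rw [h1] at h3
          rw [h3, h]
      · rintro ⟨h1, h2⟩
        obtain ⟨g, hg, rfl⟩ := orb77 h1 h2
        obtain ⟨k, hk, rfl⟩ := orb77 hv h
        refine ⟨g * k⁻¹, Q.mul_mem hg.1 (Q.inv_mem hk.1), ?_, ?_⟩
        · rw [Perm.mul_apply, Perm.inv_eq_iff_eq.2 hk.2.symm, hg.2]
        · rw [Perm.mul_apply, show k⁻¹ (k 1) = 1 from k.symm_apply_apply 1]
    rw [h1, card_77, h]
    decide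
  · have h1 : orb 0 v = {w : Fin 100 | ad 0 w = 1} := by
      ext w
      constructor
      · rintro ⟨g, hg, h1, rfl⟩
        have h3 := ad_map_Q hg 0 v
        rw [h1] at h3
        change ad 0 (g v) = 1
        rw [h3, h]
      · intro h2
        obtain ⟨g, hg, rfl⟩ := orb22 h2
        obtain ⟨k, hk, rfl⟩ := orb22 h
        refine ⟨g * k⁻¹, Q.mul_mem hg.1 (Q.inv_mem hk.1), ?_, ?_⟩
        · rw [Perm.mul_apply, Perm.inv_eq_iff_eq.2 hk.2.symm, hg.2]
        · rw [Perm.mul_apply, show k⁻¹ (k 2) = 2 from k.symm_apply_apply 2]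
    rw [h1, card_22, h]
    decide

theorem ncard_orb (u v : Fin 100) : (orb u v).ncard = 22 ↔ ad u v = 1 := by
  obtain ⟨g, hg, rfl⟩ := exists_map 0 u
  obtain ⟨v, rfl⟩ := g.surjective v
  rw [orb_map hg, Set.ncard_image_of_injective _ g.injective, ad_map_Q hg]
  exact ncard_orb_zero v

/-- a permutation normalising `Q` preserves the graph. -/
theorem mem_autG_of_normalizes {p : Perm (Fin 100)} (h : ∀ q, p * q * p⁻¹ ∈ Q ↔ q ∈ Q) :
    p ∈ autG 100 adjA := by
  have horb : ∀ u v, orb (p u) (p v) = p '' orb u v := by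
    intro u v
    ext w
    constructor
    · rintro ⟨k, hk, h1, h2⟩
      refine ⟨p⁻¹ w, ⟨p⁻¹ * k * p, (h _).1 ?_, ?_, ?_⟩, ?_⟩
      · have : p * (p⁻¹ * k * p) * p⁻¹ = k := by group
        rw [this]
        exact hk
      · rw [Perm.mul_apply, Perm.mul_apply, h1]
        exact p.symm_apply_apply u
      · rw [Perm.mul_apply, Perm.mul_apply, h2]
      · exact p.apply_symm_apply w
    · rintro ⟨_, ⟨k, hk, h1, rfl⟩, rfl⟩
      refine ⟨p * k * p⁻¹, (h k).2 hk, ?_, ?_⟩
      · rw [Perm.mul_apply, Perm.mul_apply, show p⁻¹ (p u) = u from p.symm_apply_apply u, h1]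
      · rw [Perm.mul_apply, Perm.mul_apply, show p⁻¹ (p v) = v from p.symm_apply_apply v]
  intro u v
  have h1 : (orb (p u) (p v)).ncard = (orb u v).ncard := by
    rw [horb, Set.ncard_image_of_injective _ p.injective]
  have h2 : ad (p u) (p v) = 1 ↔ ad u v = 1 := by
    rw [← ncard_orb, ← ncard_orb, h1]
  change ad (p u) (p v) = ad u v
  rcases ad_zero_or_one (p u) (p v) with h3 | h3 <;> rcases ad_zero_or_one u v with h4 | h4
  · rw [h3, h4]
  · rw [h2.2 h4] at h3
    exact absurd h3 (by norm_num)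
  · rw [h2.1 h3] at h4
    exact absurd h4 (by norm_num)
  · rw [h3, h4]

/-- **Every automorphism of `Q` is conjugation by an automorphism of the graph.** -/
theorem exists_perm (σ : Q ≃* Q) : ∃ p ∈ autG 100 adjA, ∀ q : Q, ((σ q : Q) : Perm (Fin 100)) = p * q * p⁻¹ := by
  -- the image of the stabiliser of `0`
  let S : Subgroup Q := Q1.subgroupOf Q
  let T : Subgroup (Perm (Fin 100)) := (S.map σ.toMonoidHom).map Q.subtype
  have hT : T ≤ Q := by
    rintro _ ⟨q, -, rfl⟩
    exact q.2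
  have hTc : Nat.card T = 443520 := by
    rw [Subgroup.card_map_of_injective Q.subtype_injective, Subgroup.card_map_of_injective σ.injective]
    exact (Nat.card_congr (Subgroup.subgroupOfEquivOfLe (ps_le Q 0)).toEquiv).trans card_Q1
  obtain ⟨δ, hδ⟩ := exists_fixed T hT hTc
  have hfix : ∀ q : Q, (q : Perm (Fin 100)) 0 = 0 → ((σ q : Q) : Perm (Fin 100)) δ = δ := by
    intro q hq
    exact hδ _ ⟨σ q, ⟨q, ⟨q.2, hq⟩, rfl⟩, rfl⟩
  choose r hr using fun v => (by
    obtain ⟨g, hg, h⟩ := exists_map 0 v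
    exact ⟨⟨g, hg⟩, h⟩ : ∃ g : Q, (g : Perm (Fin 100)) 0 = v)
  let f : Fin 100 → Fin 100 := fun v => ((σ (r v) : Q) : Perm (Fin 100)) δ
  have hf : ∀ (q : Q) (v : Fin 100), f ((q : Perm (Fin 100)) v) = ((σ q : Q) : Perm (Fin 100)) (f v) := by
    intro q v
    have h1 : (((r ((q : Perm (Fin 100)) v))⁻¹ * q * r v : Q) : Perm (Fin 100)) 0 = 0 := by
      change ((r ((q : Perm (Fin 100)) v) : Perm (Fin 100)))⁻¹
        ((q : Perm (Fin 100)) ((r v : Perm (Fin 100)) 0)) = 0
      rw [hr, Perm.inv_eq_iff_eq, hr]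
    have h2 := hfix _ h1
    rw [map_mul, map_mul, map_inv] at h2
    change ((σ (r ((q : Perm (Fin 100)) v)) : Q) : Perm (Fin 100))⁻¹
        (((σ q : Q) : Perm (Fin 100)) (((σ (r v) : Q) : Perm (Fin 100)) δ)) = δ at h2
    rw [Perm.inv_eq_iff_eq] at h2
    exact h2.symm
  have hsurj : Function.Surjective f := by
    intro w
    obtain ⟨g, hg, h⟩ := exists_map (f 0) w
    refine ⟨((σ.symm ⟨g, hg⟩ : Q) : Perm (Fin 100)) 0, ?_⟩
    rw [hf, MulEquiv.apply_symm_apply]
    exact h
  have hbij : Function.Bijective f := Finite.surjective_iff_bijective.1 hsurj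
  let p : Perm (Fin 100) := Equiv.ofBijective f hbij
  have hp : ∀ q : Q, ((σ q : Q) : Perm (Fin 100)) = p * q * p⁻¹ := by
    intro q
    rw [eq_mul_inv_iff_mul_eq]
    refine Equiv.ext fun v => ?_
    rw [Perm.mul_apply, Perm.mul_apply]
    exact (hf q v).symm
  refine ⟨p, mem_autG_of_normalizes fun q => ⟨fun h => ?_, fun h => ?_⟩, hp⟩
  · have h1 := hp (σ.symm ⟨p * q * p⁻¹, h⟩)
    rw [MulEquiv.apply_symm_apply] at h1
    have h2 : q = ((σ.symm ⟨p * q * p⁻¹, h⟩ : Q) : Perm (Fin 100)) := by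
      have h3 : p * q * p⁻¹ = p * ((σ.symm ⟨p * q * p⁻¹, h⟩ : Q) : Perm (Fin 100)) * p⁻¹ := h1
      exact mul_left_cancel (mul_right_cancel h3)
    rw [h2]
    exact Subtype.property _
  · rw [← hp ⟨q, h⟩]
    exact Subtype.property _

/-! ### simplicity of `Q` -/

open Cfsg.Agent.SporadicRecognition in
theorem nonempty_Q : Nonempty (Q ≃* Cfsg.Spor.HS) ∧ IsSimpleGroup Q := by
  obtain ⟨H, Y, i1, i2, i3, i4, a', b', c', hr, hH, hs, ⟨f⟩⟩ := HSAssemble.hs_rank
  obtain ⟨f'⟩ := HSAssemble.nonempty_of_rank DoubleCover.rank_Q hr card_Q hH hs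
  refine ⟨⟨f'.trans f⟩, ?_⟩
  have : Nontrivial Q := f'.toEquiv.nontrivial
  exact IsSimpleGroup.isSimpleGroup_of_surjective f'.symm.toMonoidHom f'.symm.surjective

end Cfsg.Agent.HN.AutHS
end
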