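import Cfsg.Agent.HN.XInst_mg
import Cfsg.Agent.HN.InvHN
set_option linter.all false

/-!
# The centraliser of a 2-central involution and its involutions
-/

set_option autoImplicit false
set_option linter.unusedSectionVars false

namespace Cfsg.Agent.HN.XFinal

open Cfsg.Agent.HN.Pres Cfsg.Agent.HN.P1408 Cfsg.Agent.HN.H0Basic Cfsg.Agent.HN.XMat Cfsg.Agent.HN.XStruct
open Cfsg.Agent.HN.XWords Cfsg.Agent.HN.XQuot Cfsg.Agent.HN.FusGen Cfsg.Agent.HN.Closing Cfsg.Agent.HN.XInst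

variable {G : Type*} [Group G] {f : H0 →* G} {θ : Cfsg.Spor.HN →* G} (I : Inst f θ)

include I

theorem disj : ∀ e ∈ DS (θ W0) (f τ), e ∉ SS (θ W0) (f τ) := by
  rintro _ ⟨u, hu, rfl, h1, h2⟩
  exact not_mem_S_of ww hu h1 h2

/-- **The centraliser of `w`** -/
theorem cent_w [Finite G] : Subgroup.centralizer ({f (Syl.a * τ)} : Set G) ≤ θ.range := by
  intro u hu
  rw [Subgroup.mem_centralizer_singleton_iff, ← I.w_eq] at hu
  obtain ⟨m, _, w, _, w', _, h⟩ := XClose.normal_form I.hyp (disj I) (π (θ W0) u)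
  have hc1 : W0 * (r Q m * evw Γ w) = r Q m * evw Γ w * W0 := by
    rw [← mul_assoc, cwr, mul_assoc, cwe, mul_assoc]
  have hc : W0 * (r Q m * evw Γ w * evw Γ w') = r Q m * evw Γ w * evw Γ w' * W0 := by
    rw [← mul_assoc, hc1, mul_assoc _ W0, cwe, ← mul_assoc]
  have h1 : π (θ W0) (θ (r Q m * evw Γ w * evw Γ w')) = π (θ W0) u := by
    have h2 : P θ (r Q m * evw Γ w * evw Γ w') = r (kk θ) m * evw (gg θ) w * evw (gg θ) w' := by
      rw [P_mul hc1 (cwe w'), P_nf, P_evw]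
    rw [h]
    exact h2
  rcases (π_eq_iff ww (cθ hc) hu).1 h1 with rfl | rfl
  · exact ⟨_, rfl⟩
  · exact ⟨_, map_mul θ _ W0⟩

/-- All involutions in the preimage of `x` are conjugate to `t` or `w`. -/
def Gd (f : H0 →* G) (θ : Cfsg.Spor.HN →* G) (x : KK (θ W0)) : Prop :=
  ∀ u : G, u * θ W0 = θ W0 * u → π (θ W0) u = x → u ≠ 1 → u * u = 1 → IsConj u (f τ) ∨ IsConj u (θ W0)

theorem Gd_conj {x : KK (θ W0)} (hx : Gd f θ x) (v : KK (θ W0)) : Gd f θ (v⁻¹ * x * v) := by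
  intro u hu he h1 hsq
  obtain ⟨s, hs, rfl⟩ := π_surj v
  have hc : IsConj u (s * u * s⁻¹) := isConj_iff.2 ⟨s, rfl⟩
  have h2 := hx (s * u * s⁻¹) (comm_mul (comm_mul hs hu) (comm_inv hs)) ?_ ?_ ?_
  · exact h2.imp hc.trans hc.trans
  · rw [π_mul (comm_mul hs hu) (comm_inv hs), π_mul hs hu, π_inv hs, he]; group
  · intro h3
    exact h1 (conj_eq_one_iff.1 h3)
  · calc s * u * s⁻¹ * (s * u * s⁻¹) = s * (u * u) * s⁻¹ := by group
      _ = 1 := by rw [hsq]; group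

theorem Gd_H0 {a : List ℕ} (h0 : okw a = true) (hc : W0 * V a = V a * W0) : Gd f θ (P θ (V a)) := by
  have := simple_HN
  have key : ∀ v : H0, f v ≠ 1 → f v * f v = 1 → IsConj (f v) (f τ) ∨ IsConj (f v) (θ W0) := by
    intro v h1 h2
    have h3 : orderOf v = 2 := by
      refine orderOf_eq_prime ?_ ?_
      · apply I.E.inj
        rw [pow_two, map_mul, h2, map_one]
      · rintro rfl
        exact h1 (map_one f)
    obtain ⟨g, hg⟩ := InvHN.hinv v h3
    rw [I.w_eq, ← I.ext v, ← I.ext τ, ← I.ext (Syl.a * τ)]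
    rcases hg with hg | hg
    · left; exact θ.map_isConj (isConj_iff.2 ⟨g, hg⟩)
    · right; exact θ.map_isConj (isConj_iff.2 ⟨g, hg⟩)
  intro u hu he h1 hsq
  rcases (π_eq_iff ww (cθ hc) hu).1 he.symm with rfl | rfl
  · rw [I.θV h0] at h1 hsq ⊢
    exact key _ h1 hsq
  · rw [I.θV h0, I.w_eq, ← map_mul] at h1 hsq
    rw [I.θV h0]
    have h2 := key _ h1 hsq
    rwa [map_mul, ← I.w_eq] at h2

theorem Gd_sq {u₀ : Cfsg.Spor.HN} (hc : W0 * u₀ = u₀ * W0) (h : u₀ * u₀ = W0) : Gd f θ (P θ u₀) := by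
  intro u hu he h1 hsq
  exfalso
  have h2 : θ u₀ * θ u₀ = θ W0 := by rw [← map_mul, h]
  rcases (π_eq_iff ww (cθ hc) hu).1 he.symm with rfl | rfl
  · exact I.w_ne (h2.symm.trans hsq)
  · apply I.w_ne
    rw [← hsq]
    have hcc := cθ (θ := θ) hc
    calc θ W0 = θ u₀ * θ u₀ * (θ W0 * θ W0) := by rw [ww, h2, mul_one]
      _ = θ u₀ * (θ u₀ * θ W0) * θ W0 := by group
      _ = θ u₀ * (θ W0 * θ u₀) * θ W0 := by rw [hcc]
      _ = θ u₀ * θ W0 * (θ u₀ * θ W0) := by group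

theorem Gd_r {m : ℕ} (hm : m < 256) : Gd f θ (r (kk θ) m) := by
  have B := I.bas
  have h := B
  have step : ∀ p g, Gd f θ (r (kk θ) p) → Gd f θ (r (kk θ) (app (gen g) p)) := by
    intro p g hp
    rw [← B.acts_r (B.act g) p]
    exact Gd_conj I hp _
  have h3 : Gd f θ (r (kk θ) 3) := by
    rw [← P_r, r3_eq]
    exact Gd_H0 I (by decide +kernel) I.c_r3
  have h12 : Gd f θ (r (kk θ) 12) := by
    rw [← P_r]
    exact Gd_sq I (cwr _) r12_sq
  have h0 : Gd f θ (kk θ 0) := Gd_H0 I (a := [0, 0]) (by decide +kernel) (cw (i := 0) (by norm_num))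
  rcases mask_cases hm with rfl | h1 | rfl | ⟨t, ht, rfl⟩ | rfl | ⟨t, ht, rfl⟩
  · rw [Bas.r_zero, ← P_one (θ := θ)]
    exact Gd_H0 I (a := []) (by decide +kernel) ((mul_one _).trans (one_mul _).symm)
  · obtain ⟨w, _, rfl⟩ := exists_DW h1
    rw [← B.acts_r (B.acts_evw w), Bas.r_one]
    exact Gd_conj I h0 _
  · exact h3
  · exact tree_spec (P := fun m => Gd f θ (r (kk θ) m)) step JJ [3] chkJJ
      (by intro p hp; rw [List.mem_singleton.1 hp]; exact h3) t ht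
  · exact h12
  · exact tree_spec (P := fun m => Gd f θ (r (kk θ) m)) step FF [12] chkFF
      (by intro p hp; rw [List.mem_singleton.1 hp]; exact h12) t ht

/-- **The involutions commuting with `w`** -/
theorem inv_w [Finite G] (v : G) (hv : orderOf v = 2) (hc : v * f (Syl.a * τ) = f (Syl.a * τ) * v) :
    IsConj v (f τ) ∨ IsConj v (f (Syl.a * τ)) := by
  rw [← I.w_eq] at hc ⊢
  have hv1 : v ≠ 1 := by
    rintro rfl
    rw [orderOf_one] at hv
    exact absurd hv (by norm_num)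
  have hv2 : v * v = 1 := by rw [← pow_two, ← hv, pow_orderOf_eq_one]
  have hsq : π (θ W0) v * π (θ W0) v = 1 := by rw [← π_mul hc hc, hv2, π_one]
  have key : ∀ x : KK (θ W0), Gd f θ x → (∃ s, s * π (θ W0) v * s⁻¹ = x) →
      IsConj v (f τ) ∨ IsConj v (θ W0) := by
    rintro x hx ⟨s, hs⟩
    have h1 := Gd_conj I hx s
    have h2 : s⁻¹ * x * s = π (θ W0) v := by rw [← hs]; group
    rw [h2] at h1
    exact h1 v hc rfl hv1 hv2
  rcases XClose.involution_cases I.hyp (disj I) hsq with h | ⟨s, h | h | h⟩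
  · obtain ⟨m, hm, he⟩ := h
    exact Gd_r I hm v hc he hv1 hv2
  · refine key _ ?_ ⟨s, h⟩
    rw [I.x1_eq]
    exact Gd_sq I (cwe _) yh6
  · refine key _ ?_ ⟨s, h⟩
    rw [I.x2_eq']
    exact Gd_H0 I (by decide +kernel) I.c_x2
  · refine key _ ?_ ⟨s, h⟩
    rw [I.x3_eq']
    exact Gd_H0 I (by decide +kernel) I.c_x3

end Cfsg.Agent.HN.XFinal
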