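import Cfsg.Agent.HN.FusGen
import Cfsg.Agent.HN.Classes
import Cfsg.Agent.HN.Twist
set_option linter.all false

set_option autoImplicit false

/-!
Fusion in a simple group with an involution centraliser `2.HS.2`: `a τ` is not fused to `τ`; `z` or `d` is fused to
`τ`; the isoclinic type does not occur; if `z` is fused to `τ` then `d` is not.
-/

namespace Cfsg.Agent.HN.FusOne

open Cfsg.Agent.HN.Pres Cfsg.Agent.HN.HS100 Cfsg.Agent.HN.P1408 Cfsg.Agent.HN.H0Basic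
open Cfsg.Agent.HN.Syl Cfsg.Agent.HN.Classes Cfsg.Agent.HN.Twist Cfsg.Agent.HN.FusGen
open scoped commutatorElement

/-- A group in which the fivefold commutators are `1` or `u`, and `u` occurs: automorphisms fix `u`. -/
theorem not_map_of_comm5 {H : Type*} [Group H] (S : Subgroup H) {τ u : H} (hu1 : u ≠ 1) (huτ : u ≠ τ)
    (h5 : ∀ g1 ∈ S, ∀ g2 ∈ S, ∀ g3 ∈ S, ∀ g4 ∈ S, ∀ g5 ∈ S,
      ⁅⁅⁅⁅g1, g2⁆, g3⁆, g4⁆, g5⁆ = 1 ∨ ⁅⁅⁅⁅g1, g2⁆, g3⁆, g4⁆, g5⁆ = u)
    (hex : ∃ g1 ∈ S, ∃ g2 ∈ S, ∃ g3 ∈ S, ∃ g4 ∈ S, ∃ g5 ∈ S, ⁅⁅⁅⁅g1, g2⁆, g3⁆, g4⁆, g5⁆ = u)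
    (σ : S ≃* S) (s : S) (hs : (s : H) = τ) : (σ s : H) ≠ u := by
  intro hσ
  obtain ⟨g1, h1, g2, h2, g3, h3, g4, h4, g5, h6, h⟩ := hex
  let k : S := ⁅⁅⁅⁅(⟨g1, h1⟩ : S), (⟨g2, h2⟩ : S)⁆, (⟨g3, h3⟩ : S)⁆, (⟨g4, h4⟩ : S)⁆, (⟨g5, h6⟩ : S)⁆
  have hk : (k : H) = u := h
  have e1 : (σ k : H) = 1 ∨ (σ k : H) = u := by
    have := h5 _ (σ ⟨g1, h1⟩).2 _ (σ ⟨g2, h2⟩).2 _ (σ ⟨g3, h3⟩).2 _ (σ ⟨g4, h4⟩).2 _ (σ ⟨g5, h6⟩).2
    have h7 : (σ k : H) = ⁅⁅⁅⁅((σ ⟨g1, h1⟩ : S) : H), ((σ ⟨g2, h2⟩ : S) : H)⁆, ((σ ⟨g3, h3⟩ : S) : H)⁆,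
        ((σ ⟨g4, h4⟩ : S) : H)⁆, ((σ ⟨g5, h6⟩ : S) : H)⁆ := by
      simp only [k, map_commutatorElement]
      rfl
    rw [h7]
    exact this
  rcases e1 with e1 | e1
  · have h8 : k = 1 := σ.injective (by rw [map_one]; exact Subtype.ext e1)
    apply hu1
    rw [← hk, h8]
    rfl
  · have h8 : k = s := σ.injective (Subtype.ext (e1.trans hσ.symm))
    apply huτ
    rw [← hk, h8, hs]

variable {G : Type*} [Group G]

theorem gz_sq' : gz * gz = 1 := by rw [← pow_two]; exact rels_H0.r7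

/-- `a τ` is not fused to `τ`. -/
theorem not_inK_aτ [Finite G] {φ : H0 →* G} (E : Emb φ τ) : ¬ InK φ τ (a * τ) := by
  refine E.not_inK_of_sylow syl (a * τ) (fun s hs => ?_) ?_
  · have h1 := a_comm (g := s) hs
    calc s * (a * τ) = s * a * τ := by group
      _ = a * s * τ := by rw [h1]
      _ = a * (s * τ) := by group
      _ = a * (τ * s) := by rw [τ_comm]
      _ = a * τ * s := by group
  · exact not_map_of_comm5 S aτ_ne_one aτ_ne_τ
      (fun _ h1 _ h2 _ h3 _ h4 _ h5 => comm5 h1 h2 h3 h4 h5)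
      ⟨s 7, s_mem_S (by norm_num), s 9, s_mem_S (by norm_num), s 10, s_mem_S (by norm_num), s 9,
        s_mem_S (by norm_num), s 7, s_mem_S (by norm_num), comm5_eq⟩

theorem z_ne_zτ : gz ≠ gz * τ := fun h => τ_ne_one (mul_eq_left.1 h.symm)

theorem isConj_z_zτ : IsConj gz (gz * τ) := isConj_iff.2 ⟨gx⁻¹, by rw [inv_inv]; exact hw_z_conj⟩
theorem isConj_d_dτ : IsConj d (d * τ) := isConj_iff.2 ⟨gx⁻¹, by rw [inv_inv]; exact hw_d_conj⟩

theorem noncomm : ∃ p q : H0, p * q ≠ q * p := by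
  refine ⟨gx⁻¹, gz, fun h => ?_⟩
  have h1 := hw_z_conj
  rw [h, inv_mul_cancel_right] at h1
  exact z_ne_zτ h1

/-- `z` or `d` is fused to `τ` (if something other than `τ` is). -/
theorem z_or_d' [Finite G] {φ : H0 →* G} (E : Emb φ τ) (hex : ∃ h, InK φ τ h ∧ h ≠ τ) :
    InK φ τ gz ∨ InK φ τ d := by
  by_contra hcon
  push Not at hcon
  obtain ⟨hz, hd⟩ := hcon
  have hb := not_inK_aτ E
  have hK : ∀ h, InK φ τ h → h = τ ∨ IsConj a h := by
    intro h hh
    have h2 : h ^ 2 = 1 := by rw [pow_two]; exact E.sq_of_inK hh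
    rcases involution_cases h2 with h1 | h1 | h1 | h1 | h1 | h1
    · exact absurd h1 (E.ne_one_of_inK hh)
    · exact Or.inl h1
    · exact Or.inr h1
    · exact absurd (hh.conj h1.symm) hb
    · exact absurd (hh.conj h1.symm) hz
    · exact absurd (hh.conj h1.symm) hd
  obtain ⟨h, hh, hne⟩ := hex
  have ha : InK φ τ a := by
    rcases hK h hh with h1 | h1
    · exact absurd h1 hne
    · exact hh.conj h1.symm
  exact E.f4 a2_comm.symm (IsConj.refl a) isConj_a_a2 isConj_a_mul ha hb hK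

/-- `z` or `d` is fused to `τ`. -/
theorem z_or_d [Finite G] [IsSimpleGroup G] {φ : H0 →* G} (E : Emb φ τ) : InK φ τ gz ∨ InK φ τ d :=
  z_or_d' E (E.exists_inK noncomm)

theorem noncomm_T : ∃ p q : T, p * q ≠ q * p := by
  obtain ⟨p, q, h⟩ := noncomm
  exact ⟨ofH p, ofH q, fun h1 => h (comm_iff.1 h1)⟩

/-- **The isoclinic type does not occur**, if something other than `τ` is fused to `τ`. -/
theorem isoclinic_false' [Finite G] {φ : T →* G} (E : Emb φ τT) (hex : ∃ h, InK φ τT h ∧ h ≠ τT) : False := by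
  have hb : ¬ InK φ τT (aT * τT) := by
    rw [← bT_eq]
    refine E.not_inK_of_sylow sylT bT (fun s hs => ?_) ?_
    · rw [bT_eq]
      have h1 := aT_comm (g := s) hs
      calc s * (aT * τT) = s * aT * τT := by group
        _ = aT * s * τT := by rw [h1]
        _ = aT * (s * τT) := by group
        _ = aT * (τT * s) := by rw [τT_comm]
        _ = aT * τT * s := by group
    · exact not_map_of_comm5 ST bT_ne_one bT_ne_τT
        (fun _ h1 _ h2 _ h3 _ h4 _ h5 => comm5_T h1 h2 h3 h4 h5) comm5_eq_T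
  have hK : ∀ h, InK φ τT h → h = τT ∨ IsConj aT h := by
    intro h hh
    have h2 : h ^ 2 = 1 := by rw [pow_two]; exact E.sq_of_inK hh
    rcases involution_cases_T h2 with h1 | h1 | h1 | h1
    · exact absurd h1 (E.ne_one_of_inK hh)
    · exact Or.inl h1
    · exact Or.inr h1
    · exact absurd (hh.conj h1.symm) (bT_eq ▸ hb)
  obtain ⟨h, hh, hne⟩ := hex
  have ha : InK φ τT aT := by
    rcases hK h hh with h1 | h1
    · exact absurd h1 hne
    · exact hh.conj h1.symm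
  exact E.f4 a2T_comm.symm (IsConj.refl aT) isConj_aT_a2T isConj_aT_mul ha hb hK

/-- **The isoclinic type does not occur.** -/
theorem isoclinic_false [Finite G] [IsSimpleGroup G] {φ : T →* G} (E : Emb φ τT) : False :=
  isoclinic_false' E (E.exists_inK noncomm_T)

/-! ### `τ` as a product of three involutions of type `a τ` commuting with `z` -/

def w1 : List ℕ := [0,3,4,2,0,4,2,4,2,1,4,2,4,3,4]
def w2 : List ℕ := [2,0,2,2,2,1,2,4,3,3,4,2,4,2,4,3]
def w3 : List ℕ := [2,0,2,0,4,3,1,3,4]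

theorem isConj_w1 : IsConj (a * τ) (hw w1) := by
  rw [isConj_iff]
  refine ⟨hw [2,4,0,2,2,4,2,4,2,2,4,2,4], ?_⟩
  rw [mul_inv_eq_iff_eq_mul, ← hw_a, ← hw_τ, ← hw_append, ← hw_append, ← hw_append]
  exact hw_eq (by decide +kernel)

theorem isConj_w2 : IsConj (a * τ) (hw w2) := by
  rw [isConj_iff]
  refine ⟨hw [3,0,2,2,0,3,0,2,2,4], ?_⟩
  rw [mul_inv_eq_iff_eq_mul, ← hw_a, ← hw_τ, ← hw_append, ← hw_append, ← hw_append]
  exact hw_eq (by decide +kernel)

theorem isConj_w3 : IsConj (a * τ) (hw w3) := by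
  rw [isConj_iff]
  refine ⟨hw [3,3,0,2,0,3,0,3,4], ?_⟩
  rw [mul_inv_eq_iff_eq_mul, ← hw_a, ← hw_τ, ← hw_append, ← hw_append, ← hw_append]
  exact hw_eq (by decide +kernel)

theorem comm_w1 : hw w1 * gz = gz * hw w1 := by
  rw [← hw_z, ← hw_append, ← hw_append]
  exact hw_eq (by decide +kernel)

theorem comm_w2 : hw w2 * gz = gz * hw w2 := by
  rw [← hw_z, ← hw_append, ← hw_append]
  exact hw_eq (by decide +kernel)

theorem comm_w3 : hw w3 * gz = gz * hw w3 := by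
  rw [← hw_z, ← hw_append, ← hw_append]
  exact hw_eq (by decide +kernel)

theorem prod_w : hw w1 * hw w2 * hw w3 = τ := by
  rw [← hw_τ, ← hw_append, ← hw_append]
  exact hw_eq (by decide +kernel)

theorem aτ_mem_K : a * τ ∈ K := K.mul_mem a_mem_K τ_mem_K

/-- **If `z` is fused to `τ` then `d` is not.** -/
theorem not_inK_d [Finite G] {φ : H0 →* G} (E : Emb φ τ) (hz : InK φ τ gz) : ¬ InK φ τ d := by
  intro hd
  have hb := not_inK_aτ E
  obtain ⟨g, hg, hc⟩ := E.exists_conj (k := φ gz) hz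
  -- the image `v` of `t`
  obtain ⟨v, hv⟩ := hc (φ τ) (by rw [← map_mul, ← map_mul, τ_comm])
  have hvK : InK φ τ v := (InK.iff_of_conj hv).1 InK.refl
  have hv2 : v ^ 2 = 1 := by rw [pow_two]; exact E.sq_of_inK hvK
  have hvodd : v ∉ K := by
    rcases involution_cases hv2 with h1 | h1 | h1 | h1 | h1 | h1
    · exact absurd h1 (E.ne_one_of_inK hvK)
    · exfalso
      rw [h1] at hv
      have h2 : φ gz = φ τ := by
        have h3 : g * φ gz * g⁻¹ = g * φ τ * g⁻¹ := hg.trans hv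
        exact mul_left_cancel (mul_right_cancel h3)
      exact z_ne_τ (E.inj h2)
    · exfalso
      obtain ⟨w, hwv, hw2⟩ := exists_sqrt_τ h1
      -- `g⁻¹ φ(w) g` commutes with `t`
      have h3 : g⁻¹ * φ w * g * φ τ = φ τ * (g⁻¹ * φ w * g) := by
        have h4 : φ w * φ v = φ v * φ w := by rw [← map_mul, ← map_mul, hwv]
        rw [hv] at h4
        calc g⁻¹ * φ w * g * φ τ = g⁻¹ * (φ w * (g * φ τ * g⁻¹)) * g := by group
          _ = g⁻¹ * (g * φ τ * g⁻¹ * φ w) * g := by rw [h4]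
          _ = φ τ * (g⁻¹ * φ w * g) := by group
      obtain ⟨u, hu⟩ := E.cent _ h3
      have h5 : u ^ 2 = gz := by
        apply E.inj
        rw [map_pow, hu, pow_two]
        have h6 : φ w * φ w = φ τ := by rw [← map_mul, ← pow_two, hw2]
        calc g⁻¹ * φ w * g * (g⁻¹ * φ w * g) = g⁻¹ * (φ w * φ w) * g := by group
          _ = g⁻¹ * (g * φ gz * g⁻¹) * g := by rw [h6, hg]
          _ = φ gz := by group
      exact not_sq_of_isConj (Or.inl (IsConj.refl gz)) h5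
    · exact absurd (hvK.conj h1.symm) hb
    · intro h2
      exact gz_notMem_K ((mem_K_of_isConj h1).2 h2)
    · intro h2
      exact d_notMem_K ((mem_K_of_isConj h1).2 h2)
  -- images of elements of type `a τ` are even
  have key : ∀ x : H0, IsConj (a * τ) x → x * gz = gz * x → ∃ y ∈ K, φ y = g * φ x * g⁻¹ := by
    intro x hx hxz
    obtain ⟨y, hy⟩ := hc (φ x) (by rw [← map_mul, ← map_mul, hxz])
    refine ⟨y, ?_, hy⟩
    have hxK : ¬ InK φ τ x := fun h => hb (h.conj hx.symm)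
    have hyK : ¬ InK φ τ y := fun h => hxK ((InK.iff_of_conj hy).2 h)
    have hx2 : x ^ 2 = 1 := by
      obtain ⟨c, rfl⟩ := isConj_iff.1 hx
      have h1 : (c * (a * τ) * c⁻¹) ^ 2 = c * (a * τ) ^ 2 * c⁻¹ := by rw [pow_two, pow_two]; group
      rw [h1, aτ_sq, mul_one, mul_inv_cancel]
    have hy2 : y ^ 2 = 1 := by
      apply E.inj
      rw [map_pow, hy, map_one, pow_two]
      have h1 : φ x * φ x = 1 := by rw [← map_mul, ← pow_two, hx2, map_one]
      calc g * φ x * g⁻¹ * (g * φ x * g⁻¹) = g * (φ x * φ x) * g⁻¹ := by group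
        _ = 1 := by rw [h1]; group
    rcases involution_cases hy2 with h1 | h1 | h1 | h1 | h1 | h1
    · rw [h1]; exact K.one_mem
    · rw [h1]; exact τ_mem_K
    · exact (mem_K_of_isConj h1).1 a_mem_K
    · exact (mem_K_of_isConj h1).1 aτ_mem_K
    · exact absurd (hz.conj h1) hyK
    · exact absurd (hd.conj h1) hyK
  obtain ⟨y1, hy1, e1⟩ := key _ isConj_w1 comm_w1
  obtain ⟨y2, hy2, e2⟩ := key _ isConj_w2 comm_w2
  obtain ⟨y3, hy3, e3⟩ := key _ isConj_w3 comm_w3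
  apply hvodd
  have e : v = y1 * y2 * y3 := by
    apply E.inj
    rw [map_mul, map_mul, e1, e2, e3, hv, ← prod_w, map_mul, map_mul]
    group
  rw [e]
  exact K.mul_mem (K.mul_mem hy1 hy2) hy3

/-! ### if `d` is fused to `τ` and `z` is not then `a` is fused to `τ` -/

def wf : List ℕ := [1,3,0,3,0,2,0,2,0,3,0,3,0,2,0,2]

theorem isConj_f : IsConj (a * τ) (hw wf) := by
  rw [isConj_iff]
  refine ⟨hw [2,2,0,2,2,0,2,2,0,2,2,0,2,0], ?_⟩
  rw [mul_inv_eq_iff_eq_mul, ← hw_a, ← hw_τ, ← hw_append, ← hw_append, ← hw_append]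
  exact hw_eq (by decide +kernel)

theorem isConj_df : IsConj d (d * hw wf) := by
  rw [isConj_iff]
  refine ⟨hw [3,3,4,0,2,2], ?_⟩
  rw [mul_inv_eq_iff_eq_mul, d, ← hw_append, ← hw_append, ← hw_append]
  exact hw_eq (by decide +kernel)

theorem comm_f : hw wf * d = d * hw wf := by
  rw [d, ← hw_append, ← hw_append]
  exact hw_eq (by decide +kernel)

/-- If `d` is fused to `τ` and `z` is not then `a` is fused to `τ`. -/
theorem inK_a [Finite G] {φ : H0 →* G} (E : Emb φ τ) (hz : ¬ InK φ τ gz) (hd : InK φ τ d) : InK φ τ a := by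
  by_contra ha
  have hb := not_inK_aτ E
  have hK : ∀ h, InK φ τ h → h = τ ∨ IsConj d h := by
    intro h hh
    have h2 : h ^ 2 = 1 := by rw [pow_two]; exact E.sq_of_inK hh
    rcases involution_cases h2 with h1 | h1 | h1 | h1 | h1 | h1
    · exact absurd h1 (E.ne_one_of_inK hh)
    · exact Or.inl h1
    · exact absurd (hh.conj h1.symm) ha
    · exact absurd (hh.conj h1.symm) hb
    · exact absurd (hh.conj h1.symm) hz
    · exact Or.inr h1
  obtain ⟨g, hg, hc⟩ := E.exists_conj (k := φ d) hd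
  have hcomm : d * hw wf * d = d * (d * hw wf) := by rw [mul_assoc, comm_f]
  obtain ⟨c, hc2⟩ := hc (φ (d * hw wf)) (by rw [← map_mul, ← map_mul, hcomm])
  have hcK : InK φ τ c := (InK.iff_of_conj hc2).1 (hd.conj isConj_df)
  have e : φ (τ * c) = g * φ (hw wf) * g⁻¹ := by
    rw [map_mul, hc2, ← hg]
    have h1 : φ d * φ (d * hw wf) = φ (hw wf) := by
      rw [← map_mul, ← mul_assoc, ← pow_two, d_sq', one_mul]
    calc g * φ d * g⁻¹ * (g * φ (d * hw wf) * g⁻¹) = g * (φ d * φ (d * hw wf)) * g⁻¹ := by group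
      _ = g * φ (hw wf) * g⁻¹ := by rw [h1]
  have hcτ : ¬ InK φ τ (τ * c) := by
    intro h
    exact hb (((InK.iff_of_conj e).2 h).conj isConj_f.symm)
  rcases hK c hcK with h | h
  · -- `c = τ`: then `d f = d`
    rw [h] at hc2
    have h3 : g * φ (d * hw wf) * g⁻¹ = g * φ d * g⁻¹ := hc2.symm.trans hg.symm
    have h4 : d * hw wf = d := E.inj (mul_left_cancel (mul_right_cancel h3))
    have h5 : hw wf = 1 := mul_eq_left.1 h4
    have h6 := isConj_f
    rw [h5, isConj_comm, isConj_one_right] at h6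
    exact aτ_ne_one h6
  · apply hcτ
    rw [← τ_comm]
    exact (hd.conj isConj_d_dτ).conj (E.isConj_mul_τ h)

end Cfsg.Agent.HN.FusOne
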