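import Cfsg.Agent.HN.TRel
set_option linter.all false

/-!
# A Sylow 2-subgroup of HN: lower central series and a characteristic subgroup

`Pc s 14` has order `2 ^ 14`; its lower central series is `Pc s k`, `k = 14, 10, 7, 5, 3, 2, 1, 0`.
`Pc s 12` consists of the elements centralising `Pc s 2` and `Pc s 3` modulo `Pc s 1`.
-/

set_option autoImplicit false

namespace Cfsg.Agent.HN.TSyl

open Cfsg.Agent.HN.Rep Cfsg.Agent.HN.TGroup Cfsg.Agent.HN.PC Cfsg.Agent.HN.TRel
open scoped commutatorElement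

/-- the four generators -/
def S4 : Set Cfsg.Spor.HN := s '' {i | 10 ≤ i ∧ i < 14}

theorem mem_S4 {g : ℕ} (h1 : 10 ≤ g) (h2 : g < 14) : s g ∈ Subgroup.closure S4 :=
  Subgroup.subset_closure ⟨g, ⟨h1, h2⟩, rfl⟩

theorem lev_le : ∀ i < 14, lev i ≤ i := by decide

theorem ci_gt : ∀ k < 10, k < ci k ∧ ci k < 14 := by decide

theorem comm_eq (a b : Cfsg.Spor.HN) : ⁅a, b⁆ = a * b * a⁻¹ * b⁻¹ := rfl

theorem Pc_one_eq : Pc s 0 = ⊥ := Pc_zero s

theorem Pc14_le : Pc s 14 ≤ Subgroup.closure S4 := by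
  have key : ∀ n, ∀ k < 14, 14 ≤ k + n → s k ∈ Subgroup.closure S4 := by
    intro n
    induction n with
    | zero => intro k hk h; omega
    | succ n ih =>
      intro k hk h
      rcases Nat.lt_or_ge k 10 with h10 | h10
      · obtain ⟨g, hg1, hg2, hk'⟩ := def_comm k h10
        obtain ⟨h1, h2⟩ := ci_gt k h10
        have m1 := ih (ci k) h2 (by omega)
        have m2 := mem_S4 hg1 hg2
        rw [hk']
        exact mul_mem (mul_mem (mul_mem m1 m2) (inv_mem m1)) (inv_mem m2)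
      · exact mem_S4 h10 hk
  unfold Pc
  rw [Subgroup.closure_le]
  rintro _ ⟨i, hi, rfl⟩
  exact key 14 i hi (by omega)

theorem closure_S4 : Subgroup.closure S4 = Pc s 14 := by
  refine le_antisymm ?_ Pc14_le
  rw [Subgroup.closure_le]
  rintro _ ⟨i, ⟨_, hi⟩, rfl⟩
  exact mem_Pc hi

section

variable (hinj : Function.Injective rho)
include hinj

theorem conj_gen {k g : ℕ} (hk : k ≤ 14) (h1 : 10 ≤ g) (h2 : g < 14) :
    ∀ b ∈ Pc s k, s g * b * (s g)⁻¹ ∈ Pc s k := by
  apply conj_closure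
  rintro _ ⟨i, hi, rfl⟩
  have hi' : i < k := hi
  have h3 := comm_mem hinj g h1 h2 i (by omega)
  have h4 : s g * s i * (s g)⁻¹ = s g * s i * (s g)⁻¹ * (s i)⁻¹ * s i := by group
  rw [h4]
  exact mul_mem (Pc_mono ((lev_le i (by omega)).trans hi'.le) h3) (mem_Pc hi')

theorem le_normalizer {k : ℕ} (hk : k ≤ 14) : Pc s 14 ≤ Subgroup.normalizer (Pc s k : Set Cfsg.Spor.HN) := by
  rw [← closure_S4, Subgroup.closure_le]
  rintro _ ⟨g, ⟨h1, h2⟩, rfl⟩
  rw [SetLike.mem_coe, Subgroup.mem_normalizer_iff]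
  intro b
  constructor
  · exact conj_gen hinj hk h1 h2 b
  · intro h
    have h3 := conj_gen hinj hk h1 h2 _ h
    have h4 : (s g)⁻¹ = s g := inv_eq_of_mul_eq_one_left (sq_one hinj g h1 h2)
    have h5 : s g * (s g * b * (s g)⁻¹) * (s g)⁻¹ = (s g * s g) * b * ((s g)⁻¹ * (s g)⁻¹) := by group
    rw [h5, h4, sq_one hinj g h1 h2, one_mul, mul_one] at h3
    exact h3

theorem norm {k : ℕ} (hk : k ≤ 14) {x : Cfsg.Spor.HN} (hx : x ∈ Pc s 14) {b : Cfsg.Spor.HN} (hb : b ∈ Pc s k) :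
    x * b * x⁻¹ ∈ Pc s k :=
  (Subgroup.mem_normalizer_iff.1 (le_normalizer hinj hk hx) b).1 hb

theorem step {k : ℕ} (hk : k < 14) : Step s k :=
  ⟨sq_mem hinj k hk, fun _ hi => norm hinj hk.le (mem_Pc hk) (mem_Pc hi)⟩

variable [Finite Cfsg.Spor.HN]

theorem card_Pc_succ {k : ℕ} (hk : k < 14) : Nat.card (Pc s (k + 1)) ≤ 2 * Nat.card (Pc s k) :=
  (step hinj hk).card_le.2

theorem card_Pc_le {k : ℕ} (hk : k ≤ 14) : Nat.card (Pc s k) ≤ 2 ^ k := by
  induction k with
  | zero => rw [Pc_zero, Subgroup.card_bot, pow_zero]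
  | succ k ih =>
    have h1 := card_Pc_succ hinj (k := k) (by omega)
    have h2 := ih (by omega)
    rw [pow_succ]
    omega

theorem card_Pc14 : Nat.card (Pc s 14) = 2 ^ 14 :=
  le_antisymm (card_Pc_le hinj le_rfl) (Nat.le_of_dvd Nat.card_pos (TRel.dvd_card hinj))

theorem le_card_Pc (n : ℕ) : ∀ k, k + n = 14 → 2 ^ k ≤ Nat.card (Pc s k) := by
  induction n with
  | zero =>
    intro k hk
    have : k = 14 := by omega
    subst this
    exact (card_Pc14 hinj).ge
  | succ n ih =>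
    intro k hk
    have h1 := ih (k + 1) (by omega)
    have h2 := card_Pc_succ hinj (k := k) (by omega)
    rw [pow_succ] at h1
    omega

theorem card_Pc {k : ℕ} (hk : k ≤ 14) : Nat.card (Pc s k) = 2 ^ k :=
  le_antisymm (card_Pc_le hinj hk) (le_card_Pc hinj (14 - k) k (by omega))

theorem notMem {k : ℕ} (hk : k < 14) : s k ∉ Pc s k := by
  intro h
  have h1 : Pc s (k + 1) ≤ Pc s k := by
    rw [Pc_succ, Subgroup.closure_le]
    rintro _ (rfl | ⟨i, hi, rfl⟩)
    · exact h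
    · exact mem_Pc hi
  have h2 : Nat.card (Pc s (k + 1)) ≤ Nat.card (Pc s k) :=
    Nat.card_le_card_of_injective _ (Subgroup.inclusion_injective h1)
  rw [card_Pc hinj (by omega), card_Pc hinj (by omega), pow_succ] at h2
  have := Nat.two_pow_pos k
  omega

omit [Finite Cfsg.Spor.HN] in
/-- commutators of the whole group with `Pc s k` -/
theorem comm_mem_Pc {k l : ℕ} (hk : k ≤ 14) (hl : l ≤ 14) (h : ∀ i < k, lev i ≤ l) :
    ∀ x ∈ Pc s 14, ∀ y ∈ Pc s k, ⁅x, y⁆ ∈ Pc s l := by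
  have h1 := commutator_mem_of_closure (A := S4) (B := s '' {i | i < k}) (N := Pc s l)
    (fun a ha n hn => norm hinj hl (by rwa [closure_S4] at ha) hn)
    (fun b hb n hn => norm hinj hl (Pc_mono hk hb) hn)
    (by
      rintro _ ⟨g, ⟨hg1, hg2⟩, rfl⟩ _ ⟨i, hi, rfl⟩
      have hi' : i < k := hi
      exact Pc_mono (h i hi') (comm_mem hinj g hg1 hg2 i (by omega)))
  intro x hx y hy
  rw [← closure_S4] at hx
  exact h1 x hx y hy

omit [Finite Cfsg.Spor.HN] in
/-- the lower central series -/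
theorem commutator_eq {k l : ℕ} (hk : k ≤ 14) (hl : l ≤ 10) (h : ∀ i < k, lev i ≤ l) (h' : ∀ i < l, ci i < k) :
    ⁅Pc s 14, Pc s k⁆ = Pc s l := by
  apply le_antisymm
  · rw [Subgroup.commutator_le]
    intro x hx y hy
    exact comm_mem_Pc hinj hk (by omega) h x hx y hy
  · unfold Pc
    rw [Subgroup.closure_le]
    rintro _ ⟨i, hi, rfl⟩
    have hi' : i < l := hi
    obtain ⟨g, hg1, hg2, he⟩ := def_comm i (by omega)
    rw [SetLike.mem_coe, he, ← comm_eq, Subgroup.commutator_comm]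
    exact Subgroup.commutator_mem_commutator (mem_Pc (h' i hi')) (mem_Pc hg2)

theorem one_ne {k : ℕ} (hk : k < 14) : s k ≠ 1 := fun h => notMem hinj hk (h ▸ one_mem _)

omit [Finite Cfsg.Spor.HN] in
theorem central {x : Cfsg.Spor.HN} (hx : x ∈ Pc s 14) : ⁅x, s 0⁆ = 1 := by
  have h := comm_mem_Pc hinj (k := 1) (l := 0) (by norm_num) (by norm_num) (by decide) x hx (s 0) (mem_Pc (by norm_num))
  rwa [Pc_zero, Subgroup.mem_bot] at h

omit [Finite Cfsg.Spor.HN] in
theorem mem_M_one : ∀ x ∈ Pc s 12, ∀ y ∈ Pc s 2, ⁅x, y⁆ ∈ (⊥ : Subgroup Cfsg.Spor.HN) := by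
  apply commutator_mem_of_closure
  · intro a _ n hn
    rw [Subgroup.mem_bot] at hn ⊢
    rw [hn]; group
  · intro a _ n hn
    rw [Subgroup.mem_bot] at hn ⊢
    rw [hn]; group
  · rintro _ ⟨i, hi, rfl⟩ _ ⟨j, hj, rfl⟩
    have hi' : i < 12 := hi
    have hj' : j < 2 := hj
    rw [Subgroup.mem_bot]
    interval_cases j
    · exact central hinj (mem_Pc (by omega))
    · rw [comm_eq, act1 hinj i hi']; group

omit [Finite Cfsg.Spor.HN] in
theorem mem_M_two : ∀ x ∈ Pc s 12, ∀ y ∈ Pc s 3, ⁅x, y⁆ ∈ Pc s 1 := by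
  apply commutator_mem_of_closure
  · intro a ha n hn
    exact norm hinj (by norm_num) (Pc_mono (by norm_num) (show a ∈ Pc s 12 from ha)) hn
  · intro a ha n hn
    exact norm hinj (by norm_num) (Pc_mono (by norm_num) (show a ∈ Pc s 3 from ha)) hn
  · rintro _ ⟨i, hi, rfl⟩ _ ⟨j, hj, rfl⟩
    have hi' : i < 12 := hi
    have hj' : j < 3 := hj
    interval_cases j
    · rw [central hinj (mem_Pc (by omega))]
      exact one_mem _
    · have : ⁅s i, s 1⁆ = 1 := by rw [comm_eq, act1 hinj i hi']; group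
      rw [this]
      exact one_mem _
    · exact act2 hinj i hi'

/-- **Characterisation of `Pc s 12`.** -/
theorem mem_M_iff {x : Cfsg.Spor.HN} : x ∈ Pc s 12 ↔ x ∈ Pc s 14 ∧ (∀ y ∈ Pc s 2, ⁅x, y⁆ ∈ (⊥ : Subgroup Cfsg.Spor.HN)) ∧
    ∀ y ∈ Pc s 3, ⁅x, y⁆ ∈ Pc s 1 := by
  constructor
  · intro hx
    exact ⟨Pc_mono (by norm_num) hx, mem_M_one hinj x hx, mem_M_two hinj x hx⟩
  · rintro ⟨hx, h1, h2⟩
    have c1 : x * s 1 = s 1 * x := by
      have := h1 (s 1) (mem_Pc (by norm_num))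
      rw [Subgroup.mem_bot, commutatorElement_eq_one_iff_mul_comm] at this
      exact this
    have c2 : x * s 2 * x⁻¹ * (s 2)⁻¹ ∈ Pc s 1 := h2 (s 2) (mem_Pc (by norm_num))
    have hM1 : ∀ m ∈ Pc s 12, m * s 1 = s 1 * m := by
      intro m hm
      have := mem_M_one hinj m hm (s 1) (mem_Pc (by norm_num))
      rw [Subgroup.mem_bot, commutatorElement_eq_one_iff_mul_comm] at this
      exact this
    have hM2 : ∀ m ∈ Pc s 12, m * s 2 * m⁻¹ * (s 2)⁻¹ ∈ Pc s 1 := fun m hm =>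
      mem_M_two hinj m hm (s 2) (mem_Pc (by norm_num))
    -- `s 12` does not commute with `s 1`
    have n12 : s 12 * s 1 ≠ s 1 * s 12 := by
      intro h
      have e : s 0 = s 1 * s 12 * (s 1)⁻¹ * (s 12)⁻¹ := t0_def
      apply one_ne hinj (k := 0) (by norm_num)
      rw [e, ← h]
      group
    have n13 : s 13 * s 1 = s 1 * s 13 := by
      have := comm13_one hinj
      exact this
    have e1 : s 13 * s 2 * (s 13)⁻¹ = (s 1)⁻¹ * s 2 := by
      have e : s 1 = s 2 * s 13 * (s 2)⁻¹ * (s 13)⁻¹ := t1_def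
      rw [e]; group
    rcases (step hinj (k := 13) (by norm_num)).mem hx with h13 | h13
    · rcases (step hinj (k := 12) (by norm_num)).mem h13 with h12 | h12
      · exact h12
      · exfalso
        set m := x * (s 12)⁻¹ with hm
        have hxm : x = m * s 12 := by rw [hm]; group
        apply n12
        have h3 : m * (s 12 * s 1) = m * (s 1 * s 12) := by
          rw [← mul_assoc, ← hxm, c1, ← mul_assoc, hM1 m h12, mul_assoc, ← hxm]
        exact mul_left_cancel h3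
    · exfalso
      rcases (step hinj (k := 12) (by norm_num)).mem h13 with h12 | h12
      · set m := x * (s 13)⁻¹ with hm
        have hxm : x = m * s 13 := by rw [hm]; group
        have h3 : x * s 2 * x⁻¹ * (s 2)⁻¹ = m * (s 1)⁻¹ * m⁻¹ * (m * s 2 * m⁻¹ * (s 2)⁻¹) := by
          rw [hxm]
          have : m * s 13 * s 2 * (m * s 13)⁻¹ * (s 2)⁻¹ = m * (s 13 * s 2 * (s 13)⁻¹) * m⁻¹ * (s 2)⁻¹ := by group
          rw [this, e1]
          group
        have h4 : m * (s 1)⁻¹ * m⁻¹ = (s 1)⁻¹ := by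
          have h5 : m * (s 1)⁻¹ * m⁻¹ = (m * s 1 * m⁻¹)⁻¹ := by group
          rw [h5, hM1 m h12]; group
        rw [h3, h4] at c2
        have h6 := (Subgroup.mul_mem_cancel_right _ (hM2 m h12)).1 c2
        exact notMem hinj (k := 1) (by norm_num) (by simpa using inv_mem h6)
      · set m := x * (s 13)⁻¹ * (s 12)⁻¹ with hm
        have hxm : x = m * s 12 * s 13 := by rw [hm]; group
        apply n12
        have h3 : m * (s 12 * s 1) * s 13 = m * (s 1 * s 12) * s 13 := by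
          have h4 : m * (s 12 * s 1) * s 13 = m * s 12 * (s 1 * s 13) := by group
          have h5 : m * (s 1 * s 12) * s 13 = (m * s 1) * s 12 * s 13 := by group
          rw [h4, ← n13, h5, hM1 m h12, ← mul_assoc, ← hxm, c1, hxm]
          group
        exact mul_left_cancel (mul_right_cancel h3)

omit [Finite Cfsg.Spor.HN] in
/-- not abelian -/
theorem not_comm [Finite Cfsg.Spor.HN] : ¬ IsMulCommutative Cfsg.Spor.HN := by
  intro h
  have e : s 0 = s 1 * s 12 * (s 1)⁻¹ * (s 12)⁻¹ := t0_def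
  apply one_ne hinj (k := 0) (by norm_num)
  rw [e, mul_comm' (s 1) (s 12)]
  group

end

end Cfsg.Agent.HN.TSyl
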