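import Mathlib
set_option linter.all false

/-!
# The local argument for the Harada–Norton type: abstract part

Setting: `V = {1, u, v, uv}` is a four-group of `G` whose centraliser is `V × ι(A₈)`.
-/

set_option autoImplicit false

namespace Cfsg.Agent.HN.Local

open Equiv

/-- The alternating group on the eight points `0, ..., 7`. -/
abbrev A8 := alternatingGroup (Fin 8)

/-- An even permutation as an element of `A8`. -/
def mk (p : Perm (Fin 8)) (h : Perm.sign p = 1) : A8 := ⟨p, Perm.mem_alternatingGroup.mpr h⟩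

/-- `(0 1)(2 3)` -/
def f1 : A8 := mk (swap 0 1 * swap 2 3) (by decide)
/-- `(0 2)(1 3)` -/
def f2 : A8 := mk (swap 0 2 * swap 1 3) (by decide)
/-- `(0 1)(4 5)` -/
def b0 : A8 := mk (swap 0 1 * swap 4 5) (by decide)
/-- `(6 7)(4 5)` -/
def g0 : A8 := mk (swap 6 7 * swap 4 5) (by decide)
/-- `(0 1 2)` -/
def c2 : A8 := mk (swap 0 1 * swap 1 2) (by decide)
/-- `(0 1 3)` -/
def c3 : A8 := mk (swap 0 1 * swap 1 3) (by decide)
/-- `(0 1 6)` -/
def c6 : A8 := mk (swap 0 1 * swap 1 6) (by decide)
/-- `(0 1 7)` -/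
def c7 : A8 := mk (swap 0 1 * swap 1 7) (by decide)
/-- `(4 5 6)` -/
def d6 : A8 := mk (swap 4 5 * swap 5 6) (by decide)
/-- `(4 5 7)` -/
def d7 : A8 := mk (swap 4 5 * swap 5 7) (by decide)
/-- `(0 2 4)(1 3 5)` -/
def rho : A8 := mk (swap 0 2 * swap 2 4 * (swap 1 3 * swap 3 5)) (by decide)

theorem a8_center (s : A8) (h : ∀ t : A8, Commute s t) : s = 1 := by
  have hc : s ∈ Subgroup.center A8 := Subgroup.mem_center_iff.mpr fun t => ((h t).eq).symm
  rw [alternatingGroup.center_eq_bot (by rw [Nat.card_eq_fintype_card, Fintype.card_fin]; norm_num)] at hc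
  exact Subgroup.mem_bot.mp hc

variable {G : Type*} [Group G]

/-- The four-group generated by two commuting involutions, as a set. -/
def four (u v : G) : Set G := {k | k = 1 ∨ k = u ∨ k = v ∨ k = u * v}

/-- The four-group `{1,u,v,uv}` has centraliser `{1,u,v,uv} × ι(A8)`. -/
structure Cent (u v : G) (ι : A8 →* G) : Prop where
  inj : Function.Injective ι
  hu : u * u = 1
  hv : v * v = 1
  comm : u * v = v * u
  u1 : u ≠ 1
  v1 : v ≠ 1
  ne : u ≠ v
  cu : ∀ s, Commute u (ι s)
  cv : ∀ s, Commute v (ι s)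
  cent : ∀ g, Commute g u → Commute g v → ∃ k ∈ four u v, ∃ s, g = k * ι s

namespace Cent

variable {u v : G} {ι : A8 →* G} (C : Cent u v ι)
include C

theorem four_commute {k : G} (hk : k ∈ four u v) {g : G} (h1 : Commute g u) (h2 : Commute g v) : Commute g k := by
  rcases hk with rfl | rfl | rfl | rfl
  · exact Commute.one_right g
  · exact h1
  · exact h2
  · exact h1.mul_right h2

theorem four_u {k : G} (hk : k ∈ four u v) : Commute k u :=
  (C.four_commute hk (Commute.refl u) C.comm).symm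

theorem four_v {k : G} (hk : k ∈ four u v) : Commute k v :=
  (C.four_commute hk (C.comm.symm : Commute v u) (Commute.refl v)).symm

theorem four_iota {k : G} (hk : k ∈ four u v) (s : A8) : Commute k (ι s) :=
  (C.four_commute hk (C.cu s).symm (C.cv s).symm).symm

theorem four_four {k k' : G} (hk : k ∈ four u v) (hk' : k' ∈ four u v) : Commute k k' :=
  C.four_commute hk' (C.four_u hk) (C.four_v hk)

theorem four_sq {k : G} (hk : k ∈ four u v) : k * k = 1 := by
  rcases hk with rfl | rfl | rfl | rfl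
  · exact mul_one 1
  · exact C.hu
  · exact C.hv
  · calc u * v * (u * v) = u * (v * u) * v := by group
      _ = u * (u * v) * v := by rw [C.comm]
      _ = (u * u) * (v * v) := by group
      _ = 1 := by rw [C.hu, C.hv, mul_one]

theorem four_mul {k k' : G} (hk : k ∈ four u v) (hk' : k' ∈ four u v) : k * k' ∈ four u v := by
  have hu := C.hu
  have hv := C.hv
  have hc := C.comm
  rcases hk with rfl | rfl | rfl | rfl <;> rcases hk' with rfl | rfl | rfl | rfl
  · left; simp
  · right; left; simp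
  · right; right; left; simp
  · right; right; right; simp
  · right; left; simp
  · left; exact hu
  · right; right; right; rfl
  · right; right; left; rw [← mul_assoc, hu, one_mul]
  · right; right; left; simp
  · right; right; right; exact hc.symm
  · left; exact hv
  · right; left; rw [hc, ← mul_assoc, hv, one_mul]
  · right; right; right; simp
  · right; right; left; rw [hc, mul_assoc, hu, mul_one]
  · right; left; rw [mul_assoc, hv, mul_one]
  · left; exact C.four_sq (Or.inr (Or.inr (Or.inr rfl)))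

theorem uv_ne : u * v ≠ 1 := fun h => C.ne (by
  rw [mul_eq_one_iff_eq_inv] at h
  rw [h, inv_eq_iff_mul_eq_one, C.hv])

/-- The two factors meet trivially. -/
theorem disj {k : G} (hk : k ∈ four u v) {s : A8} (h : k = ι s) : s = 1 ∧ k = 1 := by
  have hs : s = 1 := by
    apply a8_center
    intro t
    have h1 := C.four_iota hk t
    rw [h] at h1
    exact C.inj (by rw [map_mul, map_mul]; exact h1.eq)
  exact ⟨hs, by rw [h, hs, map_one]⟩

/-- Unique decomposition. -/
theorem unique {k k' : G} (hk : k ∈ four u v) (hk' : k' ∈ four u v) {s s' : A8} (h : k * ι s = k' * ι s') :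
    k = k' ∧ s = s' := by
  have h1 : k' * k = ι (s' * s⁻¹) := by
    have hk2 : k'⁻¹ = k' := by rw [inv_eq_iff_mul_eq_one, C.four_sq hk']
    calc k' * k = k'⁻¹ * (k * ι s) * (ι s)⁻¹ := by rw [hk2]; group
      _ = ι (s' * s⁻¹) := by rw [h, map_mul, map_inv]; group
  obtain ⟨h2, h3⟩ := C.disj (C.four_mul hk' hk) h1
  constructor
  · have : k'⁻¹ = k' := by rw [inv_eq_iff_mul_eq_one, C.four_sq hk']
    rw [← this, ← inv_eq_of_mul_eq_one_right (C.four_sq hk)] at h3
    have h4 : k'⁻¹ * k⁻¹ = 1 := h3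
    rw [← mul_inv_rev, inv_eq_one] at h4
    rw [mul_eq_one_iff_eq_inv] at h4
    rw [h4, inv_eq_of_mul_eq_one_right (C.four_sq hk')]
  · rw [mul_inv_eq_one] at h2
    exact h2.symm

theorem commute_of_iota {l s : A8} (h : Commute (ι l) (ι s)) : Commute l s :=
  C.inj (by rw [map_mul, map_mul]; exact h.eq)

/-- An element of order three of the centraliser of `V` lies in `ι(A8)`. -/
theorem cube {g : G} (h1 : Commute g u) (h2 : Commute g v) (h3 : g ^ 3 = 1) : ∃ s, s ^ 3 = 1 ∧ g = ι s := by
  obtain ⟨k, hk, s, rfl⟩ := C.cent g h1 h2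
  have h4 : k * ι (s ^ 3) = 1 * ι 1 := by
    have hc := C.four_iota hk s
    have h5 : (k * ι s) ^ 3 = k ^ 3 * (ι s) ^ 3 := hc.mul_pow 3
    have h6 : k ^ 3 = k := by rw [pow_succ, pow_two, C.four_sq hk, one_mul]
    rw [map_one, mul_one, map_pow, ← h3, h5, h6]
  obtain ⟨h5, h6⟩ := C.unique hk (Or.inl rfl) h4
  exact ⟨s, h6, by rw [h5, one_mul]⟩

end Cent

/-- The centraliser structure together with an element of order three acting on the four-group and centralising
`ι(A8)`. -/
structure Quad (u v : G) (ι : A8 →* G) (x : G) : Prop extends Cent u v ι where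
  x3 : x ^ 3 = 1
  cx : ∀ s, Commute x (ι s)
  xu : x * u * x⁻¹ = v
  xv : x * v * x⁻¹ = u * v

theorem Cent.map {G' : Type*} [Group G'] {u v : G} {ι : A8 →* G} (C : Cent u v ι) (φ : G ≃* G') :
    Cent (φ u) (φ v) (φ.toMonoidHom.comp ι) where
  inj := φ.injective.comp C.inj
  hu := by rw [← map_mul, C.hu, map_one]
  hv := by rw [← map_mul, C.hv, map_one]
  comm := by rw [← map_mul, C.comm, map_mul]
  u1 := fun h => C.u1 (φ.injective (by rw [h, map_one]))
  v1 := fun h => C.v1 (φ.injective (by rw [h, map_one]))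
  ne := fun h => C.ne (φ.injective h)
  cu := fun s => (C.cu s).map φ.toMonoidHom
  cv := fun s => (C.cv s).map φ.toMonoidHom
  cent := by
    intro g h1 h2
    have h3 := h1.map φ.symm.toMonoidHom
    have h4 := h2.map φ.symm.toMonoidHom
    simp only [MulEquiv.toMonoidHom_eq_coe, MonoidHom.coe_coe, MulEquiv.symm_apply_apply] at h3 h4
    obtain ⟨k, hk, s, hs⟩ := C.cent _ h3 h4
    refine ⟨φ k, ?_, s, ?_⟩
    · rcases hk with rfl | rfl | rfl | rfl
      · left; exact map_one φ
      · right; left; rfl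
      · right; right; left; rfl
      · right; right; right; exact map_mul φ u v
    · have := congrArg φ hs
      rw [MulEquiv.apply_symm_apply, map_mul] at this
      exact this

theorem Quad.map {G' : Type*} [Group G'] {u v x : G} {ι : A8 →* G} (Q : Quad u v ι x) (φ : G ≃* G') :
    Quad (φ u) (φ v) (φ.toMonoidHom.comp ι) (φ x) where
  toCent := Q.toCent.map φ
  x3 := by rw [← map_pow, Q.x3, map_one]
  cx := fun s => (Q.cx s).map φ.toMonoidHom
  xu := by rw [← map_inv, ← map_mul, ← map_mul, Q.xu]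
  xv := by rw [← map_inv, ← map_mul, ← map_mul, Q.xv, map_mul]

theorem Quad.comp {u v x : G} {ι : A8 →* G} (Q : Quad u v ι x) (e : A8 ≃* A8) :
    Quad u v (ι.comp e.toMonoidHom) x where
  inj := Q.inj.comp e.injective
  hu := Q.hu
  hv := Q.hv
  comm := Q.comm
  u1 := Q.u1
  v1 := Q.v1
  ne := Q.ne
  cu := fun s => Q.cu (e s)
  cv := fun s => Q.cv (e s)
  cent := by
    intro g h1 h2
    obtain ⟨k, hk, s, hs⟩ := Q.cent g h1 h2
    exact ⟨k, hk, e.symm s, by rw [hs]; simp⟩
  x3 := Q.x3
  cx := fun s => Q.cx (e s)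
  xu := Q.xu
  xv := Q.xv

namespace Quad

variable {u v x : G} {ι : A8 →* G} (Q : Quad u v ι x)
include Q

theorem xuv : x * (u * v) * x⁻¹ = u := by
  calc x * (u * v) * x⁻¹ = (x * u * x⁻¹) * (x * v * x⁻¹) := by group
    _ = v * (u * v) := by rw [Q.xu, Q.xv]
    _ = u := by rw [← mul_assoc, ← Q.comm, mul_assoc, Q.hv, mul_one]

/-- `x` moves every non-trivial element of the four-group. -/
theorem fix {k : G} (hk : k ∈ four u v) (h : Commute x k) : k = 1 := by
  have h' : x * k * x⁻¹ = k := by rw [h.eq]; group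
  rcases hk with rfl | rfl | rfl | rfl
  · rfl
  · rw [Q.xu] at h'; exact absurd h'.symm Q.ne
  · rw [Q.xv] at h'
    exact absurd (mul_eq_right.mp h') Q.u1
  · rw [Q.xuv] at h'
    exact absurd (left_eq_mul.mp h') Q.v1

theorem four_conj {k : G} (hk : k ∈ four u v) : x * k * x⁻¹ ∈ four u v := by
  rcases hk with rfl | rfl | rfl | rfl
  · left; group
  · right; right; left; exact Q.xu
  · right; right; right; exact Q.xv
  · right; left; exact Q.xuv

theorem four_conj_inv {k : G} (hk : k ∈ four u v) : x⁻¹ * k * x ∈ four u v := by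
  have h2 : x⁻¹ = x ^ 2 := by
    rw [inv_eq_iff_mul_eq_one, ← pow_succ', Q.x3]
  have h3 : x⁻¹ * k * x = x * (x * k * x⁻¹) * x⁻¹ := by
    have h4 : x = (x ^ 2)⁻¹ := by rw [← h2, inv_inv]
    calc x⁻¹ * k * x = x ^ 2 * k * (x ^ 2)⁻¹ := by rw [← h4, h2]
      _ = x * (x * k * x⁻¹) * x⁻¹ := by rw [pow_two]; group
  rw [h3]
  exact Q.four_conj (Q.four_conj hk)

/-- If `r` acts on the four-group as `x⁻¹` then `r * x` lies in the centraliser. -/
theorem split {r : G} (h1 : r * u * r⁻¹ = u * v) (h2 : r * v * r⁻¹ = u) :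
    ∃ k ∈ four u v, ∃ l, r * x = k * ι l := by
  have h3 : r * (u * v) * r⁻¹ = v := by
    calc r * (u * v) * r⁻¹ = (r * u * r⁻¹) * (r * v * r⁻¹) := by group
      _ = (u * v) * u := by rw [h1, h2]
      _ = v := by rw [Q.comm, mul_assoc, Q.hu, mul_one]
  apply Q.cent
  · show r * x * u = u * (r * x)
    calc r * x * u = r * (x * u * x⁻¹) * r⁻¹ * (r * x) := by group
      _ = u * (r * x) := by rw [Q.xu, h2]
  · show r * x * v = v * (r * x)
    calc r * x * v = r * (x * v * x⁻¹) * r⁻¹ * (r * x) := by group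
      _ = v * (r * x) := by rw [Q.xv, h3]

/-- The component `l` of such an element commutes with everything in `ι(A8)` commuting with `r`. -/
theorem split_commute {r k : G} {l s : A8} (hk : k ∈ four u v) (h : r * x = k * ι l)
    (hr : Commute r (ι s)) : Commute l s := by
  apply Q.toCent.commute_of_iota
  have h1 : ι l = k⁻¹ * (r * x) := by rw [h]; group
  rw [h1]
  exact ((Q.four_iota hk s).inv_left).mul_left (hr.mul_left (Q.cx s))

theorem commute_of_split {r k : G} (hk : k ∈ four u v) (h : r * x = k) (s : A8) : Commute r (ι s) := by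
  have h1 : r = k * x⁻¹ := by rw [← h]; group
  rw [h1]
  exact (Q.four_iota hk s).mul_left (Q.cx s).inv_left


/-- If `w` commutes with the four-group and with `r`, then it commutes with the `ι(A8)`-component of `r * x`. -/
theorem split_commute_fixed {r k w : G} {l : A8} (hk : k ∈ four u v) (h : r * x = k * ι l)
    (hwu : Commute w u) (hwv : Commute w v) (hwr : Commute w r) : Commute (ι l) w := by
  obtain ⟨kw, hkw, sw, hw⟩ := Q.cent w hwu hwv
  have h1 : r = k * ι l * x⁻¹ := by rw [← h]; group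
  have h2 : r * w * r⁻¹ = w := by rw [← hwr.eq]; group
  have h3 : r * w * r⁻¹ = (x⁻¹ * kw * x) * ι (l * sw * l⁻¹) := by
    have e1 : Commute x (ι sw) := Q.cx sw
    have e2 : Commute (ι l) (x⁻¹ * kw * x) := (Q.four_iota (Q.four_conj_inv hkw) l).symm
    have e3 : Commute k (x⁻¹ * kw * x) := Q.four_four hk (Q.four_conj_inv hkw)
    have e4 : Commute k (ι (l * sw * l⁻¹)) := Q.four_iota hk _
    calc r * w * r⁻¹ = k * ι l * (x⁻¹ * kw * (ι sw * x)) * (ι l)⁻¹ * k⁻¹ := by rw [h1, hw]; group
      _ = k * ι l * (x⁻¹ * kw * (x * ι sw)) * (ι l)⁻¹ * k⁻¹ := by rw [e1.eq]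
      _ = k * (ι l * (x⁻¹ * kw * x)) * ι sw * (ι l)⁻¹ * k⁻¹ := by group
      _ = k * ((x⁻¹ * kw * x) * ι l) * ι sw * (ι l)⁻¹ * k⁻¹ := by rw [e2.eq]
      _ = (k * (x⁻¹ * kw * x)) * (ι l * ι sw * (ι l)⁻¹) * k⁻¹ := by group
      _ = ((x⁻¹ * kw * x) * k) * ι (l * sw * l⁻¹) * k⁻¹ := by rw [e3.eq]; simp only [map_mul, map_inv]
      _ = (x⁻¹ * kw * x) * (k * ι (l * sw * l⁻¹)) * k⁻¹ := by group
      _ = (x⁻¹ * kw * x) * (ι (l * sw * l⁻¹) * k) * k⁻¹ := by rw [e4.eq]
      _ = _ := by group
  rw [h2] at h3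
  obtain ⟨h4, h5⟩ := Q.unique hkw (Q.four_conj_inv hkw) (hw.symm.trans h3)
  have h6 : kw = 1 := by
    apply Q.fix hkw
    show x * kw = kw * x
    conv_lhs => rw [h4]
    group
  rw [hw, h6, one_mul]
  show ι l * ι sw = ι sw * ι l
  rw [← map_mul, ← map_mul]
  congr 1
  conv_rhs => rw [h5]
  group

/-- The rotation argument: an element `r` of order three acting on the four-group like `x⁻¹` centralises `ι(A8)`,
provided that no element of order three commutes with the four-group and with given elements `w`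
commuting with the four-group and with `r`. -/
theorem rotation {r : G} (h1 : r * u * r⁻¹ = u * v) (h2 : r * v * r⁻¹ = u) (h3 : r ^ 3 = 1) (W : Set G)
    (hW : ∀ w ∈ W, Commute w u ∧ Commute w v ∧ Commute w r)
    (hno : ∀ g : G, g ^ 3 = 1 → Commute g u → Commute g v → (∀ w ∈ W, Commute g w) → g = 1) (s : A8) :
    Commute r (ι s) := by
  obtain ⟨k, hk, l, hl⟩ := Q.split h1 h2
  have h4 : ι l = 1 := by
    apply hno
    · rw [← map_pow]
      have h5 : l ^ 3 = 1 := by
        apply a8_center
        intro t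
        apply Q.toCent.commute_of_iota
        have e1 : Commute (k * x⁻¹) (ι l) := (Q.four_iota hk l).mul_left (Q.cx l).inv_left
        have e2 : r = (k * x⁻¹) * ι l := by
          have e3 : Commute x⁻¹ (ι l) := (Q.cx l).inv_left
          calc r = r * x * x⁻¹ := by group
            _ = k * (ι l * x⁻¹) := by rw [hl]; group
            _ = k * (x⁻¹ * ι l) := by rw [e3.eq]
            _ = _ := by group
        have e4 : (k * x⁻¹) ^ 3 * (ι l) ^ 3 = 1 := by rw [← e1.mul_pow, ← e2, h3]
        have e5 : ι (l ^ 3) = ((k * x⁻¹) ^ 3)⁻¹ := by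
          rw [map_pow, eq_inv_iff_mul_eq_one, ← e4, (e1.pow_pow 3 3).eq]
        rw [e5]
        exact (((Q.four_iota hk t).mul_left (Q.cx t).inv_left).pow_left 3).inv_left
      rw [h5, map_one]
    · exact (Q.cu l).symm
    · exact (Q.cv l).symm
    · intro w hw
      obtain ⟨a1, a2, a3⟩ := hW w hw
      exact Q.split_commute_fixed hk hl a1 a2 a3
  exact Q.commute_of_split hk (by rw [hl, h4, mul_one]) s

end Quad

/-- The local hypotheses: centraliser of the four-group `⟨t, z⟩` and fusion of four-groups. -/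
structure Loc (t z : G) (ι : A8 →* G) : Prop extends Cent t z ι where
  zt : IsConj z t
  tzt : IsConj (t * z) t
  fus : ∀ u v : G, u * u = 1 → v * v = 1 → u * v = v * u → u ≠ v → IsConj u t → IsConj v t →
    IsConj (u * v) t → ∃ h : G, h * u * h⁻¹ = t ∧ h * v * h⁻¹ = z
  four : IsConj (ι f1) t

end Cfsg.Agent.HN.Local
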