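import Cfsg.Agent.HN.H0Basic
import Cfsg.Agent.HN.Local
import Cfsg.Agent.Lib.AltCarmichael
import Cfsg.Agent.HN.CentCards
set_option linter.all false

-- part: HN/Iota
section
/-!
# The alternating group of degree 8 inside `H0 = 2.HS.2`

`iota : A₈ →* H0`, injective, commuting with `τ` and `gz`; explicit values; the centraliser of `gz` (given the bound
`|C(gz)| ≤ 80640`) is `{1, τ, gz, τ gz} × iota(A₈)`.
-/

set_option autoImplicit false

namespace Cfsg.Agent.HN.Iota

open Cfsg.Agent.HN.Pres Cfsg.Agent.HN.HS100 Cfsg.Agent.HN.P1408 Cfsg.Agent.HN.H0Basic Cfsg.Agent.HN.Local Equiv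
open Cfsg.Agent.Lib.AltCarmichael (cyc cyc_mem Rel)

/-- words for the images of the 3-cycles `(i 6 7)` -/
def gw : ℕ → List ℕ
  | 0 => [0, 0, 3, 4, 2, 4, 3, 3, 0, 2, 1, 3, 0, 0, 3, 4, 2, 4, 0, 3, 1, 2]
  | 1 => [3, 0, 2, 1, 3, 3, 0, 2, 1, 3, 0, 0, 3, 4, 2, 4, 3, 3, 0, 2, 2, 2, 1, 2, 0, 0, 3, 4, 2, 4, 3]
  | 2 => [2, 0, 3, 1, 2, 2, 0, 3, 1, 2, 0, 0, 2, 4, 3, 4, 2, 2, 0, 2, 2, 2, 1, 3, 0, 0, 2, 4, 3, 4, 2]
  | 3 => [3, 0, 2, 2, 2, 1, 2, 2, 0, 3, 1, 2, 0, 0, 2, 4, 3, 4, 2, 2, 0, 2, 2, 2, 1, 3, 0, 0, 2, 4, 3, 4, 2, 2, 0, 2, 2, 1, 2]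
  | 4 => [3, 0, 2, 2, 2, 1, 1, 3, 1, 3, 1, 3, 1, 2, 0, 2, 2, 1, 1, 3, 1, 3, 1, 3, 1, 2, 0, 3, 1, 2, 1, 3, 0, 3, 1, 4, 0, 2, 1, 2, 4]
  | _ => [2, 0, 2, 2, 1, 2, 2, 0, 3, 1, 1, 3, 1, 3, 1, 3, 1, 3, 0, 2, 1, 3, 3, 0, 3, 3, 1, 3, 1, 3, 0, 3, 1, 4, 0, 2, 1, 2, 4]

/-- concatenation of the words -/
def wp : List ℕ → List ℕ
  | [] => []
  | i :: l => gw i ++ wp l

/-- the images of the 3-cycles -/
def xg (i : ℕ) : H0 := hw (gw i)

theorem hw_wp (l : List ℕ) : hw (wp l) = (l.map xg).prod := by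
  induction l with
  | nil => rfl
  | cons i l ih => rw [wp, hw_append, ih, List.map_cons, List.prod_cons]; rfl

theorem chk3 : ∀ i < 6, eqw (wp [i, i, i]) [] = true := by decide +kernel
theorem chk2 : ∀ i < 6, ∀ j < 6, i ≠ j → eqw (wp [i, j, i, j]) [] = true := by decide +kernel
theorem chkz : ∀ i < 6, eqw (gw i ++ [4]) (4 :: gw i) = true := by decide +kernel
theorem chkp : ∀ i < 6, okw (gw i) = true ∧ par (gw i) = false := by decide +kernel
theorem chk1 : eqw (gw 0) [] = false := by decide +kernel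

theorem rel : Rel 6 xg where
  cube i hi := by
    have h : hw (wp [i, i, i]) = hw [] := hw_eq (chk3 i hi)
    rw [hw_wp, hw_nil] at h
    simp only [List.map_cons, List.map_nil, List.prod_cons, List.prod_nil, mul_one] at h
    rw [pow_succ, pow_two, mul_assoc]
    exact h
  sq i hi j hj hij := by
    have h : hw (wp [i, j, i, j]) = hw [] := hw_eq (chk2 i hi j hj hij)
    rw [hw_wp, hw_nil] at h
    simp only [List.map_cons, List.map_nil, List.prod_cons, List.prod_nil, mul_one] at h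
    rw [pow_two, mul_assoc]
    exact h

theorem exists_iota : ∃ φ : A8 →* H0, ∀ (i : ℕ) (hi : i < 6), φ ⟨cyc 6 i, cyc_mem 6 i hi⟩ = xg i :=
  Lib.AltCarmichael.exists_hom (m := 6) (by norm_num) rel

/-- the alternating group of degree 8 in the centraliser of `gz` -/
noncomputable def iota : A8 →* H0 := exists_iota.choose

theorem iota_cyc {i : ℕ} (hi : i < 6) : iota ⟨cyc 6 i, cyc_mem 6 i hi⟩ = xg i := exists_iota.choose_spec i hi

/-- A subgroup containing the six 3-cycles is everything. -/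
theorem top_of_gens {T : Subgroup A8} (h : ∀ (i : ℕ) (hi : i < 6), (⟨cyc 6 i, cyc_mem 6 i hi⟩ : A8) ∈ T) :
    T = ⊤ := by
  rw [eq_top_iff]
  intro s _
  have h1 : (s : Perm (Fin 8)) ∈ Lib.AltCarmichael.gen 6 (cyc 6) := by
    rw [Lib.AltCarmichael.gen_cyc 6 (by norm_num)]
    exact s.2
  have h2 : Lib.AltCarmichael.gen 6 (cyc 6) ≤ T.map (alternatingGroup (Fin 8)).subtype := by
    rw [Lib.AltCarmichael.gen_def, Subgroup.closure_le]
    rintro _ ⟨i, hi, rfl⟩
    exact ⟨⟨cyc 6 i, cyc_mem 6 i hi⟩, h i hi, rfl⟩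
  obtain ⟨t, ht, hts⟩ := h2 h1
  have : t = s := Subtype.ext hts
  rwa [← this]

theorem iota_inj : Function.Injective iota := by
  have hsimple : IsSimpleGroup A8 :=
    alternatingGroup.isSimpleGroup (by rw [Nat.card_eq_fintype_card, Fintype.card_fin]; norm_num)
  rw [← MonoidHom.ker_eq_bot_iff]
  rcases (inferInstance : iota.ker.Normal).eq_bot_or_eq_top with hb | ht
  · exact hb
  · exfalso
    have h1 : iota ⟨cyc 6 0, cyc_mem 6 0 (by norm_num)⟩ = 1 := by
      have : (⟨cyc 6 0, cyc_mem 6 0 (by norm_num)⟩ : A8) ∈ iota.ker := by rw [ht]; exact Subgroup.mem_top _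
      exact this
    rw [iota_cyc (by norm_num)] at h1
    have h2 : hw (gw 0) = hw [] := h1
    have h3 := eqw_of_hw_eq (chkp 0 (by norm_num)).1 rfl h2
    rw [chk1] at h3
    exact Bool.noConfusion h3

theorem τ_iota (s : A8) : Commute τ (iota s) := (τ_comm (iota s)).symm

theorem z_iota (s : A8) : Commute gz (iota s) := by
  let T : Subgroup A8 := (Subgroup.centralizer {gz}).comap iota
  have hT : T = ⊤ := by
    apply top_of_gens
    intro i hi
    show iota ⟨cyc 6 i, cyc_mem 6 i hi⟩ ∈ Subgroup.centralizer {gz}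
    rw [iota_cyc hi, Subgroup.mem_centralizer_singleton_iff]
    have h := hw_eq (chkz i hi)
    rw [hw_append, hw_z, hw_cons, hw_z] at h
    exact h
  have hs : s ∈ T := by rw [hT]; exact Subgroup.mem_top _
  have h2 : iota s ∈ Subgroup.centralizer {gz} := hs
  rw [Subgroup.mem_centralizer_singleton_iff] at h2
  exact h2.symm

theorem iota_mem_K (s : A8) : iota s ∈ K := by
  let T : Subgroup A8 := K.comap iota
  have hT : T = ⊤ := by
    apply top_of_gens
    intro i hi
    show iota ⟨cyc 6 i, cyc_mem 6 i hi⟩ ∈ K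
    rw [iota_cyc hi]
    exact mem_K_of_par (chkp i hi).1 (chkp i hi).2
  have hs : s ∈ T := by rw [hT]; exact Subgroup.mem_top _
  exact hs

/-! ### Values -/

/-- Computing a value of `iota`. -/
theorem iota_val (l : List ℕ) (hl : ∀ i ∈ l, i < 6) (s : A8) (hs : (l.map (cyc 6)).prod = (s : Perm (Fin 8)))
    (a : List ℕ) (ha : eqw (wp l) a = true) : iota s = hw a := by
  have key : ∀ l : List ℕ, (∀ i ∈ l, i < 6) → ∃ t : A8, (t : Perm (Fin 8)) = (l.map (cyc 6)).prod ∧
      iota t = (l.map xg).prod := by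
    intro l
    induction l with
    | nil => intro _; exact ⟨1, rfl, map_one _⟩
    | cons i l ih =>
      intro hl
      obtain ⟨t, ht1, ht2⟩ := ih (fun j hj => hl j (List.mem_cons_of_mem _ hj))
      have hi := hl i List.mem_cons_self
      refine ⟨⟨cyc 6 i, cyc_mem 6 i hi⟩ * t, ?_, ?_⟩
      · rw [List.map_cons, List.prod_cons, ← ht1]; rfl
      · rw [List.map_cons, List.prod_cons, map_mul, iota_cyc hi, ht2]
  obtain ⟨t, ht1, ht2⟩ := key l hl
  have hts : t = s := Subtype.ext (ht1.trans hs)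
  rw [← hts, ht2, ← hw_wp]
  exact hw_eq ha

/-- `(1 5 4 3 2)` -/
def p_a1 : A8 := mk (swap 1 5 * swap 5 4 * swap 4 3 * swap 3 2) (by decide)

/-- `(0 2)(1 4)` -/
def p_a2 : A8 := mk (swap 0 2 * swap 1 4) (by decide)

/-- `(0 6)(1 2)(3 4 5)` -/
def p_a3 : A8 := mk (swap 0 6 * swap 1 2 * swap 3 4 * swap 4 5) (by decide)

/-- `(1 2)(6 7)` -/
def p_g : A8 := mk (swap 1 2 * swap 6 7) (by decide)

/-- `(0 1)(2 3)(4 5)(6 7)` -/
def p_w4 : A8 := mk (swap 0 1 * swap 2 3 * swap 4 5 * swap 6 7) (by decide)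

theorem iota_a1 : iota p_a1 = hw [2, 0, 2, 2, 1, 2] :=
  iota_val [1, 4, 2, 5, 3, 1, 4] (by decide) _ (by decide +kernel) _ (by decide +kernel)

theorem iota_a2 : iota p_a2 = hw [0, 2, 0, 2, 0, 2, 0, 2] :=
  iota_val [0, 1, 2, 4, 0, 1] (by decide) _ (by decide +kernel) _ (by decide +kernel)

theorem iota_a3 : iota p_a3 = hw [3, 0, 2, 1, 3] :=
  iota_val [0, 3, 1, 5, 2, 4, 1, 3] (by decide) _ (by decide +kernel) _ (by decide +kernel)

theorem iota_g : iota p_g = hw [1, 3, 0, 3, 1, 4, 0, 2, 1, 2, 4] :=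
  iota_val [1, 2, 2, 1] (by decide) _ (by decide +kernel) _ (by decide +kernel)

theorem iota_w4 : iota p_w4 = hw [2, 0, 2, 2, 1, 1, 3, 1, 3, 1, 3, 1, 1, 3, 0, 3, 1, 4, 0, 2, 1, 2, 4] :=
  iota_val [0, 1, 1, 0, 2, 4, 3, 5, 2, 4] (by decide) _ (by decide +kernel) _ (by decide +kernel)

theorem iota_f1 : iota Local.f1 = hw [1, 3, 1, 3, 1, 3, 3, 3, 1, 2, 2, 2, 0, 2, 2, 2, 0, 2, 0, 2, 0] :=
  iota_val [0, 2, 1, 3, 0, 2] (by decide) _ (by decide +kernel) _ (by decide +kernel)

theorem iota_f2 : iota Local.f2 = hw [3, 0, 2, 1, 3, 3, 0, 2, 1, 3, 0, 2, 0, 2, 0, 2, 0, 2, 2, 0, 3, 1, 2, 2, 0, 3, 1, 2] :=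
  iota_val [0, 1, 2, 3, 0, 1] (by decide) _ (by decide +kernel) _ (by decide +kernel)

theorem iota_b0 : iota Local.b0 = hw [0, 0, 3, 4, 2, 4, 0, 3, 1, 2, 2, 0, 2, 2, 2, 1, 3, 0, 0, 3, 4, 2, 4, 0, 3, 1, 2] :=
  iota_val [0, 4, 1, 5, 0, 4] (by decide) _ (by decide +kernel) _ (by decide +kernel)

theorem iota_g0 : iota Local.g0 = hw [2, 0, 3, 1, 2, 0, 0, 2, 4, 3, 4, 0, 2, 1, 3, 0, 0, 3, 4, 2, 4, 3] :=
  iota_val [4, 5, 5, 4] (by decide) _ (by decide +kernel) _ (by decide +kernel)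

/-! ### Fusion facts -/

theorem z_w4 : gz * iota p_w4 = (hw [0, 2, 2, 2, 0, 3, 4, 3, 0, 2, 4, 2])⁻¹ * gz * hw [0, 2, 2, 2, 0, 3, 4, 3, 0, 2, 4, 2] := by
  rw [iota_w4, ← hw_z, ← hw_iw, ← hw_append, ← hw_append, ← hw_append]
  exact hw_eq (by decide +kernel)

theorem f1_conj : iota Local.f1 = (hw [0, 2, 2, 2, 0, 2, 0, 2, 0])⁻¹ * gy ^ 3 * hw [0, 2, 2, 2, 0, 2, 0, 2, 0] := by
  rw [iota_f1, show gy ^ 3 = hw [2, 2, 2] from (by rw [hw_cons, hw_cons 2 [2], hw_y, pow_succ, pow_two, mul_assoc]), ← hw_iw, ← hw_append, ← hw_append]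
  exact hw_eq (by decide +kernel)

theorem τ_w4 : τ * iota p_w4 = (hw [4, 2, 0, 2, 0, 3, 0, 2, 2])⁻¹ * gy ^ 3 * hw [4, 2, 0, 2, 0, 3, 0, 2, 2] := by
  rw [iota_w4, ← hw_τ, show gy ^ 3 = hw [2, 2, 2] from (by rw [hw_cons, hw_cons 2 [2], hw_y, pow_succ, pow_two, mul_assoc]), ← hw_iw, ← hw_append, ← hw_append, ← hw_append]
  exact hw_eq (by decide +kernel)

/-! ### The centraliser of `gz` -/

theorem z_sq : gz * gz = 1 := by
  rw [← hw_z, ← hw_append, ← hw_nil]
  exact hw_eq (by decide +kernel)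

theorem z_not_mem_K : gz ∉ K := by
  rw [← hw_z]
  exact not_mem_K_of_par rfl rfl

theorem z_ne_one : gz ≠ 1 := fun h => z_not_mem_K (h ▸ K.one_mem)

theorem τ_ne_z : τ ≠ gz := fun h => z_not_mem_K (h ▸ τ_mem_K)

/-- central elements of the image of `iota` are trivial -/
theorem eq_one_of_central {s : A8} (h : ∀ g : H0, iota s * g = g * iota s) : s = 1 := by
  apply a8_center
  intro t
  apply iota_inj
  rw [map_mul, map_mul]
  exact h (iota t)

/-- the element of the four-group given by two bits -/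
def kk (p : Bool × Bool) : H0 := (if p.1 then τ else 1) * (if p.2 then gz else 1)

theorem kk_mem (p : Bool × Bool) : kk p ∈ four τ gz := by
  obtain ⟨i, j⟩ := p
  cases i <;> cases j
  · left; simp [kk]
  · right; right; left; simp [kk]
  · right; left; simp [kk]
  · right; right; right; simp [kk]

theorem kk_comm_z (p : Bool × Bool) : kk p * gz = gz * kk p := by
  obtain ⟨i, j⟩ := p
  have h := τ_comm gz
  cases i <;> cases j
  · simp [kk]
  · simp [kk]
  · simp [kk, h]
  · simp only [kk, if_true]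
    rw [mul_assoc, z_sq, mul_one, ← mul_assoc, h, mul_assoc, z_sq, mul_one]

theorem kk_unique {p q : Bool × Bool} {s t : A8} (h : kk p * iota s = kk q * iota t) : p = q ∧ s = t := by
  obtain ⟨i, j⟩ := p
  obtain ⟨i', j'⟩ := q
  have hτ : ∀ i : Bool, (if i then τ else 1 : H0) ∈ K := by
    intro i; cases i
    · exact K.one_mem
    · exact τ_mem_K
  have hj : j = j' := by
    have h1 : ∀ (i j : Bool) (s : A8), kk (i, j) * iota s ∈ K ↔ j = false := by
      intro i j s
      have h2 : kk (i, j) * iota s ∈ K ↔ (if j then gz else 1 : H0) ∈ K := by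
        rw [Subgroup.mul_mem_cancel_right K (iota_mem_K s)]
        exact Subgroup.mul_mem_cancel_left K (hτ i)
      rw [h2]
      cases j
      · simp [K.one_mem]
      · simp [z_not_mem_K]
    have h2 := h1 i j s
    rw [h, h1 i' j' t] at h2
    cases j <;> cases j' <;> simp_all
  subst hj
  have hc : ∀ i : Bool, ∀ g : H0, (if i then τ else 1 : H0) * g = g * (if i then τ else 1 : H0) := by
    intro i g
    cases i
    · simp
    · exact (τ_comm g).symm
  have h3 : iota (s * t⁻¹) = (if i then τ else 1 : H0)⁻¹ * (if i' then τ else 1 : H0) := by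
    have h4 : (if i then τ else 1 : H0) * ((if j then gz else 1) * iota s) =
        (if i' then τ else 1 : H0) * ((if j then gz else 1) * iota t) := by
      rw [← mul_assoc, ← mul_assoc]; exact h
    have hci : ∀ g : H0, (if i then τ else 1 : H0)⁻¹ * g = g * (if i then τ else 1 : H0)⁻¹ := by
      intro g
      rw [inv_mul_eq_iff_eq_mul, ← mul_assoc, hc i g, mul_assoc, mul_inv_cancel, mul_one]
    have h5 : (if j then gz else 1 : H0) * iota s =
        (if j then gz else 1 : H0) * ((if i then τ else 1 : H0)⁻¹ * (if i' then τ else 1 : H0) * iota t) := by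
      calc (if j then gz else 1 : H0) * iota s
          = (if i then τ else 1 : H0)⁻¹ * ((if i then τ else 1 : H0) * ((if j then gz else 1) * iota s)) := by group
        _ = (if i then τ else 1 : H0)⁻¹ * ((if i' then τ else 1 : H0) * ((if j then gz else 1) * iota t)) := by
            rw [h4]
        _ = (if i then τ else 1 : H0)⁻¹ * (((if i' then τ else 1 : H0) * (if j then gz else 1)) * iota t) := by
            group
        _ = (if i then τ else 1 : H0)⁻¹ * (((if j then gz else 1) * (if i' then τ else 1 : H0)) * iota t) := by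
            rw [hc i']
        _ = ((if i then τ else 1 : H0)⁻¹ * (if j then gz else 1)) * ((if i' then τ else 1 : H0) * iota t) := by
            group
        _ = ((if j then gz else 1) * (if i then τ else 1 : H0)⁻¹) * ((if i' then τ else 1 : H0) * iota t) := by
            rw [hci]
        _ = _ := by group
    have h6 := mul_left_cancel h5
    rw [map_mul, map_inv, h6]; group
  have h7 : s * t⁻¹ = 1 := by
    apply eq_one_of_central
    intro g
    rw [h3]
    have hci : ∀ g : H0, (if i then τ else 1 : H0)⁻¹ * g = g * (if i then τ else 1 : H0)⁻¹ := by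
      intro g
      rw [inv_mul_eq_iff_eq_mul, ← mul_assoc, hc i g, mul_assoc, mul_inv_cancel, mul_one]
    rw [mul_assoc, hc i' g, ← mul_assoc, hci g, mul_assoc]
  have hst : s = t := mul_inv_eq_one.mp h7
  subst hst
  refine ⟨?_, rfl⟩
  have h8 : kk (i, j) = kk (i', j) := mul_right_cancel h
  have h9 : (if i then τ else 1 : H0) = (if i' then τ else 1 : H0) := mul_right_cancel h8
  cases i <;> cases i'
  · rfl
  · exact absurd h9.symm τ_ne_one
  · exact absurd h9 τ_ne_one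
  · rfl

/-- The centraliser of `gz` in `H0` is `{1, τ, gz, τ gz} × iota(A₈)`. -/
theorem cent (hz : Nat.card (Subgroup.centralizer {gz} : Subgroup H0) ≤ 80640) : Cent τ gz iota where
  inj := iota_inj
  hu := τ_mul_τ
  hv := z_sq
  comm := (τ_comm gz).symm
  u1 := τ_ne_one
  v1 := z_ne_one
  ne := τ_ne_z
  cu := τ_iota
  cv := z_iota
  cent := by
    intro g _ hgz
    let f : (Bool × Bool) × A8 → (Subgroup.centralizer {gz} : Subgroup H0) := fun p =>
      ⟨kk p.1 * iota p.2, by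
        rw [Subgroup.mem_centralizer_singleton_iff]
        rw [mul_assoc, ← (z_iota p.2).eq, ← mul_assoc, kk_comm_z, mul_assoc]⟩
    have hf : Function.Injective f := by
      rintro ⟨p, s⟩ ⟨q, t⟩ h
      obtain ⟨h1, h2⟩ := kk_unique (congrArg Subtype.val h)
      exact Prod.ext h1 h2
    have hcard : Nat.card ((Bool × Bool) × A8) = 80640 := by
      have h1 : Nat.card A8 = 20160 := by
        have h2 := two_mul_nat_card_alternatingGroup (α := Fin 8)
        rw [Nat.card_perm, Nat.card_eq_fintype_card (α := Fin 8), Fintype.card_fin] at h2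
        have h4 : 2 * Nat.card A8 = 2 * 20160 := h2
        exact Nat.eq_of_mul_eq_mul_left (by norm_num) h4
      rw [Nat.card_prod, Nat.card_prod, h1]
      simp
    have hb := hf.bijective_of_nat_card_le (by rw [hcard]; exact hz)
    obtain ⟨⟨p, s⟩, hps⟩ := hb.2 ⟨g, by rw [Subgroup.mem_centralizer_singleton_iff]; exact hgz.eq⟩
    exact ⟨kk p, kk_mem p, s, (congrArg Subtype.val hps).symm⟩

end Cfsg.Agent.HN.Iota
end

-- part: HN/IotaCent
section
/-!
# The centraliser of `gz` in `H0` is `{1, τ, gz, τ gz} × iota(A₈)`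
-/

set_option autoImplicit false

namespace Cfsg.Agent.HN.IotaCent

open Cfsg.Agent.HN.Pres Cfsg.Agent.HN.H0Basic Cfsg.Agent.HN.Local Cfsg.Agent.HN.Iota

/-- The centraliser of `gz` in `H0`. -/
theorem cent : Cent τ gz iota := Iota.cent CentCards.card_centralizer_z

end Cfsg.Agent.HN.IotaCent
end
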