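import Mathlib
import Cfsg.Agent.S0848
import Cfsg.Agent.HN.LocalThm
import Cfsg.Agent.J2Type.FourSelfCent
import Cfsg.Agent.SporadicB.DihedralLift
set_option linter.all false

-- part: HN/DihClose
section
/-!
# A finite group with an involution centraliser `D8` contained in a perfect subgroup of order 360
-/

set_option autoImplicit false

namespace Cfsg.Agent.HN.DihClose

open Subgroup

variable {K : Type*} [Group K]

theorem dih_sq : ∀ a : DihedralGroup 4, a ^ 2 = 1 ∨ a ^ 2 = DihedralGroup.r 2 := by decide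

/-- There is a perfect normal subgroup above every perfect subgroup. -/
theorem exists_perfect [Finite K] (K0 : Subgroup K) (hperf : ⁅K0, K0⁆ = K0) :
    ∃ P : Subgroup K, P.Normal ∧ K0 ≤ P ∧ ⁅P, P⁆ = P := by
  have key : ∀ n : ℕ, ∀ N : Subgroup K, Nat.card N = n → N.Normal → K0 ≤ N →
      ∃ P : Subgroup K, P.Normal ∧ K0 ≤ P ∧ ⁅P, P⁆ = P := by
    intro n
    induction n using Nat.strong_induction_on with
    | _ n ih =>
      intro N hn hN hK
      by_cases h : ⁅N, N⁆ = N
      · exact ⟨N, hN, hK, h⟩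
      · have hle : ⁅N, N⁆ ≤ N := commutator_le_right N N
        have hlt : ⁅N, N⁆ < N := lt_of_le_of_ne hle h
        have hcard : Nat.card (⁅N, N⁆ : Subgroup K) < n := by
          rw [← hn]
          exact Set.Finite.card_lt_card (Set.toFinite _) hlt
        refine ih _ hcard _ rfl inferInstance ?_
        rw [← hperf]
        exact commutator_mono hK hK
  exact key _ ⊤ rfl inferInstance le_top

theorem eq_top [Finite K] (K0 : Subgroup K) (t : K) (ht : orderOf t = 2)
    (e : centralizer ({t} : Set K) ≃* DihedralGroup 4) (hc : centralizer ({t} : Set K) ≤ K0)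
    (hcard : Nat.card K0 = 360) (hperf : ⁅K0, K0⁆ = K0) (hsq : ∃ a : K, a ^ 2 = t) : K0 = ⊤ := by
  obtain ⟨P, hPn, hKP, hP⟩ := exists_perfect K0 hperf
  have tC : t ∈ centralizer ({t} : Set K) := by rw [mem_centralizer_singleton_iff]
  have tK : t ∈ K0 := hc tC
  have tP : t ∈ P := hKP tK
  -- centraliser inside P
  let t' : P := ⟨t, tP⟩
  have ht' : orderOf t' = 2 := by rw [← ht]; exact (orderOf_injective P.subtype P.subtype_injective t').symm
  let e1 : centralizer ({t'} : Set P) ≃* centralizer ({t} : Set K) :=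
    { toFun := fun g => ⟨g.1.1, by
        rw [mem_centralizer_singleton_iff]
        exact congrArg Subtype.val (mem_centralizer_singleton_iff.mp g.2)⟩
      invFun := fun g => ⟨⟨g.1, hKP (hc g.2)⟩, by
        rw [mem_centralizer_singleton_iff]
        exact Subtype.ext (mem_centralizer_singleton_iff.mp g.2)⟩
      left_inv := fun g => rfl
      right_inv := fun g => rfl
      map_mul' := fun a b => rfl }
  have hPperf : commutator P = ⊤ := by
    have h1 : (commutator P).map P.subtype = P := by
      rw [_root_.commutator_def, map_commutator, ← MonoidHom.range_eq_map, P.range_subtype, hP]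
    apply map_injective P.subtype_injective
    rw [h1, ← MonoidHom.range_eq_map, P.range_subtype]
  have hPcard := S0848.result hPperf t' ht' (e1.trans e)
  have hdvd : Nat.card K0 ∣ Nat.card P := card_dvd_of_le hKP
  have hP360 : Nat.card P = 360 := by
    rcases hPcard with h | h
    · rw [h, hcard] at hdvd; exact absurd hdvd (by norm_num)
    · exact h
  have hPK : P = K0 := by
    symm
    apply eq_of_le_of_card_ge hKP
    rw [hP360, hcard]
  subst hPK
  -- Frattini
  obtain ⟨a, ha⟩ := hsq
  have haC : a ∈ centralizer ({t} : Set K) := by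
    rw [mem_centralizer_singleton_iff, ← ha, ← pow_succ, ← pow_succ']
  have he : ∀ g : centralizer ({t} : Set K), (∃ b : centralizer ({t} : Set K), b ^ 2 = g) → g ≠ 1 → g.1 = t := by
    rintro g ⟨b, rfl⟩ hg
    have h1 : e (b ^ 2) = DihedralGroup.r 2 := by
      rcases dih_sq (e b) with h | h
      · exfalso
        apply hg
        apply e.injective
        rw [map_pow, h, map_one]
      · rw [map_pow, h]
    have h2 : e ⟨t, tC⟩ = DihedralGroup.r 2 := by
      have h3 : (⟨t, tC⟩ : centralizer ({t} : Set K)) = ⟨a, haC⟩ ^ 2 := Subtype.ext ha.symm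
      rw [h3, map_pow]
      rcases dih_sq (e ⟨a, haC⟩) with h | h
      · exfalso
        have h4 : (⟨t, tC⟩ : centralizer ({t} : Set K)) = 1 := by
          apply e.injective
          rw [h3, map_pow, h, map_one]
        have h5 : t = 1 := congrArg Subtype.val h4
        rw [h5, orderOf_one] at ht
        exact absurd ht (by norm_num)
      · exact h
    have := e.injective (h1.trans h2.symm)
    exact congrArg Subtype.val this
  have : Fact (Nat.Prime 2) := ⟨Nat.prime_two⟩
  have hCcard : Nat.card (centralizer ({t} : Set K)) = 8 := by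
    rw [Nat.card_congr e.toEquiv, DihedralGroup.nat_card]
  have hS : Nat.card ((centralizer ({t} : Set K)).subgroupOf P) = 2 ^ (Nat.card P).factorization 2 := by
    rw [Nat.card_congr (subgroupOfEquivOfLe hc).toEquiv, hCcard, hcard]
    have h360 : (360 : ℕ) = 2 ^ 3 * 45 := by norm_num
    rw [h360, Nat.factorization_mul (by norm_num) (by norm_num), Nat.Prime.factorization_pow Nat.prime_two,
      Finsupp.add_apply, Finsupp.single_apply, if_pos rfl,
      Nat.factorization_eq_zero_of_not_dvd (by norm_num : ¬ 2 ∣ 45)]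
    norm_num
  let S : Sylow 2 P := Sylow.ofCard _ hS
  have hF := Sylow.normalizer_sup_eq_top S
  have hSm : (S : Subgroup P).map P.subtype = centralizer ({t} : Set K) := by
    show ((centralizer ({t} : Set K)).subgroupOf P).map P.subtype = _
    rw [map_subgroupOf_eq_of_le hc]
  have hNle : normalizer (((S : Subgroup P).map P.subtype : Subgroup K) : Set K) ≤ P := by
    rw [hSm]
    intro n hn
    apply hc
    rw [mem_centralizer_singleton_iff]
    have h1 : n * t * n⁻¹ ∈ centralizer ({t} : Set K) := (mem_normalizer_iff.mp hn t).mp tC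
    have h2 : n * a * n⁻¹ ∈ centralizer ({t} : Set K) := (mem_normalizer_iff.mp hn a).mp haC
    have h3 : n * t * n⁻¹ = t := he ⟨_, h1⟩ ⟨⟨_, h2⟩, Subtype.ext (by
      show (n * a * n⁻¹) ^ 2 = n * t * n⁻¹
      rw [conj_pow, ha])⟩ (fun h => by
      have h4 : n * t * n⁻¹ = 1 := congrArg Subtype.val h
      have h5 : t = 1 := by
        calc t = n⁻¹ * (n * t * n⁻¹) * n := by group
          _ = 1 := by rw [h4]; group
      rw [h5, orderOf_one] at ht
      exact absurd ht (by norm_num))
    calc n * t = (n * t * n⁻¹) * n := by group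
      _ = t * n := by rw [h3]
  rw [eq_top_iff, ← hF]
  exact sup_le hNle le_rfl

end Cfsg.Agent.HN.DihClose
end

-- part: HN/LocalCent
section
/-!
# The centralisers of `ι(A7)` and `ι(A6)`
-/

set_option autoImplicit false

namespace Cfsg.Agent.HN.LocalCent

open scoped commutatorElement
open Equiv Cfsg.Agent.HN.Local Cfsg.Agent.HN.LocalMain Cfsg.Agent.HN.LocalA12 Cfsg.Agent.Lib.AltCarmichael

/-- The point stabiliser of `7`. -/
def S7 : Set A8 := {s | (s : Perm (Fin 8)) 7 = 7}

/-- The stabiliser of `6` and `7`. -/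
def S6 : Set A8 := {s | (s : Perm (Fin 8)) 7 = 7 ∧ (s : Perm (Fin 8)) 6 = 6}

variable {G : Type*} [Group G]

/-- The centraliser of `ι(S)`. -/
def cen (ι : A8 →* G) (S : Set A8) : Subgroup G := Subgroup.centralizer (ι '' S)

theorem mem_cen {ι : A8 →* G} {S : Set A8} {g : G} : g ∈ cen ι S ↔ ∀ s ∈ S, Commute g (ι s) := by
  unfold cen
  rw [Subgroup.mem_centralizer_iff]
  constructor
  · intro h s hs
    exact (h _ ⟨s, hs, rfl⟩).symm
  · rintro h _ ⟨s, hs, rfl⟩
    exact (h s hs).eq.symm

variable {t z x y : G} {ι : A8 →* G}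

/-- The four-group as a subgroup. -/
def V (C : Cent t z ι) : Subgroup G where
  carrier := four t z
  one_mem' := Or.inl rfl
  mul_mem' := fun h1 h2 => C.four_mul h1 h2
  inv_mem' := fun {k} hk => by rw [inv_eq_of_mul_eq_one_right (C.four_sq hk)]; exact hk

theorem mem_V (C : Cent t z ι) {g : G} : g ∈ V C ↔ g ∈ four t z := Iff.rfl

theorem card_V (C : Cent t z ι) : Nat.card (V C) = 4 := by
  have h1 : ((V C : Subgroup G) : Set G) = {1, t, z, t * z} := by
    ext g
    show g ∈ four t z ↔ _
    simp [four]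
  have h2 : Nat.card (V C) = ({1, t, z, t * z} : Set G).ncard := by
    rw [← h1]; rfl
  rw [h2]
  have n1 : z ∉ ({t * z} : Set G) := by
    intro h
    exact C.u1 (right_eq_mul.mp h)
  have n2 : t ∉ ({z, t * z} : Set G) := by
    rintro (h | h)
    · exact C.ne h
    · exact C.v1 (left_eq_mul.mp h)
  have n3 : (1 : G) ∉ ({t, z, t * z} : Set G) := by
    rintro (h | h | h)
    · exact C.u1 h.symm
    · exact C.v1 h.symm
    · exact C.uv_ne h.symm
  rw [Set.ncard_insert_of_notMem n3, Set.ncard_insert_of_notMem n2, Set.ncard_insert_of_notMem n1,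
    Set.ncard_singleton]

/-! ### The centraliser of `ι(A7)` -/

theorem gen_le_cen (O : Out t z ι x y) (l : List (Fin 8)) (S : Set A8)
    (hS : ∀ s ∈ S, ∀ i ∈ l, (s : Perm (Fin 8)) i = i) : gen (l.length + 2) (seq ι t x y l) ≤ cen ι S := by
  rw [gen_def, Subgroup.closure_le]
  rintro _ ⟨i, hi, rfl⟩
  show _ ∈ cen ι S
  rw [mem_cen]
  intro s hs
  rcases i with _ | _ | i
  · exact O.cx s
  · exact xd_comm O s
  · rw [seq_add l i (by omega)]
    exact Y_comm O (hS s hs _ (List.getElem_mem _))

theorem t_mem_gen (O : Out t z ι x y) (l : List (Fin 8)) : t ∈ gen (l.length + 2) (seq ι t x y l) := by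
  have h0 : x ∈ gen (l.length + 2) (seq ι t x y l) := by
    have := mem_gen (x := seq ι t x y l) (show 0 < l.length + 2 by omega)
    rwa [seq_zero] at this
  have h1 : t * x⁻¹ * t ∈ gen (l.length + 2) (seq ι t x y l) := by
    have := mem_gen (x := seq ι t x y l) (show 1 < l.length + 2 by omega)
    rwa [seq_one] at this
  have h2 : x * (x * (t * x⁻¹ * t)) * x⁻¹ = t := by
    rw [xxd_eq O]
    calc x * (z * t) * x⁻¹ = (x * z * x⁻¹) * (x * t * x⁻¹) := by group
      _ = (t * z) * z := by rw [O.xu, O.xv]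
      _ = t := by rw [mul_assoc, O.hv, mul_one]
  have h3 := Subgroup.mul_mem _ (Subgroup.mul_mem _ h0 (Subgroup.mul_mem _ h0 h1)) (Subgroup.inv_mem _ h0)
  rwa [h2] at h3

theorem z_mem_gen (O : Out t z ι x y) (l : List (Fin 8)) : z ∈ gen (l.length + 2) (seq ι t x y l) := by
  have h0 : x ∈ gen (l.length + 2) (seq ι t x y l) := by
    have := mem_gen (x := seq ι t x y l) (show 0 < l.length + 2 by omega)
    rwa [seq_zero] at this
  have h3 := Subgroup.mul_mem _ (Subgroup.mul_mem _ h0 (t_mem_gen O l)) (Subgroup.inv_mem _ h0)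
  rwa [O.xu] at h3

/-- The centraliser of `ι(A7)` is generated by `x`, `xd`, `y`. -/
theorem cen7_eq [Finite G] (O : Out t z ι x y)
    (h7 : ∀ g : G, Commute g t → g ∈ cen ι S7 → g ∈ four t z) : cen ι S7 = gen 3 (seq ι t x y [7]) := by
  have hD : gen 3 (seq ι t x y [7]) ≤ cen ι S7 := gen_le_cen O [7] S7 (by
    intro s hs i hi
    rw [List.mem_singleton] at hi
    rw [hi]; exact hs)
  obtain ⟨eD⟩ := nonempty_gen_equiv (m := 3) (by norm_num) (rel_seq O [7] (by simp)) ⟨0, by norm_num, x_ne_one O⟩
  have hDcard : Nat.card (gen 3 (seq ι t x y [7])) = 60 := by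
    rw [Nat.card_congr eD.toEquiv, Nat.card_eq_fintype_card]
    have : Nontrivial (Fin (3 + 2)) := ⟨⟨0, 1, by simp⟩⟩
    have h2 := two_mul_card_alternatingGroup (α := Fin (3 + 2))
    rw [Fintype.card_perm, Fintype.card_fin] at h2
    have h3 : (3 + 2).factorial = 120 := rfl
    omega
  have hx : x ∈ cen ι S7 := by rw [mem_cen]; exact fun s _ => O.cx s
  have hVC : V O.toCent ≤ cen ι S7 := by
    intro g hg
    rw [mem_cen]
    exact fun s _ => O.four_iota hg s
  have hHyp : J2Type.FourSelfCent.Hyp ((V O.toCent).subgroupOf (cen ι S7)) := by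
    refine ⟨?_, ?_, ?_⟩
    · rw [Nat.card_congr (Subgroup.subgroupOfEquivOfLe hVC).toEquiv, card_V]
    · intro u hu
      exact Subtype.ext (O.four_sq hu)
    · rintro ⟨u, hu'⟩ hu hu1 ⟨g, hg⟩ hgu
      have hu1' : u ≠ 1 := fun h => hu1 (Subtype.ext h)
      have hgu' : Commute g u := congrArg Subtype.val hgu
      show g ∈ four t z
      have hu2 : u ∈ four t z := hu
      rcases hu2 with rfl | rfl | rfl | rfl
      · exact absurd rfl hu1'
      · exact h7 g hgu' hg
      · -- conjugate by x
        have h1 : Commute (x⁻¹ * g * x) t := by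
          have e1 : x⁻¹ * u * x = t := by rw [← O.xu]; group
          have := commute_conj (g := x⁻¹) hgu'
          rwa [inv_inv, e1] at this
        have h2 := h7 _ h1 (Subgroup.mul_mem _ (Subgroup.mul_mem _ (Subgroup.inv_mem _ hx) hg) hx)
        have h3 := O.toQuad.four_conj h2
        have h4 : x * (x⁻¹ * g * x) * x⁻¹ = g := by group
        rwa [h4] at h3
      · have h1 : Commute (x * g * x⁻¹) t := by
          have := commute_conj (g := x) hgu'
          rwa [O.toQuad.xuv] at this
        have h2 := h7 _ h1 (Subgroup.mul_mem _ (Subgroup.mul_mem _ hx hg) (Subgroup.inv_mem _ hx))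
        have h3 := O.toQuad.four_conj_inv h2
        have h4 : x⁻¹ * (x * g * x⁻¹) * x = g := by group
        rwa [h4] at h3
  have hcases := hHyp.card_cases
  have hdvd : Nat.card (gen 3 (seq ι t x y [7])) ∣ Nat.card (cen ι S7) := Subgroup.card_dvd_of_le hD
  symm
  apply Subgroup.eq_of_le_of_card_ge hD
  rw [hDcard] at hdvd ⊢
  rcases hcases with h | h | h
  · rw [h] at hdvd; exact absurd hdvd (by norm_num)
  · rw [h] at hdvd; exact absurd hdvd (by norm_num)
  · rw [h]

/-- (C1) -/
theorem cen7_equiv [Finite G] (O : Out t z ι x y)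
    (h7 : ∀ g : G, Commute g t → g ∈ cen ι S7 → g ∈ four t z) : Nonempty (cen ι S7 ≃* alternatingGroup (Fin 5)) := by
  rw [cen7_eq O h7]
  exact nonempty_gen_equiv (m := 3) (by norm_num) (rel_seq O [7] (by simp)) ⟨0, by norm_num, x_ne_one O⟩

/-! ### The centraliser of `ι(A6)` -/

/-- The alternating group of degree six. -/
abbrev A6 := alternatingGroup (Fin (4 + 2))

/-- The Carmichael generators of `A6`. -/
def k (i : ℕ) (hi : i < 4) : A6 := ⟨cyc 4 i, cyc_mem 4 i hi⟩

/-- `(0 1)(4 5)` -/
def T : A6 := k 0 (by norm_num) * (k 0 (by norm_num) * k 1 (by norm_num)) * (k 0 (by norm_num))⁻¹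
/-- `(0 5)(1 4)` -/
def Z : A6 := k 0 (by norm_num) * k 1 (by norm_num) * T
/-- `(0 1)(2 3)` -/
def W : A6 := ⟨swap 0 1 * swap 2 3, Perm.mem_alternatingGroup.mpr (by decide)⟩

theorem a6_simple : IsSimpleGroup A6 :=
  alternatingGroup.isSimpleGroup (by rw [Nat.card_eq_fintype_card, Fintype.card_fin]; norm_num)

theorem a6_perfect : commutator A6 = ⊤ := by
  have := a6_simple
  rcases (inferInstance : (commutator A6).Normal).eq_bot_or_eq_top with h | h
  · exfalso
    have h1 : ⁅k 0 (by norm_num), k 1 (by norm_num)⁆ ∈ commutator A6 :=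
      Subgroup.commutator_mem_commutator (Subgroup.mem_top _) (Subgroup.mem_top _)
    rw [h, Subgroup.mem_bot] at h1
    exact absurd h1 (by decide)
  · exact h

theorem a6_card : Nat.card (alternatingGroup (Fin (4 + 2))) = 360 := by
  rw [Nat.card_eq_fintype_card]
  have : Nontrivial (Fin (4 + 2)) := ⟨⟨0, 1, by simp⟩⟩
  have h2 := two_mul_card_alternatingGroup (α := Fin (4 + 2))
  rw [Fintype.card_perm, Fintype.card_fin] at h2
  have h3 : (4 + 2).factorial = 720 := rfl
  omega

/-- The image of `A6` in the centraliser of `ι(A6)`. -/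
theorem exists_a6 (O : Out t z ι x y) : ∃ ψ : A6 →* G, Function.Injective ψ ∧
    ψ.range = gen 4 (seq ι t x y [6, 7]) ∧ ψ T = t ∧ ψ Z = z := by
  obtain ⟨ψ, hψ⟩ := exists_hom (m := 4) (by norm_num) (rel_seq O [6, 7] (by decide))
  have := a6_simple
  have e0 : ψ (k 0 (by norm_num)) = x := hψ 0 (by norm_num)
  have e1 : ψ (k 1 (by norm_num)) = t * x⁻¹ * t := hψ 1 (by norm_num)
  have hinj : Function.Injective ψ := by
    rw [← MonoidHom.ker_eq_bot_iff]
    rcases (inferInstance : ψ.ker.Normal).eq_bot_or_eq_top with hb | ht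
    · exact hb
    · exfalso
      apply x_ne_one O
      rw [← e0]
      have : k 0 (by norm_num) ∈ ψ.ker := by rw [ht]; exact Subgroup.mem_top _
      exact this
  have eT : ψ T = t := by
    have : ψ T = x * (x * (t * x⁻¹ * t)) * x⁻¹ := by
      show ψ (k 0 (by norm_num) * (k 0 (by norm_num) * k 1 (by norm_num)) * (k 0 (by norm_num))⁻¹) = _
      rw [map_mul, map_mul, map_mul, map_inv, e0, e1]
    rw [this, xxd_eq O]
    calc x * (z * t) * x⁻¹ = (x * z * x⁻¹) * (x * t * x⁻¹) := by group
      _ = (t * z) * z := by rw [O.xu, O.xv]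
      _ = t := by rw [mul_assoc, O.hv, mul_one]
  refine ⟨ψ, hinj, ?_, eT, ?_⟩
  · apply le_antisymm
    · have h2 : (⊤ : Subgroup A6) = Subgroup.closure {g : A6 | ∃ (i : ℕ) (hi : i < 4), g = k i hi} := by
        symm
        rw [eq_top_iff]
        intro g _
        have hg : (g : Equiv.Perm (Fin (4 + 2))) ∈ gen 4 (cyc 4) := by
          rw [gen_cyc 4 (by omega)]; exact g.2
        have h3 : gen 4 (cyc 4) ≤ (Subgroup.closure {g : A6 | ∃ (i : ℕ) (hi : i < 4), g = k i hi}).map
              (alternatingGroup (Fin (4 + 2))).subtype := by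
          rw [gen_def, Subgroup.closure_le]
          rintro _ ⟨i, hi, rfl⟩
          exact ⟨k i hi, Subgroup.subset_closure ⟨i, hi, rfl⟩, rfl⟩
        obtain ⟨g', hg', hgg⟩ := h3 hg
        have : g' = g := Subtype.ext hgg
        rwa [← this]
      rw [MonoidHom.range_eq_map, h2, Subgroup.map_le_iff_le_comap, Subgroup.closure_le]
      rintro _ ⟨i, hi, rfl⟩
      have e : ψ (k i hi) = seq ι t x y [6, 7] i := hψ i hi
      show ψ (k i hi) ∈ gen 4 (seq ι t x y [6, 7])
      rw [e]
      exact mem_gen hi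
    · rw [gen_def, Subgroup.closure_le]
      rintro _ ⟨i, hi, rfl⟩
      exact ⟨k i hi, hψ i hi⟩
  · show ψ (k 0 (by norm_num) * k 1 (by norm_num) * T) = z
    rw [map_mul, map_mul, e0, e1, eT, xxd_eq O, mul_assoc, O.hu, mul_one]

/-- (C2) The centraliser of `ι(A6)` is generated by `x`, `xd`, `Y 6`, `Y 7`. -/
theorem cen6_eq [Finite G] (O : Out t z ι x y)
    (h6 : Nat.card (Subgroup.centralizer ({t} : Set G) ⊓ cen ι S6 : Subgroup G) ≤ 8) :
    cen ι S6 = gen 4 (seq ι t x y [6, 7]) := by
  obtain ⟨ψ, hinj, hr, eT, eZ⟩ := exists_a6 O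
  have hK : gen 4 (seq ι t x y [6, 7]) ≤ cen ι S6 := gen_le_cen O [6, 7] S6 (by
    intro s hs i hi
    simp only [List.mem_cons, List.not_mem_nil, or_false] at hi
    rcases hi with rfl | rfl
    · exact hs.2
    · exact hs.1)
  rw [← hr] at hK ⊢
  -- the dihedral group
  have oz : orderOf z = 2 := by
    rw [← eZ, orderOf_injective ψ hinj]
    exact orderOf_eq_prime (by decide +kernel) (by decide +kernel)
  have ow : orderOf (ψ W) = 2 := by
    rw [orderOf_injective ψ hinj]
    exact orderOf_eq_prime (by decide +kernel) (by decide +kernel)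
  have ozw : orderOf (z * ψ W) = 4 := by
    rw [← eZ, ← map_mul, orderOf_injective ψ hinj]
    exact orderOf_eq_prime_pow (p := 2) (n := 1) (by decide +kernel) (by decide +kernel)
  have ot : orderOf t = 2 := by
    rw [← eT, orderOf_injective ψ hinj]
    exact orderOf_eq_prime (by decide +kernel) (by decide +kernel)
  obtain ⟨e⟩ := SporadicB.DihedralLift.closure_pair_equiv_dihedral' oz ow ozw
  have hDC : Subgroup.closure ({z, ψ W} : Set G) ≤ Subgroup.centralizer ({t} : Set G) ⊓ cen ι S6 := by
    rw [Subgroup.closure_le]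
    rintro g (rfl | rfl)
    · refine ⟨?_, hK ⟨Z, eZ⟩⟩
      show g ∈ Subgroup.centralizer ({t} : Set G)
      rw [Subgroup.mem_centralizer_singleton_iff]
      exact O.comm.symm
    · refine ⟨?_, hK ⟨W, rfl⟩⟩
      show ψ W ∈ Subgroup.centralizer ({t} : Set G)
      rw [Subgroup.mem_centralizer_singleton_iff, ← eT, ← map_mul, ← map_mul, show W * T = T * W by decide +kernel]
  have hCeq : Subgroup.closure ({z, ψ W} : Set G) = Subgroup.centralizer ({t} : Set G) ⊓ cen ι S6 := by
    apply Subgroup.eq_of_le_of_card_ge hDC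
    rw [Nat.card_congr e.toEquiv, DihedralGroup.nat_card]
    exact h6
  have hCK : Subgroup.centralizer ({t} : Set G) ⊓ cen ι S6 ≤ ψ.range := by
    rw [← hCeq, Subgroup.closure_le]
    rintro g (rfl | rfl)
    · exact ⟨Z, eZ⟩
    · exact ⟨W, rfl⟩
  -- inside `K = cen ι S6`
  have htK : t ∈ cen ι S6 := hK ⟨T, eT⟩
  let t' : cen ι S6 := ⟨t, htK⟩
  have ht' : orderOf t' = 2 := by
    rw [← ot]; exact (orderOf_injective (cen ι S6).subtype (cen ι S6).subtype_injective t').symm
  have hmem : ∀ g : cen ι S6, g ∈ Subgroup.centralizer ({t'} : Set (cen ι S6)) ↔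
      (g : G) ∈ Subgroup.closure ({z, ψ W} : Set G) := by
    intro g
    rw [hCeq, Subgroup.mem_inf, Subgroup.mem_centralizer_singleton_iff, Subgroup.mem_centralizer_singleton_iff]
    constructor
    · intro h
      exact ⟨congrArg Subtype.val h, g.2⟩
    · intro h
      exact Subtype.ext h.1
  let e1 : Subgroup.centralizer ({t'} : Set (cen ι S6)) ≃* Subgroup.closure ({z, ψ W} : Set G) :=
    { toFun := fun g => ⟨g.1.1, (hmem g.1).mp g.2⟩
      invFun := fun g => ⟨⟨g.1, (hDC g.2).2⟩, (hmem _).mpr g.2⟩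
      left_inv := fun g => rfl
      right_inv := fun g => rfl
      map_mul' := fun a b => rfl }
  have hperf : ⁅ψ.range, ψ.range⁆ = ψ.range := by
    rw [MonoidHom.range_eq_map, ← Subgroup.map_commutator]
    congr 1
    exact a6_perfect
  have hcard : Nat.card ψ.range = 360 := by
    rw [← a6_card]
    exact (Nat.card_congr (MonoidHom.ofInjective hinj).toEquiv).symm
  have key := DihClose.eq_top (ψ.range.subgroupOf (cen ι S6)) t' ht' (e1.trans e)
    (by
      intro g hg
      rw [Subgroup.mem_subgroupOf]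
      apply hCK
      rw [← hCeq]
      exact (hmem g).mp hg)
    (by rw [Nat.card_congr (Subgroup.subgroupOfEquivOfLe hK).toEquiv, hcard])
    (by
      apply Subgroup.map_injective (cen ι S6).subtype_injective
      rw [Subgroup.map_commutator, Subgroup.map_subgroupOf_eq_of_le hK, hperf])
    ⟨⟨ψ (Z * W), hK ⟨_, rfl⟩⟩, Subtype.ext (by
      show (ψ (Z * W)) ^ 2 = t
      rw [← eT, ← map_pow, show (Z * W) ^ 2 = T by decide +kernel])⟩
  apply le_antisymm _ hK
  rwa [Subgroup.subgroupOf_eq_top] at key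

/-- (C2) -/
theorem cen6_equiv [Finite G] (O : Out t z ι x y)
    (h6 : Nat.card (Subgroup.centralizer ({t} : Set G) ⊓ cen ι S6 : Subgroup G) ≤ 8) :
    Nonempty (cen ι S6 ≃* alternatingGroup (Fin 6)) := by
  rw [cen6_eq O h6]
  exact nonempty_gen_equiv (m := 4) (by norm_num) (rel_seq O [6, 7] (by decide)) ⟨0, by norm_num, x_ne_one O⟩

end Cfsg.Agent.HN.LocalCent
end
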