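import Cfsg.Agent.HN.H0Basic
import Cfsg.Agent.HN.PC
set_option linter.all false

set_option autoImplicit false

/-!
A Sylow 2-subgroup `S` of `H0 = 2.HS.2` (order `2 ^ 11`) with a polycyclic presentation; all involutions of `H0`
up to conjugation; the fifth term of the lower central series of `S` is `⟨a τ⟩`, `a = y³`.
-/

namespace Cfsg.Agent.HN.Syl

open Cfsg.Agent.HN.Pres Cfsg.Agent.HN.HS100 Cfsg.Agent.HN.P1408 Cfsg.Agent.HN.H0Basic Cfsg.Agent.HN.PC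
open Cfsg.Agent.SporadicA.PermTab (band band_eq_true)
open scoped commutatorElement

/-- certificate tree: leaves `z` (trivial element), `n p` (the square moves `p` to neither `p` nor `τ p`),
`i r c` (conjugate to the `r`-th representative, the coded word `c`). -/
inductive CT
  | z
  | n (p : ℕ)
  | i (r : ℕ) (c : ℕ)
  | b (l r : CT)

/-- words of the polycyclic generators -/
def SWL : List (List ℕ) := [
  [0, 0],
  [2, 2, 2, 0, 0],
  [2, 4, 3, 3, 3, 4, 2, 2, 2, 0, 2, 0, 4, 3, 3, 1, 4],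
  [2, 4, 0, 2, 0, 4, 2, 1, 2, 2, 2, 4, 2, 2, 2, 4],
  [2, 0, 4, 2, 2, 2, 1, 4, 3],
  [0, 2, 4, 3, 3, 4, 3, 3, 4, 2, 2, 4, 2, 1],
  [3, 4, 2, 2, 0, 2, 0, 4, 2, 1, 3, 3, 4, 3, 3, 4],
  [0, 4, 2, 2, 2, 1, 4],
  [0, 4, 3, 0, 4, 3, 1, 4, 3],
  [3, 0, 2, 2, 2, 4, 2, 2, 2, 1],
  [0, 2, 2, 0, 2, 2, 2, 0, 3, 4, 3, 1]]

/-- squares of the polycyclic generators -/
def SQL : List (List ℕ) := [[], [], [], [1], [], [], [0, 1, 2], [], [], [2], []]

/-- commutators of the polycyclic generators -/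
def CML : List (List (List ℕ)) := [
  [],
  [[]],
  [[], []],
  [[], [], []],
  [[], [], [], [1]],
  [[], [], [], [], [1]],
  [[], [], [], [], [2], []],
  [[], [], [1], [], [], [1], [0, 1, 2, 3]],
  [[], [], [1], [1], [], [1], [1, 3], []],
  [[], [], [], [1, 2], [1], [0, 1, 2], [], [1, 4], [4]],
  [[], [], [], [1], [1, 3], [], [0, 1, 2], [1, 3, 5], [0, 3], [1, 5, 6]]]

/-- subtree -/
def T0000 : CT :=
  .b (.b (.b (.b (.b (.b .z (.i 1 0x1)) (.b (.i 0 0x31b894) (.i 0 0x6371c6dc))) (.b (.b (.n 3) (.n 3)) (.b (.n 3)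
  (.n 3)))) (.b (.b (.b (.i 1 0x262) (.i 1 0x628946d9)) (.b (.i 1 0x18cb2a251c) (.i 1 0x31145b714))) (.b (.b
  (.i 1 0x63719654) (.i 1 0x18dc4a3)) (.b (.i 1 0x625146dc) (.i 1 0x3128dc))))) (.b (.b (.b (.b (.i 0
  0x18d96e3) (.i 0 0x638ca314)) (.b (.i 1 0x633122ca) (.i 1 0x312294))) (.b (.b (.n 3) (.n 3)) (.b (.n 3) (.n
  3)))) (.b (.b (.b (.n 3) (.n 3)) (.b (.n 3) (.n 3))) (.b (.b (.n 3) (.n 3)) (.b (.n 3) (.n 3)))))) (.b (.b
  (.b (.b (.b (.n 0) (.n 0)) (.b (.n 0) (.n 0))) (.b (.b (.n 0) (.n 0)) (.b (.n 0) (.n 0)))) (.b (.b (.b (.n 3)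
  (.n 3)) (.b (.n 3) (.n 3))) (.b (.b (.n 3) (.n 3)) (.b (.n 3) (.n 3))))) (.b (.b (.b (.b (.n 0) (.n 0)) (.b
  (.n 0) (.n 0))) (.b (.b (.n 0) (.n 0)) (.b (.n 0) (.n 0)))) (.b (.b (.b (.i 2 0x596e365b2a2) (.i 2
  0x16596e38cc)) (.b (.i 2 0x2d965b651) (.i 2 0x18cb29148a))) (.b (.b (.i 2 0x18cb6632cb) (.i 2 0xb7195122ca))
  (.b (.i 2 0x596e3891) (.i 2 0xa51171b28a))))))

/-- subtree -/
def T0001 : CT :=
  .b (.b (.b (.b (.b (.b (.i 1 0x4c) (.i 1 0x31c6e36ca)) (.b (.n 3) (.n 3))) (.b (.b (.n 3) (.n 3)) (.b (.i 0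
  0x188a2e3714) (.i 0 0x31965b71c)))) (.b (.b (.b (.i 1 0x638dc6d9) (.i 1 0x263)) (.b (.n 3) (.n 3))) (.b (.b
  (.i 0 0x12cb663651) (.i 0 0x12dc6dc719)) (.b (.n 3) (.n 3))))) (.b (.b (.b (.b (.n 3) (.n 3)) (.b (.i 0
  0x6231b28b) (.i 0 0x31b2dc))) (.b (.b (.i 1 0x18d96e2) (.i 1 0xc463651)) (.b (.n 3) (.n 3)))) (.b (.b (.b (.i
  1 0x18914a3) (.i 1 0xc662459)) (.b (.n 3) (.n 3))) (.b (.b (.i 0 0x6328a894) (.i 0 0x18d98dc)) (.b (.n 3) (.n
  3)))))) (.b (.b (.b (.b (.b (.n 0) (.n 0)) (.b (.n 0) (.n 0))) (.b (.b (.n 0) (.n 0)) (.b (.n 0) (.n 0))))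
  (.b (.b (.b (.n 0) (.n 0)) (.b (.n 0) (.n 0))) (.b (.b (.n 0) (.n 0)) (.b (.n 0) (.n 0))))) (.b (.b (.b (.b
  (.n 0) (.n 0)) (.b (.n 0) (.n 0))) (.b (.b (.n 0) (.n 0)) (.b (.n 0) (.n 0)))) (.b (.b (.b (.n 0) (.n 0)) (.b
  (.n 0) (.n 0))) (.b (.b (.n 0) (.n 0)) (.b (.n 0) (.n 0))))))

/-- subtree -/
def T0010 : CT :=
  .b (.b (.b (.b (.b (.b (.i 3 0x21b2cb8d9) (.i 3 0x10dc6cb6cb)) (.b (.n 3) (.n 3))) (.b (.b (.i 3 0x5b8cb2e2)
  (.i 3 0x86dc)) (.b (.n 3) (.n 3)))) (.b (.b (.b (.i 3 0x21b8d96d9) (.i 3 0x43663651)) (.b (.n 3) (.n 3))) (.b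
  (.b (.n 3) (.n 3)) (.b (.i 3 0x436e3) (.i 3 0xb71965c))))) (.b (.b (.b (.b (.n 3) (.n 3)) (.b (.i 4
  0xb6514a28a3) (.i 4 0x21b6596e38e2))) (.b (.b (.n 3) (.n 3)) (.b (.i 4 0x10d96cb65b2ca) (.i 4
  0x10cb6594516d9)))) (.b (.b (.b (.i 4 0xb6514a28a2) (.i 4 0x436cb2dc71c)) (.b (.n 3) (.n 3))) (.b (.b (.n 3)
  (.n 3)) (.b (.i 4 0x2d96cb311451) (.i 4 0x5b2db88b65c)))))) (.b (.b (.b (.b (.b (.n 0) (.n 0)) (.b (.n 0) (.n
  0))) (.b (.b (.n 0) (.n 0)) (.b (.n 0) (.n 0)))) (.b (.b (.b (.n 0) (.n 0)) (.b (.n 0) (.n 0))) (.b (.b (.n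
  0) (.n 0)) (.b (.n 0) (.n 0))))) (.b (.b (.b (.b (.n 0) (.n 0)) (.b (.n 0) (.n 0))) (.b (.b (.n 0) (.n 0))
  (.b (.n 0) (.n 0)))) (.b (.b (.b (.n 0) (.n 0)) (.b (.n 0) (.n 0))) (.b (.b (.n 0) (.n 0)) (.b (.n 0) (.n
  0))))))

/-- subtree -/
def T0011 : CT :=
  .b (.b (.b (.b (.b (.b (.i 3 0x10dc6cb6ca) (.i 3 0x21b2cb8dc)) (.b (.i 3 0xb6e2) (.i 3 0x42511454))) (.b (.b
  (.i 4 0x2d96544a22cb) (.i 4 0x16ca2db2cc4a2)) (.b (.i 4 0x21b28a5122cc) (.i 4 0x2d945b659894)))) (.b (.b (.b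
  (.i 3 0x43663654) (.i 3 0x10e32e3891)) (.b (.i 4 0x2d94528946cc) (.i 4 0x21b2ca894459))) (.b (.b (.n 3) (.n
  3)) (.b (.n 3) (.n 3))))) (.b (.b (.b (.b (.i 3 0x436cc519) (.i 3 0x14a288c)) (.b (.i 3 0x86e328c) (.i 3
  0x14a22cc))) (.b (.b (.i 4 0x86ca294514) (.i 4 0x5b6596e38e3)) (.b (.i 4 0x2d96dc45b2e2) (.i 4
  0x21b2d96cb659)))) (.b (.b (.b (.n 3) (.n 3)) (.b (.n 3) (.n 3))) (.b (.b (.i 3 0x436cc711) (.i 3 0x16e38cc))
  (.b (.i 4 0x21b29148a451) (.i 4 0x21b2dc662451)))))) (.b (.b (.b (.b (.b (.i 4 0xb65b894463) (.i 4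
  0x865b894463)) (.b (.i 4 0x10e371b8cc) (.i 4 0x436ca51b8cc))) (.b (.b (.i 4 0x16638e3891) (.i 4
  0x10d965b651)) (.b (.i 4 0x21b8e3891) (.i 4 0x865b891662)))) (.b (.b (.b (.n 0) (.n 0)) (.b (.n 0) (.n 0)))
  (.b (.b (.n 0) (.n 0)) (.b (.n 0) (.n 0))))) (.b (.b (.b (.b (.i 4 0x5b2cb8e38cc) (.i 4 0x438cb71b88b)) (.b
  (.i 4 0x86596e38cc) (.i 4 0xb2cc6e38cc))) (.b (.b (.i 4 0xb8e3891) (.i 4 0x2cb8e3891)) (.b (.i 4 0x2cb6632cb)
  (.i 4 0x438ca511)))) (.b (.b (.b (.n 0) (.n 0)) (.b (.n 0) (.n 0))) (.b (.b (.n 0) (.n 0)) (.b (.n 0) (.n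
  0))))))

/-- subtree -/
def T0100 : CT :=
  .b (.b (.b (.b (.b (.b (.n 0) (.n 0)) (.b (.n 0) (.n 0))) (.b (.b (.i 4 0x5b28a51228c) (.i 3 0xb6628d9)) (.b
  (.i 3 0xa311) (.i 4 0x2cb7128a3654)))) (.b (.b (.b (.n 0) (.n 0)) (.b (.n 0) (.n 0))) (.b (.b (.i 3 0xb6ca)
  (.i 4 0x21b2ca89145c)) (.b (.i 3 0x16638cc) (.i 4 0x166328a51228c))))) (.b (.b (.b (.b (.n 3) (.n 3)) (.b (.n
  3) (.n 3))) (.b (.b (.n 0) (.n 0)) (.b (.n 0) (.n 0)))) (.b (.b (.b (.n 3) (.n 3)) (.b (.n 3) (.n 3))) (.b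
  (.b (.n 0) (.n 0)) (.b (.n 0) (.n 0)))))) (.b (.b (.b (.b (.b (.n 3) (.n 3)) (.b (.n 3) (.n 3))) (.b (.b (.n
  0) (.n 0)) (.b (.n 0) (.n 0)))) (.b (.b (.b (.n 0) (.n 0)) (.b (.n 0) (.n 0))) (.b (.b (.n 3) (.n 3)) (.b (.n
  3) (.n 3))))) (.b (.b (.b (.b (.n 0) (.n 0)) (.b (.n 0) (.n 0))) (.b (.b (.i 4 0x2d96cb652314) (.i 3
  0x21c6e2451)) (.b (.i 3 0x5b2d9) (.i 4 0x5965228b659)))) (.b (.b (.b (.i 3 0x544a3659) (.i 4 0x2d9511514454))
  (.b (.i 3 0x10d96e36cc) (.i 4 0x10d96cb6638d9))) (.b (.b (.n 0) (.n 0)) (.b (.n 0) (.n 0))))))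

/-- subtree -/
def T0101 : CT :=
  .b (.b (.b (.b (.b (.b (.n 0) (.n 0)) (.b (.n 0) (.n 0))) (.b (.b (.n 0) (.n 0)) (.b (.n 0) (.n 0)))) (.b (.b
  (.b (.n 0) (.n 0)) (.b (.n 0) (.n 0))) (.b (.b (.n 0) (.n 0)) (.b (.n 0) (.n 0))))) (.b (.b (.b (.b (.n 0)
  (.n 0)) (.b (.n 0) (.n 0))) (.b (.b (.n 0) (.n 0)) (.b (.n 0) (.n 0)))) (.b (.b (.b (.n 0) (.n 0)) (.b (.n 0)
  (.n 0))) (.b (.b (.n 0) (.n 0)) (.b (.n 0) (.n 0)))))) (.b (.b (.b (.b (.b (.n 0) (.n 0)) (.b (.n 0) (.n 0)))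
  (.b (.b (.n 0) (.n 0)) (.b (.n 0) (.n 0)))) (.b (.b (.b (.n 0) (.n 0)) (.b (.n 0) (.n 0))) (.b (.b (.n 0) (.n
  0)) (.b (.n 0) (.n 0))))) (.b (.b (.b (.b (.n 0) (.n 0)) (.b (.n 0) (.n 0))) (.b (.b (.n 0) (.n 0)) (.b (.n
  0) (.n 0)))) (.b (.b (.b (.n 0) (.n 0)) (.b (.n 0) (.n 0))) (.b (.b (.n 0) (.n 0)) (.b (.n 0) (.n 0))))))

/-- subtree -/
def T0110 : CT :=
  .b (.b (.b (.b (.b (.b (.n 0) (.n 0)) (.b (.n 0) (.n 0))) (.b (.b (.n 0) (.n 0)) (.b (.n 0) (.n 0)))) (.b (.b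
  (.b (.n 0) (.n 0)) (.b (.n 0) (.n 0))) (.b (.b (.n 0) (.n 0)) (.b (.n 0) (.n 0))))) (.b (.b (.b (.b (.n 0)
  (.n 0)) (.b (.n 0) (.n 0))) (.b (.b (.n 0) (.n 0)) (.b (.n 0) (.n 0)))) (.b (.b (.b (.n 0) (.n 0)) (.b (.n 0)
  (.n 0))) (.b (.b (.n 0) (.n 0)) (.b (.n 0) (.n 0)))))) (.b (.b (.b (.b (.b (.n 0) (.n 0)) (.b (.n 0) (.n 0)))
  (.b (.b (.n 0) (.n 0)) (.b (.n 0) (.n 0)))) (.b (.b (.b (.n 0) (.n 0)) (.b (.n 0) (.n 0))) (.b (.b (.n 0) (.n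
  0)) (.b (.n 0) (.n 0))))) (.b (.b (.b (.b (.n 0) (.n 0)) (.b (.n 0) (.n 0))) (.b (.b (.n 0) (.n 0)) (.b (.n
  0) (.n 0)))) (.b (.b (.b (.n 0) (.n 0)) (.b (.n 0) (.n 0))) (.b (.b (.n 0) (.n 0)) (.b (.n 0) (.n 0))))))

/-- subtree -/
def T0111 : CT :=
  .b (.b (.b (.b (.b (.b (.n 0) (.n 0)) (.b (.n 0) (.n 0))) (.b (.b (.i 0 0x1891511) (.i 1 0x6365b711)) (.b (.i 0
  0x4b6cb6ca) (.i 1 0x25b6516d9)))) (.b (.b (.b (.n 0) (.n 0)) (.b (.n 0) (.n 0))) (.b (.b (.i 1 0x6371b71c)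
  (.i 0 0xc659514)) (.b (.i 0 0x4b6cb6e2) (.i 1 0x3144a2894))))) (.b (.b (.b (.b (.i 2 0xc65b2cb6ca) (.i 2
  0x145228b6ca)) (.b (.i 2 0xc6dc5146cb) (.i 2 0x2db8e3891))) (.b (.b (.n 0) (.n 0)) (.b (.n 0) (.n 0)))) (.b
  (.b (.b (.i 2 0xa2944a3659) (.i 2 0x3196e371228b)) (.b (.i 2 0xb2d96528ca) (.i 2 0xc65b2dc451))) (.b (.b (.n
  0) (.n 0)) (.b (.n 0) (.n 0)))))) (.b (.b (.b (.b (.b (.n 0) (.n 0)) (.b (.n 0) (.n 0))) (.b (.b (.i 1
  0x3116cb) (.i 0 0x31948b)) (.b (.i 1 0x622d9) (.i 0 0x63291)))) (.b (.b (.b (.i 1 0x31948a) (.i 0 0x3116ca))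
  (.b (.i 0 0x62512894) (.i 1 0x6371b8dc))) (.b (.b (.n 0) (.n 0)) (.b (.n 0) (.n 0))))) (.b (.b (.b (.b (.i 2
  0xc71c71c48a) (.i 2 0x5c652891)) (.b (.i 2 0x18e38e3891) (.i 2 0x2d94a245c))) (.b (.b (.n 0) (.n 0)) (.b (.n
  0) (.n 0)))) (.b (.b (.b (.n 0) (.n 0)) (.b (.n 0) (.n 0))) (.b (.b (.i 2 0x31b2cb291459) (.i 2
  0x18e32944a36cc)) (.b (.i 2 0x18e329448a) (.i 2 0x2a28a28d9))))))

/-- subtree -/
def T1000 : CT :=
  .b (.b (.b (.b (.b (.b (.i 4 0x21b71228b8dc) (.i 4 0x21b2cb71b8dc)) (.b (.i 4 0x10cb2dc71b28b) (.i 4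
  0x2196ca46245c))) (.b (.b (.i 4 0x21b2cb6e3) (.i 4 0x5b8d9451)) (.b (.i 4 0x5b65b65c) (.i 4 0xb8d9451)))) (.b
  (.b (.b (.n 0) (.n 0)) (.b (.n 0) (.n 0))) (.b (.b (.n 0) (.n 0)) (.b (.n 0) (.n 0))))) (.b (.b (.b (.b (.i 4
  0x5965451b71c) (.i 4 0x165b8db2dc)) (.b (.i 4 0x86ca2db2dc) (.i 4 0x2196ca2a2462))) (.b (.b (.i 4
  0x10e32cb6e3) (.i 4 0x5c6e38e3)) (.b (.i 4 0x2196636e3) (.i 4 0xb2cb6e3)))) (.b (.b (.b (.n 0) (.n 0)) (.b
  (.n 0) (.n 0))) (.b (.b (.n 0) (.n 0)) (.b (.n 0) (.n 0)))))) (.b (.b (.b (.b (.b (.i 4 0x5b8d96544a3) (.i 4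
  0xb71b2946e2)) (.b (.i 4 0x21b3146d96d9) (.i 4 0x522a22d98d9))) (.b (.b (.i 4 0x87196d9) (.i 4 0x596cb2cb))
  (.b (.i 4 0x5b6516dc) (.i 4 0x432cb294)))) (.b (.b (.b (.n 0) (.n 0)) (.b (.n 0) (.n 0))) (.b (.b (.n 0) (.n
  0)) (.b (.n 0) (.n 0))))) (.b (.b (.b (.b (.i 4 0x5c6cb2e3662) (.i 4 0x4371b291891)) (.b (.i 4 0x438dc6d94a3)
  (.i 4 0x21b8e38ca463))) (.b (.b (.i 4 0x432dc514) (.i 4 0x5b2dc514)) (.b (.i 4 0xa4516dc) (.i 4
  0x21971c514)))) (.b (.b (.b (.n 0) (.n 0)) (.b (.n 0) (.n 0))) (.b (.b (.n 0) (.n 0)) (.b (.n 0) (.n 0))))))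

/-- subtree -/
def T1001 : CT :=
  .b (.b (.b (.b (.b (.b (.n 0) (.n 0)) (.b (.n 0) (.n 0))) (.b (.b (.n 0) (.n 0)) (.b (.n 0) (.n 0)))) (.b (.b
  (.b (.n 0) (.n 0)) (.b (.n 0) (.n 0))) (.b (.b (.n 0) (.n 0)) (.b (.n 0) (.n 0))))) (.b (.b (.b (.b (.n 0)
  (.n 0)) (.b (.n 0) (.n 0))) (.b (.b (.n 0) (.n 0)) (.b (.n 0) (.n 0)))) (.b (.b (.b (.n 0) (.n 0)) (.b (.n 0)
  (.n 0))) (.b (.b (.n 0) (.n 0)) (.b (.n 0) (.n 0)))))) (.b (.b (.b (.b (.b (.n 0) (.n 0)) (.b (.n 0) (.n 0)))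
  (.b (.b (.n 0) (.n 0)) (.b (.n 0) (.n 0)))) (.b (.b (.b (.n 0) (.n 0)) (.b (.n 0) (.n 0))) (.b (.b (.n 0) (.n
  0)) (.b (.n 0) (.n 0))))) (.b (.b (.b (.b (.n 0) (.n 0)) (.b (.n 0) (.n 0))) (.b (.b (.n 0) (.n 0)) (.b (.n
  0) (.n 0)))) (.b (.b (.b (.n 0) (.n 0)) (.b (.n 0) (.n 0))) (.b (.b (.n 0) (.n 0)) (.b (.n 0) (.n 0))))))

/-- subtree -/
def T1010 : CT :=
  .b (.b (.b (.b (.b (.b (.n 0) (.n 0)) (.b (.n 0) (.n 0))) (.b (.b (.n 0) (.n 0)) (.b (.n 0) (.n 0)))) (.b (.b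
  (.b (.n 3) (.n 3)) (.b (.i 2 0xc6cb294451) (.i 2 0x165948a88a))) (.b (.b (.n 3) (.n 3)) (.b (.i 2 0x62291451)
  (.i 2 0xb6cb31c6e3))))) (.b (.b (.b (.b (.n 0) (.n 0)) (.b (.n 0) (.n 0))) (.b (.b (.n 0) (.n 0)) (.b (.n 0)
  (.n 0)))) (.b (.b (.b (.n 3) (.n 3)) (.b (.i 2 0xb65288b8dc) (.i 2 0x188c48b71c))) (.b (.b (.n 3) (.n 3)) (.b
  (.i 2 0xb2cb6e3) (.i 2 0x596cb2946d9)))))) (.b (.b (.b (.b (.b (.i 2 0xc6d9462894) (.i 2 0x596cb2cb)) (.b (.n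
  3) (.n 3))) (.b (.b (.n 3) (.n 3)) (.b (.i 2 0x18d9659894) (.i 2 0x18a24516dc)))) (.b (.b (.b (.n 0) (.n 0))
  (.b (.n 0) (.n 0))) (.b (.b (.n 0) (.n 0)) (.b (.n 0) (.n 0))))) (.b (.b (.b (.b (.n 3) (.n 3)) (.b (.i 2
  0x3128db2dc514) (.i 2 0x14516dc))) (.b (.b (.i 2 0xc5144516dc) (.i 2 0x31b2dc514)) (.b (.n 3) (.n 3)))) (.b
  (.b (.b (.n 0) (.n 0)) (.b (.n 0) (.n 0))) (.b (.b (.n 0) (.n 0)) (.b (.n 0) (.n 0))))))

/-- subtree -/
def T1011 : CT :=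
  .b (.b (.b (.b (.b (.b (.n 0) (.n 0)) (.b (.n 0) (.n 0))) (.b (.b (.n 0) (.n 0)) (.b (.n 0) (.n 0)))) (.b (.b
  (.b (.n 0) (.n 0)) (.b (.n 0) (.n 0))) (.b (.b (.n 0) (.n 0)) (.b (.n 0) (.n 0))))) (.b (.b (.b (.b (.n 0)
  (.n 0)) (.b (.n 0) (.n 0))) (.b (.b (.n 0) (.n 0)) (.b (.n 0) (.n 0)))) (.b (.b (.b (.n 0) (.n 0)) (.b (.n 0)
  (.n 0))) (.b (.b (.n 0) (.n 0)) (.b (.n 0) (.n 0)))))) (.b (.b (.b (.b (.b (.n 0) (.n 0)) (.b (.n 0) (.n 0)))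
  (.b (.b (.n 0) (.n 0)) (.b (.n 0) (.n 0)))) (.b (.b (.b (.n 0) (.n 0)) (.b (.n 0) (.n 0))) (.b (.b (.n 0) (.n
  0)) (.b (.n 0) (.n 0))))) (.b (.b (.b (.b (.n 0) (.n 0)) (.b (.n 0) (.n 0))) (.b (.b (.n 0) (.n 0)) (.b (.n
  0) (.n 0)))) (.b (.b (.b (.n 0) (.n 0)) (.b (.n 0) (.n 0))) (.b (.b (.n 0) (.n 0)) (.b (.n 0) (.n 0))))))

/-- subtree -/
def T1100 : CT :=
  .b (.b (.b (.b (.b (.b (.n 0) (.n 0)) (.b (.n 0) (.n 0))) (.b (.b (.n 0) (.n 0)) (.b (.n 0) (.n 0)))) (.b (.b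
  (.b (.n 0) (.n 0)) (.b (.n 0) (.n 0))) (.b (.b (.n 0) (.n 0)) (.b (.n 0) (.n 0))))) (.b (.b (.b (.b (.n 0)
  (.n 0)) (.b (.n 0) (.n 0))) (.b (.b (.n 0) (.n 0)) (.b (.n 0) (.n 0)))) (.b (.b (.b (.n 0) (.n 0)) (.b (.n 0)
  (.n 0))) (.b (.b (.n 0) (.n 0)) (.b (.n 0) (.n 0)))))) (.b (.b (.b (.b (.b (.n 0) (.n 0)) (.b (.n 0) (.n 0)))
  (.b (.b (.n 0) (.n 0)) (.b (.n 0) (.n 0)))) (.b (.b (.b (.n 0) (.n 0)) (.b (.n 0) (.n 0))) (.b (.b (.n 0) (.n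
  0)) (.b (.n 0) (.n 0))))) (.b (.b (.b (.b (.n 0) (.n 0)) (.b (.n 0) (.n 0))) (.b (.b (.n 0) (.n 0)) (.b (.n
  0) (.n 0)))) (.b (.b (.b (.n 0) (.n 0)) (.b (.n 0) (.n 0))) (.b (.b (.n 0) (.n 0)) (.b (.n 0) (.n 0))))))

/-- subtree -/
def T1101 : CT :=
  .b (.b (.b (.b (.b (.b (.n 3) (.n 3)) (.b (.n 3) (.n 3))) (.b (.b (.n 0) (.n 0)) (.b (.n 0) (.n 0)))) (.b (.b
  (.b (.n 0) (.n 0)) (.b (.n 0) (.n 0))) (.b (.b (.n 0) (.n 0)) (.b (.n 0) (.n 0))))) (.b (.b (.b (.b (.n 0)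
  (.n 0)) (.b (.n 0) (.n 0))) (.b (.b (.n 3) (.n 3)) (.b (.n 3) (.n 3)))) (.b (.b (.b (.n 0) (.n 0)) (.b (.n 0)
  (.n 0))) (.b (.b (.n 0) (.n 0)) (.b (.n 0) (.n 0)))))) (.b (.b (.b (.b (.b (.n 0) (.n 0)) (.b (.n 0) (.n 0)))
  (.b (.b (.n 0) (.n 0)) (.b (.n 0) (.n 0)))) (.b (.b (.b (.n 0) (.n 0)) (.b (.n 0) (.n 0))) (.b (.b (.n 3) (.n
  3)) (.b (.n 3) (.n 3))))) (.b (.b (.b (.b (.n 0) (.n 0)) (.b (.n 0) (.n 0))) (.b (.b (.n 0) (.n 0)) (.b (.n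
  0) (.n 0)))) (.b (.b (.b (.n 3) (.n 3)) (.b (.n 3) (.n 3))) (.b (.b (.n 0) (.n 0)) (.b (.n 0) (.n 0))))))

/-- subtree -/
def T1110 : CT :=
  .b (.b (.b (.b (.b (.b (.n 0) (.n 0)) (.b (.n 0) (.n 0))) (.b (.b (.n 0) (.n 0)) (.b (.n 0) (.n 0)))) (.b (.b
  (.b (.n 0) (.n 0)) (.b (.n 0) (.n 0))) (.b (.b (.n 0) (.n 0)) (.b (.n 0) (.n 0))))) (.b (.b (.b (.b (.n 0)
  (.n 0)) (.b (.n 0) (.n 0))) (.b (.b (.n 0) (.n 0)) (.b (.n 0) (.n 0)))) (.b (.b (.b (.n 0) (.n 0)) (.b (.n 0)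
  (.n 0))) (.b (.b (.n 0) (.n 0)) (.b (.n 0) (.n 0)))))) (.b (.b (.b (.b (.b (.n 0) (.n 0)) (.b (.n 0) (.n 0)))
  (.b (.b (.n 0) (.n 0)) (.b (.n 0) (.n 0)))) (.b (.b (.b (.n 0) (.n 0)) (.b (.n 0) (.n 0))) (.b (.b (.n 0) (.n
  0)) (.b (.n 0) (.n 0))))) (.b (.b (.b (.b (.n 0) (.n 0)) (.b (.n 0) (.n 0))) (.b (.b (.n 0) (.n 0)) (.b (.n
  0) (.n 0)))) (.b (.b (.b (.n 0) (.n 0)) (.b (.n 0) (.n 0))) (.b (.b (.n 0) (.n 0)) (.b (.n 0) (.n 0))))))

/-- subtree -/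
def T1111 : CT :=
  .b (.b (.b (.b (.b (.b (.n 0) (.n 0)) (.b (.n 0) (.n 0))) (.b (.b (.n 0) (.n 0)) (.b (.n 0) (.n 0)))) (.b (.b
  (.b (.n 0) (.n 0)) (.b (.n 0) (.n 0))) (.b (.b (.n 0) (.n 0)) (.b (.n 0) (.n 0))))) (.b (.b (.b (.b (.n 0)
  (.n 0)) (.b (.n 0) (.n 0))) (.b (.b (.n 0) (.n 0)) (.b (.n 0) (.n 0)))) (.b (.b (.b (.n 0) (.n 0)) (.b (.n 0)
  (.n 0))) (.b (.b (.n 0) (.n 0)) (.b (.n 0) (.n 0)))))) (.b (.b (.b (.b (.b (.n 0) (.n 0)) (.b (.n 0) (.n 0)))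
  (.b (.b (.n 0) (.n 0)) (.b (.n 0) (.n 0)))) (.b (.b (.b (.n 0) (.n 0)) (.b (.n 0) (.n 0))) (.b (.b (.n 0) (.n
  0)) (.b (.n 0) (.n 0))))) (.b (.b (.b (.b (.n 0) (.n 0)) (.b (.n 0) (.n 0))) (.b (.b (.n 0) (.n 0)) (.b (.n
  0) (.n 0)))) (.b (.b (.b (.n 0) (.n 0)) (.b (.n 0) (.n 0))) (.b (.b (.n 0) (.n 0)) (.b (.n 0) (.n 0))))))

/-- the certificate tree -/
def TT : CT := .b (.b (.b (.b T0000 T0001) (.b T0010 T0011)) (.b (.b T0100 T0101) (.b T0110 T0111))) (.b (.b (.b T1000 T1001) (.b T1010 T1011)) (.b (.b T1100 T1101) (.b T1110 T1111)))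

/-- the `i`-th word -/
def sw (i : ℕ) : List ℕ := SWL.getD i []

/-- The polycyclic generators. -/
def s (i : ℕ) : H0 := hw (sw i)

/-- concatenation of the words with the indices in the list -/
def cat (L : List ℕ) : List ℕ := L.flatMap sw

theorem hw_cat_cons (i : ℕ) (L : List ℕ) : hw (cat (i :: L)) = s i * hw (cat L) := by
  have : cat (i :: L) = sw i ++ cat L := rfl
  rw [this, hw_append]
  rfl

theorem hw_cat_mem {B : Subgroup H0} {L : List ℕ} (h : ∀ i ∈ L, s i ∈ B) : hw (cat L) ∈ B := by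
  induction L with
  | nil => exact B.one_mem
  | cons i L ih =>
    rw [hw_cat_cons]
    exact B.mul_mem (h i List.mem_cons_self) (ih fun j hj => h j (List.mem_cons_of_mem _ hj))

/-- square relations -/
def sq (k : ℕ) : List ℕ := SQL.getD k []
/-- commutator relations -/
def cm (k i : ℕ) : List ℕ := (CML.getD k []).getD i []

/-- allowed indices in the layer of `i` -/
def okL (i j : ℕ) : Bool :=
  cond (Nat.blt i 2) false (cond (Nat.beq i 2) (Nat.beq j 1) (cond (Nat.beq i 3) (cond (Nat.beq j 1) true (Nat.beq j 2))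
    (cond (Nat.blt i 7) (Nat.blt j 4) (Nat.blt j 7))))

theorem sq_ok : ∀ k < 11, (∀ i ∈ sq k, i < k) ∧ eqw (sw k ++ sw k) (cat (sq k)) = true := by
  decide +kernel

theorem cm_ok : ∀ k < 11, ∀ i < k, (∀ j ∈ cm k i, okL i j = true) ∧
    eqw (sw k ++ sw i) (cat (cm k i) ++ (sw i ++ sw k)) = true := by
  decide +kernel

theorem okL_lt : ∀ k < 11, ∀ i < k, ∀ j ∈ cm k i, j < i ∨ j < k := by
  decide +kernel

theorem sq_rel {k : ℕ} (hk : k < 11) : s k * s k = hw (cat (sq k)) := by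
  rw [s, ← hw_append]
  exact hw_eq (sq_ok k hk).2

theorem cm_rel {k i : ℕ} (hk : k < 11) (hi : i < k) : s k * s i = hw (cat (cm k i)) * (s i * s k) := by
  rw [s, s, ← hw_append, ← hw_append, ← hw_append]
  exact hw_eq (cm_ok k hk i hi).2

theorem cm_rel' {k i : ℕ} (hk : k < 11) (hi : i < k) : ⁅s k, s i⁆ = hw (cat (cm k i)) := by
  rw [commutatorElement_def, cm_rel hk hi]
  group

/-- The subgroups of the polycyclic series. -/
abbrev P (k : ℕ) : Subgroup H0 := Pc s k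

/-- The Sylow 2-subgroup. -/
def S : Subgroup H0 := P 11

theorem step {k : ℕ} (hk : k < 11) : Step s k := by
  constructor
  · rw [sq_rel hk]
    exact hw_cat_mem fun i hi => mem_Pc ((sq_ok k hk).1 i hi)
  · intro i hi
    have h1 : s k * s i * (s k)⁻¹ = hw (cat (cm k i)) * s i := by
      rw [cm_rel hk hi]
      group
    rw [h1]
    refine (P k).mul_mem (hw_cat_mem fun j hj => mem_Pc ?_) (mem_Pc hi)
    rcases okL_lt k hk i hi j hj with h | h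
    · omega
    · exact h

theorem s_zero : s 0 = τ := hw_τ

/-- the involution `a = y³` -/
def a : H0 := gy ^ 3
/-- the outer involution `d` -/
def d : H0 := hw [1, 3, 1, 2, 1, 4, 3, 4, 2, 4]

theorem hw_a : hw [2, 2, 2] = a := by
  rw [hw_cons 2 [2, 2], hw_cons 2 [2], hw_y, a, pow_succ, pow_two, mul_assoc]

theorem s_one : s 1 = a * τ := by
  have h : s 1 = hw ([2, 2, 2] ++ [0, 0]) := rfl
  rw [h, hw_append, hw_τ, hw_a]

/-! ### the lower central series -/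

/-- `⟨a τ⟩` -/
def G5 : Subgroup H0 := Subgroup.closure (s '' {1})
/-- third subgroup -/
def G4 : Subgroup H0 := Subgroup.closure (s '' {1, 2})

/-- the layer of an index -/
def Lay (i : ℕ) : Subgroup H0 :=
  if i < 2 then ⊥ else if i = 2 then G5 else if i = 3 then G4 else if i < 7 then P 4 else P 7

theorem mem_Lay {i j : ℕ} (h : okL i j = true) : s j ∈ Lay i := by
  unfold okL at h
  unfold Lay
  by_cases h2 : i < 2
  · rw [show Nat.blt i 2 = true from Nat.blt_eq.symm ▸ h2] at h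
    exact absurd h (by simp)
  have h2' : Nat.blt i 2 = false := by
    cases hb : Nat.blt i 2
    · rfl
    · exact absurd (Nat.blt_eq ▸ hb : i < 2) h2
  rw [h2', cond_false] at h
  rw [if_neg h2]
  by_cases h3 : i = 2
  · subst h3
    rw [if_pos rfl]
    have : j = 1 := Nat.eq_of_beq_eq_true h
    subst this
    exact Subgroup.subset_closure ⟨1, rfl, rfl⟩
  have h3' : Nat.beq i 2 = false := by
    cases hb : Nat.beq i 2
    · rfl
    · exact absurd (Nat.eq_of_beq_eq_true hb) h3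
  rw [h3', cond_false] at h
  rw [if_neg h3]
  by_cases h4 : i = 3
  · subst h4
    rw [if_pos rfl]
    have h' : cond (Nat.beq j 1) true (Nat.beq j 2) = true := h
    cases hb : Nat.beq j 1
    · rw [hb, cond_false] at h'
      have : j = 2 := Nat.eq_of_beq_eq_true h'
      subst this
      exact Subgroup.subset_closure ⟨2, Or.inr rfl, rfl⟩
    · have : j = 1 := Nat.eq_of_beq_eq_true hb
      subst this
      exact Subgroup.subset_closure ⟨1, Or.inl rfl, rfl⟩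
  have h4' : Nat.beq i 3 = false := by
    cases hb : Nat.beq i 3
    · rfl
    · exact absurd (Nat.eq_of_beq_eq_true hb) h4
  rw [h4', cond_false] at h
  rw [if_neg h4]
  by_cases h5 : i < 7
  · rw [show Nat.blt i 7 = true from Nat.blt_eq.symm ▸ h5, cond_true] at h
    rw [if_pos h5]
    exact mem_Pc (Nat.blt_eq ▸ h)
  · have h5' : Nat.blt i 7 = false := by
      cases hb : Nat.blt i 7
      · rfl
      · exact absurd (Nat.blt_eq ▸ hb : i < 7) h5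
    rw [h5', cond_false] at h
    rw [if_neg h5]
    exact mem_Pc (Nat.blt_eq ▸ h)

theorem G5_le_G4 : G5 ≤ G4 := Subgroup.closure_mono (Set.image_mono (by
  intro x hx
  rw [Set.mem_singleton_iff] at hx
  exact Or.inl hx))

theorem G4_le_P4 : G4 ≤ P 4 := by
  rw [G4, Subgroup.closure_le]
  rintro _ ⟨i, hi, rfl⟩
  rcases hi with rfl | hi
  · exact mem_Pc (by norm_num)
  · rw [Set.mem_singleton_iff] at hi
    subst hi
    exact mem_Pc (by norm_num)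

theorem P4_le_P7 : P 4 ≤ P 7 := Pc_mono (by norm_num)

theorem Lay_mono {i j : ℕ} (h : i ≤ j) : Lay i ≤ Lay j := by
  unfold Lay
  by_cases h1 : i < 2
  · rw [if_pos h1]; exact bot_le
  rw [if_neg h1, if_neg (by omega : ¬ j < 2)]
  by_cases h2 : i = 2
  · rw [if_pos h2]
    by_cases h3 : j = 2
    · rw [if_pos h3]
    rw [if_neg h3]
    by_cases h4 : j = 3
    · rw [if_pos h4]; exact G5_le_G4
    rw [if_neg h4]
    by_cases h5 : j < 7
    · rw [if_pos h5]; exact G5_le_G4.trans G4_le_P4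
    · rw [if_neg h5]; exact (G5_le_G4.trans G4_le_P4).trans P4_le_P7
  rw [if_neg h2, if_neg (by omega : ¬ j = 2)]
  by_cases h3 : i = 3
  · rw [if_pos h3]
    by_cases h4 : j = 3
    · rw [if_pos h4]
    rw [if_neg h4]
    by_cases h5 : j < 7
    · rw [if_pos h5]; exact G4_le_P4
    · rw [if_neg h5]; exact G4_le_P4.trans P4_le_P7
  rw [if_neg h3, if_neg (by omega : ¬ j = 3)]
  by_cases h4 : i < 7
  · rw [if_pos h4]
    by_cases h5 : j < 7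
    · rw [if_pos h5]
    · rw [if_neg h5]; exact P4_le_P7
  rw [if_neg h4, if_neg (by omega : ¬ j < 7)]

/-- commutators of the generators -/
theorem comm_s {i k : ℕ} (hi : i < 11) (hk : k < 11) : ⁅s i, s k⁆ ∈ Lay i := by
  rcases Nat.lt_trichotomy i k with h | h | h
  · rw [← inv_mem_iff, commutatorElement_inv, cm_rel' hk h]
    exact hw_cat_mem fun j hj => mem_Lay ((cm_ok k hk i h).1 j hj)
  · subst h
    rw [commutatorElement_self]
    exact Subgroup.one_mem _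
  · rw [cm_rel' hi h]
    exact Lay_mono h.le (hw_cat_mem fun j hj => mem_Lay ((cm_ok i hi k h).1 j hj))

/-- a subgroup generated by some of the `s i` whose layers are contained in it is normalised by `S`. -/
theorem normalised {I : Set ℕ} (hI : ∀ i ∈ I, i < 11 ∧ Lay i ≤ Subgroup.closure (s '' I)) :
    ∀ g ∈ S, ∀ n ∈ Subgroup.closure (s '' I), g * n * g⁻¹ ∈ Subgroup.closure (s '' I) := by
  have key : ∀ k, k < 11 → ∀ n ∈ Subgroup.closure (s '' I), s k * n * (s k)⁻¹ ∈ Subgroup.closure (s '' I) := by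
    intro k hk
    apply conj_closure
    rintro _ ⟨i, hi, rfl⟩
    have h1 : s k * s i * (s k)⁻¹ = ⁅s i, s k⁆⁻¹ * s i := by
      rw [commutatorElement_inv, commutatorElement_def]
      group
    rw [h1]
    exact Subgroup.mul_mem _ (Subgroup.inv_mem _ ((hI i hi).2 (comm_s (hI i hi).1 hk)))
      (Subgroup.subset_closure ⟨i, hi, rfl⟩)
  intro g hg
  have hg' : g ∈ Subgroup.closure (s '' {i | i < 11}) := hg
  induction hg' using Subgroup.closure_induction with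
  | mem x hx =>
    obtain ⟨k, hk, rfl⟩ := hx
    exact key k hk
  | one => intro n hn; rwa [one_mul, inv_one, mul_one]
  | mul x y hx' hy' hx hy =>
    intro n hn
    have : x * y * n * (x * y)⁻¹ = x * (y * n * y⁻¹) * x⁻¹ := by group
    rw [this]
    exact hx hx' _ (hy hy' n hn)
  | inv x hx' hx =>
    -- finite group: the inverse is a power
    intro n hn
    have hfin : Finite H0 := finite_H0
    have hpow : ∀ m : ℕ, ∀ n ∈ Subgroup.closure (s '' I), x ^ m * n * (x ^ m)⁻¹ ∈ Subgroup.closure (s '' I) := by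
      intro m
      induction m with
      | zero => intro n hn; rwa [pow_zero, one_mul, inv_one, mul_one]
      | succ m ih =>
        intro n hn
        have : x ^ (m + 1) * n * (x ^ (m + 1))⁻¹ = x ^ m * (x * n * x⁻¹) * (x ^ m)⁻¹ := by
          rw [pow_succ]; group
        rw [this]
        exact ih _ (hx hx' n hn)
    have h2 : x⁻¹ = x ^ (orderOf x - 1) := by
      rw [inv_eq_iff_mul_eq_one, ← pow_succ']
      have : orderOf x - 1 + 1 = orderOf x := Nat.succ_pred_eq_of_pos (orderOf_pos x)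
      rw [this, pow_orderOf_eq_one]
    rw [h2]
    exact hpow _ n hn

theorem Lay_ge7 {i : ℕ} (h : 7 ≤ i) : Lay i = P 7 := by
  unfold Lay
  rw [if_neg (by omega), if_neg (by omega), if_neg (by omega), if_neg (by omega)]

theorem Lay_lt7 {i : ℕ} (h : i < 7) : Lay i ≤ P 4 := by
  have h1 : Lay i ≤ Lay 6 := Lay_mono (by omega)
  have h2 : Lay 6 = P 4 := by
    unfold Lay
    norm_num
  rwa [h2] at h1

theorem Lay_three : Lay 3 = G4 := by unfold Lay; norm_num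
theorem Lay_two : Lay 2 = G5 := by unfold Lay; norm_num

theorem Lay_lt4 {i : ℕ} (h : i < 4) : Lay i ≤ G4 := by
  rw [← Lay_three]
  exact Lay_mono (by omega)

theorem norm_P7 : ∀ g ∈ S, ∀ n ∈ P 7, g * n * g⁻¹ ∈ P 7 := by
  apply normalised
  intro i hi
  have hi' : i < 7 := hi
  exact ⟨by omega, (Lay_lt7 hi').trans P4_le_P7⟩

theorem norm_P4 : ∀ g ∈ S, ∀ n ∈ P 4, g * n * g⁻¹ ∈ P 4 := by
  apply normalised
  intro i hi
  have hi' : i < 4 := hi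
  exact ⟨by omega, Lay_lt7 (by omega)⟩

theorem norm_G4 : ∀ g ∈ S, ∀ n ∈ G4, g * n * g⁻¹ ∈ G4 := by
  apply normalised
  intro i hi
  have hi' : i < 4 := by
    rcases hi with rfl | hi
    · norm_num
    · rw [Set.mem_singleton_iff] at hi
      omega
  exact ⟨by omega, Lay_lt4 hi'⟩

theorem norm_G5 : ∀ g ∈ S, ∀ n ∈ G5, g * n * g⁻¹ ∈ G5 := by
  apply normalised
  intro i hi
  rw [Set.mem_singleton_iff] at hi
  subst hi
  refine ⟨by norm_num, ?_⟩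
  have h1 : Lay 1 ≤ Lay 2 := Lay_mono (by norm_num)
  rwa [Lay_two] at h1

theorem comm_S_S : ∀ g ∈ S, ∀ h ∈ S, ⁅g, h⁆ ∈ P 7 := by
  apply commutator_mem_of_closure norm_P7 norm_P7
  rintro _ ⟨i, hi, rfl⟩ _ ⟨k, hk, rfl⟩
  have h1 := comm_s hi hk
  have h2 : Lay i ≤ Lay (max i 7) := Lay_mono (le_max_left i 7)
  rw [Lay_ge7 (le_max_right i 7)] at h2
  exact h2 h1

theorem comm_P7_S : ∀ g ∈ P 7, ∀ h ∈ S, ⁅g, h⁆ ∈ P 4 := by
  apply commutator_mem_of_closure (fun a ha => norm_P4 a (Pc_mono (by norm_num) ha)) norm_P4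
  rintro _ ⟨i, hi, rfl⟩ _ ⟨k, hk, rfl⟩
  have hi' : i < 7 := hi
  exact Lay_lt7 hi' (comm_s (by omega) hk)

theorem comm_P4_S : ∀ g ∈ P 4, ∀ h ∈ S, ⁅g, h⁆ ∈ G4 := by
  apply commutator_mem_of_closure (fun a ha => norm_G4 a (Pc_mono (by norm_num) ha)) norm_G4
  rintro _ ⟨i, hi, rfl⟩ _ ⟨k, hk, rfl⟩
  have hi' : i < 4 := hi
  exact Lay_lt4 hi' (comm_s (by omega) hk)

theorem G4_le_S : G4 ≤ S := G4_le_P4.trans (Pc_mono (by norm_num))

theorem comm_G4_S : ∀ g ∈ G4, ∀ h ∈ S, ⁅g, h⁆ ∈ G5 := by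
  apply commutator_mem_of_closure (fun a ha => norm_G5 a (G4_le_S ha)) norm_G5
  rintro _ ⟨i, hi, rfl⟩ _ ⟨k, hk, rfl⟩
  have hi' : i < 3 := by
    rcases hi with rfl | hi
    · norm_num
    · rw [Set.mem_singleton_iff] at hi
      omega
  have h1 := comm_s (show i < 11 by omega) hk
  rw [← Lay_two]
  exact Lay_mono (by omega) h1

theorem a_sq : a * a = 1 := by
  rw [← hw_a, ← hw_append, ← hw_nil]
  exact hw_eq (by decide +kernel)

theorem mem_G5 {g : H0} (hg : g ∈ G5) : g = 1 ∨ g = a * τ := by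
  have h : (a * τ) * (a * τ) = 1 := by
    have : (a * τ) * (a * τ) = a * (τ * a) * τ := by group
    rw [this, ← τ_comm, ← mul_assoc, a_sq, one_mul, τ_mul_τ]
  have h0 : G5 = Subgroup.closure (insert (s 1) (∅ : Set H0)) := by
    rw [G5, Set.image_singleton, insert_empty_eq]
  rw [h0] at hg
  rcases closure_step (by rw [s_one, h]; exact Subgroup.one_mem _)
    (fun b hb => absurd hb (Set.notMem_empty b)) g hg with h1 | h1
  · rw [Subgroup.closure_empty, Subgroup.mem_bot] at h1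
    exact Or.inl h1
  · rw [Subgroup.closure_empty, Subgroup.mem_bot, mul_inv_eq_one, s_one] at h1
    exact Or.inr h1

/-- **Fivefold commutators in `S`.** -/
theorem comm5 {g1 g2 g3 g4 g5 : H0} (h1 : g1 ∈ S) (h2 : g2 ∈ S) (h3 : g3 ∈ S) (h4 : g4 ∈ S) (h5 : g5 ∈ S) :
    ⁅⁅⁅⁅g1, g2⁆, g3⁆, g4⁆, g5⁆ = 1 ∨ ⁅⁅⁅⁅g1, g2⁆, g3⁆, g4⁆, g5⁆ = a * τ :=
  mem_G5 (comm_G4_S _ (comm_P4_S _ (comm_P7_S _ (comm_S_S _ h1 _ h2) _ h3) _ h4) _ h5)

theorem comm5_eq : ⁅⁅⁅⁅s 7, s 9⁆, s 10⁆, s 9⁆, s 7⁆ = a * τ := by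
  rw [← s_one]
  simp only [commutatorElement_def, s, ← hw_iw, ← hw_append]
  exact hw_eq (by decide +kernel)

theorem s_mem_S {i : ℕ} (h : i < 11) : s i ∈ S := mem_Pc h

theorem τ_mem_S : τ ∈ S := s_zero ▸ s_mem_S (by norm_num)

theorem aτ_mem_S : a * τ ∈ S := s_one ▸ s_mem_S (by norm_num)

theorem a_mem_S : a ∈ S := by
  have h := S.mul_mem aτ_mem_S τ_mem_S
  rwa [mul_assoc, τ_mul_τ, mul_one] at h

/-- `a` is central in `S`. -/
theorem a_comm {g : H0} (hg : g ∈ S) : g * a = a * g := by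
  have h1 : ∀ k < 11, s k * a = a * s k := by
    intro k hk
    have h2 : s k * (a * τ) = (a * τ) * s k := by
      rw [← s_one]
      have h3 := comm_s (show 1 < 11 by norm_num) hk
      have h4 : Lay 1 = ⊥ := by unfold Lay; norm_num
      rw [h4, Subgroup.mem_bot, commutatorElement_eq_one_iff_mul_comm] at h3
      exact h3.symm
    rw [← mul_assoc, mul_assoc a, ← τ_comm (s k), ← mul_assoc] at h2
    exact mul_right_cancel h2
  have hg' : g ∈ Subgroup.closure (s '' {i | i < 11}) := hg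
  have h5 : Subgroup.closure (s '' {i | i < 11}) ≤ Subgroup.centralizer {a} := by
    rw [Subgroup.closure_le]
    rintro _ ⟨k, hk, rfl⟩
    rw [SetLike.mem_coe, Subgroup.mem_centralizer_singleton_iff]
    exact h1 k hk
  exact Subgroup.mem_centralizer_singleton_iff.1 (h5 hg')

/-! ### the involutions -/

open scoped Pointwise in
/-- conjugate Sylow subgroups, elementwise -/
theorem mem_conj_syl {G : Type*} [Group G] {Q : Sylow 2 G} {c g : G} (h : g ∈ ((c • Q : Sylow 2 G) : Subgroup G)) :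
    c⁻¹ * g * c ∈ (Q : Subgroup G) := by
  rw [Sylow.coe_subgroup_smul, Subgroup.mem_pointwise_smul_iff_inv_smul_mem] at h
  have h4 : (MulAut.conj c)⁻¹ • g = c⁻¹ * g * c := by
    rw [MulAut.smul_def, MulAut.conj_inv_apply]
  rw [h4] at h
  exact h

/-- words of the representatives -/
def repw (r : ℕ) : List ℕ :=
  match r with
  | 0 => [2, 2, 2]
  | 1 => [2, 2, 2, 0, 0]
  | 2 => [0]
  | 3 => [4]
  | _ => [1, 3, 1, 2, 1, 4, 3, 4, 2, 4]

/-- decoding of words -/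
def decW (n : ℕ) : List ℕ :=
  Nat.rec (motive := fun _ => ℕ → List ℕ) (fun _ => [])
    (fun _ ih n => cond (Nat.blt n 8) [] (Nat.land n 7 :: ih (Nat.shiftRight n 3))) 30 n

/-- inequality -/
def neB (x y : ℕ) : Bool := cond (Nat.beq x y) false true

theorem neB_iff {x y : ℕ} : neB x y = true ↔ x ≠ y := by
  unfold neB
  cases h : Nat.beq x y with
  | true => simp [Nat.eq_of_beq_eq_true h]
  | false => simp [Nat.ne_of_beq_eq_false h]

/-- The check of a certificate tree. -/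
noncomputable def chk (t : CT) : ℕ → List ℕ → Bool :=
  CT.rec (fun k w => band (Nat.beq k 1) w.isEmpty)
    (fun p k w => band (Nat.beq k 1) (band (okw w) (band (Nat.blt p 1408)
      (band (neB (tr w (tr w p)) p) (neB (tr w (tr w p)) (tr [0, 0] p))))))
    (fun r c k w => band (Nat.beq k 1) (eqw (w ++ decW c) (decW c ++ repw r)))
    (fun _ _ hl hr k w => Nat.rec (motive := fun _ => Bool) false
      (fun k' _ => band (Nat.blt 0 k') (band (hl k' w) (hr k' (sw k' ++ w)))) k) t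

theorem chk_b {l r : CT} {k : ℕ} {w : List ℕ} (h : chk (.b l r) k w = true) :
    ∃ k', k = k' + 1 ∧ 0 < k' ∧ chk l k' w = true ∧ chk r k' (sw k' ++ w) = true := by
  match k with
  | 0 => exact absurd h (by simp [chk])
  | k' + 1 =>
    have h' : band (Nat.blt 0 k') (band (chk l k' w) (chk r k' (sw k' ++ w))) = true := h
    rw [band_eq_true, band_eq_true] at h'
    exact ⟨k', rfl, Nat.blt_eq ▸ h'.1, h'.2⟩

/-- the conclusion for the elements at a leaf -/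
def Inv (w : List ℕ) (g : H0) : Prop :=
  (w = [] ∧ (g = 1 ∨ g = τ)) ∨ (g ^ 2 ≠ 1 ∧ g ^ 2 ≠ τ) ∨
    ∃ c r, c⁻¹ * g * c = hw (repw r) ∨ c⁻¹ * g * c = hw (repw r) * τ

theorem Inv.mul_τ {w : List ℕ} {g : H0} (h : Inv w g) : Inv w (τ * g) := by
  rcases h with ⟨h1, h2 | h2⟩ | ⟨h1, h2⟩ | ⟨c, r, h2 | h2⟩
  · exact Or.inl ⟨h1, Or.inr (by rw [h2, mul_one])⟩
  · exact Or.inl ⟨h1, Or.inl (by rw [h2, τ_mul_τ])⟩
  · right; left
    have : (τ * g) ^ 2 = g ^ 2 := by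
      rw [pow_two, pow_two, mul_assoc, ← mul_assoc g τ g, τ_comm, mul_assoc, ← mul_assoc τ τ, τ_mul_τ, one_mul]
    rw [this]
    exact ⟨h1, h2⟩
  · right; right
    refine ⟨c, r, Or.inr ?_⟩
    have : c⁻¹ * (τ * g) * c = (c⁻¹ * g * c) * τ := by
      rw [← mul_assoc c⁻¹ τ g, τ_comm c⁻¹, mul_assoc τ, mul_assoc τ, τ_comm (c⁻¹ * g * c)]
    rw [this, h2]
  · right; right
    refine ⟨c, r, Or.inl ?_⟩
    have : c⁻¹ * (τ * g) * c = (c⁻¹ * g * c) * τ := by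
      rw [← mul_assoc c⁻¹ τ g, τ_comm c⁻¹, mul_assoc τ, mul_assoc τ, τ_comm (c⁻¹ * g * c)]
    rw [this, h2, mul_assoc, τ_mul_τ, mul_one]

theorem mem_P1 {g : H0} (hg : g ∈ P 1) : g = 1 ∨ g = τ := by
  rcases (step (k := 0) (by norm_num)).mem hg with h | h
  · have h' : g ∈ Pc s 0 := h
    rw [Pc_zero, Subgroup.mem_bot] at h'
    exact Or.inl h'
  · have h' : g * (s 0)⁻¹ ∈ Pc s 0 := h
    rw [Pc_zero, Subgroup.mem_bot, mul_inv_eq_one, s_zero] at h'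
    exact Or.inr h'

theorem leaf_P1 {w : List ℕ} (h : Inv w (hw w)) : ∀ g ∈ P 1, Inv w (g * hw w) := by
  intro g hg
  rcases mem_P1 hg with rfl | rfl
  · rwa [one_mul]
  · exact h.mul_τ

theorem inv_of_chk (t : CT) : ∀ (k : ℕ) (w : List ℕ), k ≤ 11 → chk t k w = true → ∀ g ∈ P k, Inv w (g * hw w) := by
  induction t with
  | z =>
    intro k w _ h
    have h' : band (Nat.beq k 1) w.isEmpty = true := h
    rw [band_eq_true] at h'
    have hk : k = 1 := Nat.eq_of_beq_eq_true h'.1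
    have hw' : w = [] := List.isEmpty_iff.1 h'.2
    subst hk hw'
    exact leaf_P1 (Or.inl ⟨rfl, Or.inl rfl⟩)
  | n p =>
    intro k w _ h
    have h' : band (Nat.beq k 1) (band (okw w) (band (Nat.blt p 1408)
      (band (neB (tr w (tr w p)) p) (neB (tr w (tr w p)) (tr [0, 0] p))))) = true := h
    rw [band_eq_true, band_eq_true, band_eq_true, band_eq_true, neB_iff, neB_iff] at h'
    obtain ⟨h1, h2, h3, h4, h5⟩ := h'
    have hk : k = 1 := Nat.eq_of_beq_eq_true h1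
    have hp : p < 1408 := Nat.blt_eq ▸ h3
    subst hk
    apply leaf_P1
    right; left
    rw [pow_two, ← hw_append, ← hw_τ, ← hw_nil]
    have hww : okw (w ++ w) = true := okw_append h2 h2
    exact ⟨hw_ne hww rfl hp (by rw [tr_append]; exact h4), hw_ne hww rfl hp (by rw [tr_append]; exact h5)⟩
  | i r c =>
    intro k w _ h
    have h' : band (Nat.beq k 1) (eqw (w ++ decW c) (decW c ++ repw r)) = true := h
    rw [band_eq_true] at h'
    have hk : k = 1 := Nat.eq_of_beq_eq_true h'.1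
    subst hk
    apply leaf_P1
    right; right
    refine ⟨hw (decW c), r, Or.inl ?_⟩
    have h2 := hw_eq h'.2
    rw [hw_append, hw_append] at h2
    rw [mul_assoc, h2, inv_mul_cancel_left]
  | b l r hl hr =>
    intro k w hk h g hg
    obtain ⟨k', rfl, hk', h1, h2⟩ := chk_b h
    rcases (step (show k' < 11 by omega)).mem hg with h3 | h3
    · exact hl k' w (by omega) h1 g h3
    · have h4 := hr k' (sw k' ++ w) (by omega) h2 _ h3
      rw [hw_append] at h4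
      have h5 : g * (s k')⁻¹ * (hw (sw k') * hw w) = g * hw w := by
        change g * (s k')⁻¹ * (s k' * hw w) = g * hw w
        group
      rw [h5] at h4
      rcases h4 with ⟨h6, h7⟩ | h6
      · have h8 := congrArg List.length h6
        rw [List.length_append, List.length_nil] at h8
        have h9 : w = [] := List.length_eq_zero_iff.1 (by omega)
        exact Or.inl ⟨h9, h7⟩
      · exact Or.inr h6

theorem chk_TT : chk TT 11 [] = true := by decide +kernel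

/-- every element of `S` -/
theorem inv_S {g : H0} (hg : g ∈ S) : Inv [] g := by
  have h := inv_of_chk TT 11 [] le_rfl chk_TT g hg
  rwa [hw_nil, mul_one] at h

theorem spine : ∀ m, m ≤ 10 → ∃ t, chk t (11 - m) [] = true := by
  intro m
  induction m with
  | zero => intro _; exact ⟨TT, chk_TT⟩
  | succ m ih =>
    intro hm
    obtain ⟨t, ht⟩ := ih (by omega)
    match t with
    | .z =>
      have h' : band (Nat.beq (11 - m) 1) true = true := ht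
      rw [band_eq_true] at h'
      have := Nat.eq_of_beq_eq_true h'.1
      omega
    | .n p =>
      have h' : band (Nat.beq (11 - m) 1) _ = true := ht
      rw [band_eq_true] at h'
      have := Nat.eq_of_beq_eq_true h'.1
      omega
    | .i r c =>
      have h' : band (Nat.beq (11 - m) 1) _ = true := ht
      rw [band_eq_true] at h'
      have := Nat.eq_of_beq_eq_true h'.1
      omega
    | .b l r =>
      obtain ⟨k', hk, hk', h1, h2⟩ := chk_b ht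
      have : k' = 11 - (m + 1) := by omega
      subst this
      exact ⟨l, h1⟩

theorem rep_ne_one (r : ℕ) : hw (repw r) ≠ 1 ∧ hw (repw r) * τ ≠ 1 := by
  have key : ∀ r < 5, okw (repw r) = true ∧ ∀ e < 2, (tr (repw r ++ cond (Nat.beq e 0) [] [0, 0]) 0 ≠ 0 ∨
      tr (repw r ++ cond (Nat.beq e 0) [] [0, 0]) 17 ≠ 17 ∨
      tr (repw r ++ cond (Nat.beq e 0) [] [0, 0]) 221 ≠ 221 ∨
      tr (repw r ++ cond (Nat.beq e 0) [] [0, 0]) 8 ≠ 8) := by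
    decide +kernel
  have key2 : ∀ r < 5, hw (repw r) ≠ 1 ∧ hw (repw r) * τ ≠ 1 := by
    intro r hr
    obtain ⟨h1, h2⟩ := key r hr
    constructor
    · have h3 := h2 0 (by norm_num)
      have h4 : repw r ++ cond (Nat.beq 0 0) [] [0, 0] = repw r := List.append_nil _
      rw [h4] at h3
      rw [← hw_nil]
      rcases h3 with h3 | h3 | h3 | h3
      · exact hw_ne h1 rfl (by norm_num) h3
      · exact hw_ne h1 rfl (by norm_num) h3
      · exact hw_ne h1 rfl (by norm_num) h3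
      · exact hw_ne h1 rfl (by norm_num) h3
    · have h3 := h2 1 (by norm_num)
      have h4 : repw r ++ cond (Nat.beq 1 0) [] [0, 0] = repw r ++ [0, 0] := rfl
      rw [h4] at h3
      have h5 : okw (repw r ++ [0, 0]) = true := okw_append h1 rfl
      rw [← hw_τ, ← hw_append, ← hw_nil]
      rcases h3 with h3 | h3 | h3 | h3
      · exact hw_ne h5 rfl (by norm_num) h3
      · exact hw_ne h5 rfl (by norm_num) h3
      · exact hw_ne h5 rfl (by norm_num) h3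
      · exact hw_ne h5 rfl (by norm_num) h3
  match r with
  | 0 => exact key2 0 (by norm_num)
  | 1 => exact key2 1 (by norm_num)
  | 2 => exact key2 2 (by norm_num)
  | 3 => exact key2 3 (by norm_num)
  | n + 4 => exact key2 4 (by norm_num)

theorem s_notMem {k : ℕ} (hk : k < 11) : s k ∉ P k := by
  intro h
  match k, hk with
  | 0, _ =>
    have h' : s 0 ∈ Pc s 0 := h
    rw [Pc_zero, Subgroup.mem_bot, s_zero] at h'
    exact τ_ne_one h'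
  | k + 1, hk =>
    obtain ⟨t, ht⟩ := spine (9 - k) (by omega)
    have e : 11 - (9 - k) = k + 2 := by omega
    rw [e] at ht
    have hinv : ∃ r, chk r (k + 1) (sw (k + 1)) = true := by
      match t with
      | .z =>
        have h' : band (Nat.beq (k + 2) 1) true = true := ht
        rw [band_eq_true] at h'
        have := Nat.eq_of_beq_eq_true h'.1
        omega
      | .n p =>
        have h' : band (Nat.beq (k + 2) 1) (band (okw []) (band (Nat.blt p 1408)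
          (band (neB (tr [] (tr [] p)) p) (neB (tr [] (tr [] p)) (tr [0, 0] p))))) = true := ht
        rw [band_eq_true] at h'
        have := Nat.eq_of_beq_eq_true h'.1
        omega
      | .i r c =>
        have h' : band (Nat.beq (k + 2) 1) (eqw ([] ++ decW c) (decW c ++ repw r)) = true := ht
        rw [band_eq_true] at h'
        have := Nat.eq_of_beq_eq_true h'.1
        omega
      | .b l r =>
        obtain ⟨k', hk1, hk', h1, h2⟩ := chk_b ht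
        have : k' = k + 1 := by omega
        subst this
        rw [List.append_nil] at h2
        exact ⟨r, h2⟩
    obtain ⟨r, hr⟩ := hinv
    have h1 := inv_of_chk r (k + 1) (sw (k + 1)) hk.le hr (s (k + 1))⁻¹ ((P (k + 1)).inv_mem h)
    have h2 : (s (k + 1))⁻¹ * hw (sw (k + 1)) = 1 := inv_mul_cancel _
    rw [h2] at h1
    rcases h1 with ⟨h3, _⟩ | ⟨h3, _⟩ | ⟨c, r, h3 | h3⟩
    · have : ∀ k < 10, sw (k + 1) ≠ [] := by decide +kernel
      exact this k (by omega) h3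
    · exact h3 (one_pow 2)
    · rw [mul_one, inv_mul_cancel] at h3
      exact (rep_ne_one r).1 h3.symm
    · rw [mul_one, inv_mul_cancel] at h3
      exact (rep_ne_one r).2 h3.symm

/-- **The order of `S`.** -/
theorem card_S : Nat.card S = 2 ^ 11 := (card_Pc (fun _ => step) (fun _ => s_notMem)).2

theorem factorization_card : (Nat.card H0).factorization 2 = 11 := by
  rw [H0Basic.card_H0, show (177408000 : ℕ) = 2 ^ 11 * 86625 by norm_num]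
  have h2 : (86625 : ℕ).factorization 2 = 0 := Nat.factorization_eq_zero_of_not_dvd (by norm_num)
  rw [Nat.factorization_mul (by norm_num) (by norm_num), Nat.Prime.factorization_pow Nat.prime_two,
    Finsupp.add_apply, h2, Finsupp.single_eq_same]

/-- **The Sylow 2-subgroup.** -/
def syl : Sylow 2 H0 :=
  haveI : Fact (Nat.Prime 2) := ⟨Nat.prime_two⟩
  Sylow.ofCard S (by rw [card_S, factorization_card])

theorem coe_syl : (syl : Subgroup H0) = S := rfl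

/-- every 2-element is conjugate into `S`. -/
theorem exists_conj_mem_S {g : H0} {n : ℕ} (hg : g ^ 2 ^ n = 1) : ∃ c : H0, c⁻¹ * g * c ∈ S := by
  have : Fact (Nat.Prime 2) := ⟨Nat.prime_two⟩
  have h1 : IsPGroup 2 (Subgroup.zpowers g) := by
    apply IsPGroup.of_card (n := (Nat.log 2 (orderOf g)))
    rw [Nat.card_zpowers]
    obtain ⟨k, hk, hk'⟩ := (Nat.dvd_prime_pow Nat.prime_two).1 (orderOf_dvd_of_pow_eq_one hg)
    rw [hk', Nat.log_pow (by norm_num)]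
  obtain ⟨Q, hQ⟩ := h1.exists_le_sylow
  obtain ⟨c, hc⟩ := MulAction.exists_smul_eq H0 syl Q
  refine ⟨c, ?_⟩
  have h2 : g ∈ ((c • syl : Sylow 2 H0) : Subgroup H0) := by
    rw [hc]
    exact hQ (Subgroup.mem_zpowers g)
  exact mem_conj_syl h2

theorem hw_x_conj : gz⁻¹ * gx * gz = gx * τ := by
  rw [← hw_x, ← hw_z, ← hw_τ, ← hw_iw, ← hw_append, ← hw_append, ← hw_append]
  exact hw_eq (by decide +kernel)

theorem hw_z_conj : gx⁻¹ * gz * gx = gz * τ := by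
  rw [← hw_x, ← hw_z, ← hw_τ, ← hw_iw, ← hw_append, ← hw_append, ← hw_append]
  exact hw_eq (by decide +kernel)

theorem hw_d_conj : gx⁻¹ * d * gx = d * τ := by
  rw [d, ← hw_x, ← hw_τ, ← hw_iw, ← hw_append, ← hw_append, ← hw_append]
  exact hw_eq (by decide +kernel)

theorem z_sq : gz * gz = 1 := by
  rw [← hw_z, ← hw_append, ← hw_nil]
  exact hw_eq (by decide +kernel)

theorem d_sq : d * d = 1 := by
  rw [d, ← hw_append, ← hw_nil]
  exact hw_eq (by decide +kernel)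

/-- conjugate to a representative -/
theorem cases_aux {g c : H0} {r : ℕ} (h : c⁻¹ * g * c = hw (repw r) ∨ c⁻¹ * g * c = hw (repw r) * τ) :
    IsConj a g ∨ IsConj (a * τ) g ∨ IsConj gx g ∨ IsConj gz g ∨ IsConj d g := by
  have conj : ∀ u, c⁻¹ * g * c = u → IsConj u g := by
    intro u hu
    rw [isConj_iff]
    exact ⟨c, by rw [← hu]; group⟩
  match r with
  | 0 =>
    have h' : hw (repw 0) = a := hw_a
    rw [h'] at h
    rcases h with h | h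
    · exact Or.inl (conj _ h)
    · exact Or.inr (Or.inl (conj _ h))
  | 1 =>
    have h' : hw (repw 1) = a * τ := s_one
    rw [h'] at h
    rcases h with h | h
    · exact Or.inr (Or.inl (conj _ h))
    · rw [mul_assoc a τ τ, τ_mul_τ, mul_one] at h
      exact Or.inl (conj _ h)
  | 2 =>
    have h' : hw (repw 2) = gx := hw_x
    rw [h'] at h
    right; right; left
    rcases h with h | h
    · exact conj _ h
    · refine IsConj.trans ?_ (conj _ h)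
      rw [isConj_iff]
      exact ⟨gz⁻¹, by rw [inv_inv, hw_x_conj]⟩
  | 3 =>
    have h' : hw (repw 3) = gz := hw_z
    rw [h'] at h
    right; right; right; left
    rcases h with h | h
    · exact conj _ h
    · refine IsConj.trans ?_ (conj _ h)
      rw [isConj_iff]
      exact ⟨gx⁻¹, by rw [inv_inv, hw_z_conj]⟩
  | n + 4 =>
    have h' : hw (repw (n + 4)) = d := rfl
    rw [h'] at h
    right; right; right; right
    rcases h with h | h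
    · exact conj _ h
    · refine IsConj.trans ?_ (conj _ h)
      rw [isConj_iff]
      exact ⟨gx⁻¹, by rw [inv_inv, hw_d_conj]⟩

/-- **Elements with `g² ∈ ⟨τ⟩`.** -/
theorem sq_cases {g : H0} (hg : g ^ 2 = 1 ∨ g ^ 2 = τ) : g = 1 ∨ g = τ ∨
    IsConj a g ∨ IsConj (a * τ) g ∨ IsConj gx g ∨ IsConj gz g ∨ IsConj d g := by
  have h4 : g ^ 2 ^ 2 = 1 := by
    have : g ^ 2 ^ 2 = (g ^ 2) ^ 2 := by rw [← pow_mul]; norm_num
    rw [this]
    rcases hg with h | h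
    · rw [h, one_pow]
    · rw [h, τ_sq]
  obtain ⟨c, hc⟩ := exists_conj_mem_S h4
  have h1 : (c⁻¹ * g * c) ^ 2 = g ^ 2 := by
    have h2 : (c⁻¹ * g * c) ^ 2 = c⁻¹ * g ^ 2 * c := by
      rw [pow_two, pow_two]; group
    rw [h2]
    rcases hg with h | h
    · rw [h]; group
    · rw [h, τ_comm, mul_assoc, inv_mul_cancel, mul_one]
  rcases inv_S hc with ⟨_, h | h⟩ | ⟨h, h'⟩ | ⟨e, r, h⟩
  · left
    have : g = c * 1 * c⁻¹ := by rw [← h]; group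
    rw [this]; group
  · right; left
    have : g = c * τ * c⁻¹ := by rw [← h]; group
    rw [this, τ_comm, mul_assoc, mul_inv_cancel, mul_one]
  · rw [h1] at h h'
    rcases hg with h2 | h2
    · exact absurd h2 h
    · exact absurd h2 h'
  · right; right
    apply cases_aux (c := c * e) (r := r)
    have : (c * e)⁻¹ * g * (c * e) = e⁻¹ * (c⁻¹ * g * c) * e := by group
    rw [this]
    exact h

theorem sq_of_isConj {u g : H0} (h : IsConj u g) (hu : u ^ 2 = 1 ∨ u ^ 2 = τ) : g ^ 2 = u ^ 2 := by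
  rw [isConj_iff] at h
  obtain ⟨c, rfl⟩ := h
  have h2 : (c * u * c⁻¹) ^ 2 = c * u ^ 2 * c⁻¹ := by
    rw [pow_two, pow_two]; group
  rw [h2]
  rcases hu with h | h
  · rw [h]; group
  · rw [h, τ_comm, mul_assoc, mul_inv_cancel, mul_one]

theorem a_sq' : a ^ 2 = 1 := by rw [pow_two, a_sq]
theorem aτ_sq : (a * τ) ^ 2 = 1 := by
  rw [pow_two, mul_assoc, ← mul_assoc τ a τ, ← τ_comm a, mul_assoc a τ τ, τ_mul_τ, mul_one, a_sq]
theorem z_sq' : gz ^ 2 = 1 := by rw [pow_two, z_sq]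
theorem d_sq' : d ^ 2 = 1 := by rw [pow_two, d_sq]

/-- **The involutions of `H0`.** -/
theorem involution_cases {g : H0} (hg : g ^ 2 = 1) : g = 1 ∨ g = τ ∨
    IsConj a g ∨ IsConj (a * τ) g ∨ IsConj gz g ∨ IsConj d g := by
  rcases sq_cases (Or.inl hg) with h | h | h | h | h | h | h
  · exact Or.inl h
  · exact Or.inr (Or.inl h)
  · exact Or.inr (Or.inr (Or.inl h))
  · exact Or.inr (Or.inr (Or.inr (Or.inl h)))
  · have h2 := sq_of_isConj h (Or.inr rfl)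
    rw [hg] at h2
    exact absurd h2.symm τ_ne_one
  · exact Or.inr (Or.inr (Or.inr (Or.inr (Or.inl h))))
  · exact Or.inr (Or.inr (Or.inr (Or.inr (Or.inr h))))

/-- **The square roots of `τ`.** -/
theorem isConj_of_sq_eq_τ {g : H0} (hg : g ^ 2 = τ) : IsConj gx g := by
  rcases sq_cases (Or.inr hg) with h | h | h | h | h | h | h
  · rw [h, one_pow] at hg
    exact absurd hg.symm τ_ne_one
  · rw [h, τ_sq] at hg
    exact absurd hg.symm τ_ne_one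
  · rw [sq_of_isConj h (Or.inl a_sq'), a_sq'] at hg
    exact absurd hg.symm τ_ne_one
  · rw [sq_of_isConj h (Or.inl aτ_sq), aτ_sq] at hg
    exact absurd hg.symm τ_ne_one
  · exact h
  · rw [sq_of_isConj h (Or.inl z_sq'), z_sq'] at hg
    exact absurd hg.symm τ_ne_one
  · rw [sq_of_isConj h (Or.inl d_sq'), d_sq'] at hg
    exact absurd hg.symm τ_ne_one

end Cfsg.Agent.HN.Syl
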