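import Cfsg.Agent.HN.CentUp2
import Cfsg.Agent.HN.WordSets
import Cfsg.Agent.HN.FusGen
import Cfsg.Agent.HN.HypKill2
set_option linter.all false

set_option autoImplicit false

/-!
The elements of `H0` needed for `HypLoc.Data`, and the final contradiction: `a` and `d` cannot be conjugate
to `τ` if `z` and `a τ` are not.
-/

namespace Cfsg.Agent.HN.HypFacts

open Cfsg.Agent.HN.Pres Cfsg.Agent.HN.HS100 Cfsg.Agent.HN.P1408 Cfsg.Agent.HN.H0Basic
open Cfsg.Agent.HN.Syl Cfsg.Agent.HN.Inv4 Cfsg.Agent.HN.CentUp Cfsg.Agent.HN.WordSets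
open Cfsg.Agent.HN.FusGen

/-! ### words -/

/-- word of the element of order 3 -/
def wc : List ℕ := [2, 0, 2, 4, 2, 2, 2, 4, 2, 2, 1, 3]
/-- word of the first involution -/
def we : List ℕ := [0, 2, 2, 2, 0, 2, 2, 2, 0, 2, 2, 2, 0]
/-- word of the second involution -/
def wf : List ℕ := [2, 2, 2, 0, 2, 2, 2, 1, 2, 2, 2]
/-- word of the element of order 3 permuting the involutions -/
def wy : List ℕ := [3, 0, 3, 3, 0, 3, 0, 2, 0, 2, 2, 0, 2, 1]
/-- word of the outer involution -/
def wt : List ℕ := [3, 0, 3, 3, 0, 3, 0, 2, 0, 2, 2, 0, 2, 4]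
/-- word of the element with a product of order 5 -/
def ws : List ℕ := [2, 0, 2, 2, 1, 2]

/-- element of order 3 -/
def c : H0 := hw wc
/-- first involution -/
def e1 : H0 := hw we
/-- second involution -/
def e2 : H0 := hw wf
/-- element of order 3 -/
def y : H0 := hw wy
/-- outer involution -/
def t : H0 := hw wt
/-- the conjugating element -/
def s : H0 := hw ws

theorem comm_of {a b : List ℕ} (h : eqw (a ++ b) (b ++ a) = true) : hw a * hw b = hw b * hw a := by
  rw [← hw_append, ← hw_append]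
  exact hw_eq h

theorem two_of {a : List ℕ} (h : eqw (a ++ a) [] = true) : hw a * hw a = 1 := by
  rw [← hw_append, ← hw_nil]
  exact hw_eq h

theorem three_of {a : List ℕ} (h : eqw (a ++ a ++ a) [] = true) : hw a * hw a * hw a = 1 := by
  rw [← hw_append, ← hw_append, ← hw_nil]
  exact hw_eq h

theorem mul_of {a b r : List ℕ} (h : eqw (a ++ b) r = true) : hw a * hw b = hw r := by
  rw [← hw_append]
  exact hw_eq h

theorem conj_of {a g b : List ℕ} (h : eqw (a ++ g) (g ++ b) = true) : (hw g)⁻¹ * hw a * hw g = hw b := by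
  rw [mul_assoc, inv_mul_eq_iff_eq_mul, ← hw_append, ← hw_append]
  exact hw_eq h

theorem I4_H0 : I4 τ gz e1 e2 where
  pp := τ_mul_τ
  qq := z_sq
  rr := two_of (by decide +kernel)
  ss := two_of (by decide +kernel)
  pq := (τ_comm _).symm
  pr := (τ_comm _).symm
  ps := (τ_comm _).symm
  qr := by rw [← hw_z]; exact comm_of (by decide +kernel)
  qs := by rw [← hw_z]; exact comm_of (by decide +kernel)
  rs := comm_of (by decide +kernel)

theorem z_ne_one' : (gz : H0) ≠ 1 := by
  rw [← hw_z, ← hw_nil]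
  exact hw_ne rfl rfl (p := 1) (by norm_num) (by decide +kernel)
theorem tt : t * t = 1 := two_of (by decide +kernel)
theorem ccc : c * c * c = 1 := three_of (by decide +kernel)
theorem c_ne : c ≠ 1 := by
  rw [c, ← hw_nil]
  exact hw_ne rfl rfl (p := 7) (by norm_num) (by decide +kernel)
theorem cz : c * gz = gz * c := by rw [← hw_z]; exact comm_of (by decide +kernel)
theorem ce : c * e1 = e1 * c := comm_of (by decide +kernel)
theorem cf : c * e2 = e2 * c := comm_of (by decide +kernel)
theorem ct : c * t = t * c := comm_of (by decide +kernel)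
theorem cy : c * y = y * c := comm_of (by decide +kernel)
theorem te : t * e1 = e1 * t := comm_of (by decide +kernel)
theorem tz : t * gz * t = τ * gz := by
  rw [← hw_z, ← hw_τ, t, ← hw_append, ← hw_append, ← hw_append]
  exact hw_eq (by decide +kernel)
theorem tf : t * e2 * t = e1 * e2 := by
  rw [t, e2, e1, ← hw_append, ← hw_append, ← hw_append]
  exact hw_eq (by decide +kernel)
theorem yyy : y * y * y = 1 := three_of (by decide +kernel)
theorem yz : y * gz = gz * y := by rw [← hw_z]; exact comm_of (by decide +kernel)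
theorem ye : y⁻¹ * e1 * y = e2 := conj_of (by decide +kernel)
theorem yf : y⁻¹ * e2 * y = e1 * e2 := by
  rw [e1, e2, ← hw_append]
  exact conj_of (by decide +kernel)
theorem sc : s * c = c * s := comm_of (by decide +kernel)
theorem sz : s * gz = gz * s := by rw [← hw_z]; exact comm_of (by decide +kernel)
theorem s_eq : s⁻¹ * e1 * s * e1 = hw (iw ws ++ we ++ ws ++ we) := by
  rw [hw_append, hw_append, hw_append, hw_iw]; rfl
theorem s5 : (s⁻¹ * e1 * s * e1) ^ 5 = 1 := by
  rw [s_eq]
  simp only [pow_succ, pow_zero, one_mul]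
  rw [← hw_append, ← hw_append, ← hw_append, ← hw_append, ← hw_nil]
  exact hw_eq (by decide +kernel)
theorem s1 : s⁻¹ * e1 * s * e1 ≠ 1 := by
  rw [s_eq, ← hw_nil]
  exact hw_ne (by decide +kernel) rfl (p := 7) (by norm_num) (by decide +kernel)

/-! ### classes -/

theorem isConj_a_e1 : IsConj a e1 := by
  rw [← hw_a]
  exact isConj_of_eqw (c := [1, 3, 3, 3, 1]) (by decide +kernel)

theorem isConj_aτ_τe1 : IsConj (a * τ) (τ * e1) := by
  rw [← τ_comm e1]
  obtain ⟨g, hg⟩ := isConj_iff.1 isConj_a_e1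
  rw [isConj_iff]
  refine ⟨g, ?_⟩
  rw [← hg, ← mul_assoc, mul_assoc (g * a), ← τ_comm, ← mul_assoc]

theorem isConj_z_t : IsConj gz t := by
  rw [← hw_z]
  exact isConj_of_eqw (c := [2, 1, 2, 2, 4, 2, 1, 3, 4, 3]) (by decide +kernel)

theorem isConj_z_τz : IsConj gz (τ * gz) := by
  rw [isConj_iff]
  refine ⟨gx⁻¹, ?_⟩
  rw [inv_inv, hw_z_conj, τ_comm]

theorem isConj_d_ze1 : IsConj d (gz * e1) := by
  rw [← hw_z, e1, ← hw_append]
  exact isConj_of_eqw (c := [1, 2, 4, 2, 2, 1, 3, 1, 3, 3, 4, 3, 4, 3, 3]) (by decide +kernel)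

theorem isConj_d_τze1 : IsConj d (τ * gz * e1) := by
  rw [← hw_z, ← hw_τ, e1, ← hw_append, ← hw_append]
  exact isConj_of_eqw (c := [1, 2, 4, 2, 2, 1, 3, 1, 3, 3, 4, 3, 4, 3, 3, 1]) (by decide +kernel)

/-! ### the centraliser of `e1` and `c` -/

/-- tables for `cE` -/
def cEV : List ℕ := [0x260b83086001a06c0080b0b603c050410ae1580c03802a0ac0205000a0400101106e1080901e08e0901e8340461282c02507e0202283600c0001c8540960f00f8440660c814822028188168170a40241882004e098200460860c01082806a120060030bc0680c8550580582982f0c61242604e0b40382f81d0b81641503e00e0ec278510381342e83a, 0x6a17816861082060118200b60ec0e85207e15c170130b4034160500001342005105412824848034070230440781081584e0ac164120010a60880b0630121741c0340640642584f0b806c3004c0be0c41b81401c09c0800306c0142382f0a80781f0450aa0841986202201c0780b03e0480200200c0982c0080500301480a0720541d01707a09421830]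
/-- chain for `cE` -/
def cEBS : List (ℕ × ℕ × ℕ × ℕ) := [
  (2, 24, 0x100000001000000016c8000016c800001000000010000000100000001000000044a8000010000000100000001000000016c8000016c80000100000001000000010000000100000001000000044a80000100000001000000010000000100000001000000036000000360000003600000016c800001000000010000000360000001000000036000000100000001000000016c80000100000001000000010000000100000001000000016c80000100000001000000010000000100000003600000016c8000016c800001000000010000000100000001000000016c80000100000001000000010000000100000001000000016c8000016c800001000000010000000100000001000000016c8000010000000100000003600000010000000100000001000000016c8000016c80000100000001000000016c800001000000010000000100000003600000010000000100000001000000016c8000010000000100000001000000010000000100000001000000016c800001000000010000000100000001000000010000000100000001000, 0x1cf00000010000000100000001000),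
  (0, 2, 0x46535f9046535f904c5660104c56601046535f9046535f905ca6bf2046535f90649e9e1112935f9046535f9077145f904c5660104c56601077145f9046535f9197e6bf20a897bf2149905f9220e279a112935f9046535f91f8535f9046535f9046535f90cf461f205e837f905e837f904c56601077145f9046535f905e837f9046535f912dde7f9112935f9046535f904c56601046535f9046535f9112935f9077145f9197e6bf204c5660105ca6bf205ca6bf2077145f9077145f905e837f91f62d1ba0660a7fa112935f905ca6bf2197e6bf205ca6bf204c5660105ca6bf2112935f9112935f90a897bf2112935f91508cfc104c56601252fa1eb112935f9046535f9046535f904c56601077145f9112935f905e837f9046535f905ca6bf2046535f904c566011508cfc1112935f905ca6bf204c56601077145f9077145f9046535f905e837f9046535f9046535f90a897bf20660a7fa05ca6bf2046535f905ca6bf2046535f9077145f9046535f904c56601197e6bf2077145f9149905f9046535f90a95b5f9046535f9077145f9, 0xce412b5c077145f905ca6bf2197e6bf2)]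
/-- last table for `cE` -/
def cET : ℕ := 0x3a195b721883a0e22c6cd6c42c6cd6c418ad80dc3a195b723b562cd518ad80dc324591d30dbc520c1883a0e233c7e59b16dd2834220f95842ddb53b73a195b72106fe06e195050d6310337bd3b7c62ee2ee63c421883a0e221e724d80af00fc93a195b7220ff1c530aec5e5a0aec5e5a2c6cd6c414a4e8fc1883a0e203f74a9a0187f53309f3e90f2ee63c420af00fc93336d44c0af00fc93a195b722ba2b7a62ddb53b7190ec8583336d44c304839a3304839a332b2ca2514a4e8fc03f74a9a08eeb601048cde8c0dbc520c114c2c000425f823304839a32c6cd6c4304839a32ee63c4222346be3195050d62ba2b7a63b4286f33336d44c17e3b78d2ee63c421ff1b4723a195b722c6cd6c42ddb53b72ee63c422a27ea0b3a195b723b562cd53a195b722c6cd6c42ff9342b22346be3304839a316dd283432b2ca2533c7e59b3a195b722a27ea0b18ad80dc3a195b72195050d6048cde8c3b562cd53a195b723b562cd53a195b722ddb53b718ad80dc2c6cd6c4106fe06e14a4e8fc32aff0f518ad80dc2e1fd31b12670a2232dc035d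
/-- ranks for `cE` -/
def cER : ℕ := 0x520481584707a0a81001901004c258150bc1880b8160b00f02a80706e0780a01d05c0b4288060500081904a0720e81a80e0b8110138360860881281f0480b0000340341342c8030700c03186009c0bc2485a0900400580408c0f800823042014280530141082b83108a0602f85207e1041984f0380442d8400c21580d85d0181301303b01e1500480d
/-- order for `cE` -/
def cEO : ℕ := 0x5a1580582c02a15c0403f01a0a018853032028288020380502481d0200ac190060b2110148270c008c0b83e0760680900c0260882f8520081082182f09e0f0208340221140c02e05412c250360c21783184707a0141c8370400e80f85d0701382600f0120cc2e0160aa1502c04d0b4188070260061000000704a06c0085b0a01200f02406011810835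

theorem cE_le : Nat.card (cenA [[0, 2, 2, 2, 0, 2, 2, 2, 0, 2, 2, 2, 0], [2, 0, 2, 4, 2, 2, 2, 4, 2, 2, 1, 3]]) ≤ 48 :=
  card_cenA_le (VS := cEV) (bs := cEBS) (T := cET) (R := cER) (O := cEO) (by decide +kernel) (by decide +kernel)

theorem card_centralizer_e1_c : Nat.card (Subgroup.centralizer ({e1, c} : Set H0)) ≤ 96 := by
  refine (CentUp2.card_le_of_le ?_).trans (card_centralizer_le cE_le)
  intro g hg
  rw [Subgroup.mem_centralizer_iff] at hg ⊢
  rintro _ ⟨w, hw', rfl⟩
  rcases List.mem_cons.1 hw' with rfl | hw'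
  · exact hg e1 (Or.inl rfl)
  rw [List.mem_singleton] at hw'
  subst hw'
  exact hg c (Or.inr rfl)

/-- powers of `c` -/
def wci (i : ℕ) : List ℕ := Nat.rec [] (fun _ ih => ih ++ wc) i

theorem hw_wci (i : ℕ) : hw (wci i) = c ^ i := by
  induction i with
  | zero => rfl
  | succ i ih =>
    rw [pow_succ, ← ih]
    exact hw_append _ _

/-- word or empty -/
def wb (b : Bool) (w : List ℕ) : List ℕ := bif b then w else []

theorem hw_wb (b : Bool) (w : List ℕ) : hw (wb b w) = bp b (hw w) := by
  cases b <;> rfl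

/-- word of a product of the four involutions -/
def wF (v : V) : List ℕ := (wb v.1 [0, 0] ++ wb v.2.1 [4]) ++ (wb v.2.2.1 we ++ wb v.2.2.2 wf)

theorem hw_wF (v : V) : hw (wF v) = F τ gz e1 e2 v := by
  rw [wF, hw_append, hw_append, hw_append, hw_wb, hw_wb, hw_wb, hw_wb, hw_τ, hw_z]
  rfl

/-- the indices -/
def bools : List Bool := [false, true]

/-- all `v : V` -/
def vs : List V := bools.flatMap (fun p => bools.flatMap (fun q => bools.flatMap (fun r => bools.map (fun s => (p, q, r, s)))))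

/-- index list -/
def ixs : List (ℕ × V × Bool) :=
  [0, 1, 2].flatMap (fun i => vs.flatMap (fun v => bools.map (fun b => (i, v, b))))

/-- words of the 96 elements -/
def w96 (j : ℕ × V × Bool) : List ℕ := wci j.1 ++ (wF j.2.1 ++ wb j.2.2 wt)

theorem hw_w96 (j : ℕ × V × Bool) : hw (w96 j) = c ^ j.1 * (F τ gz e1 e2 j.2.1 * bp j.2.2 t) := by
  rw [w96, hw_append, hw_append, hw_wci, hw_wF, hw_wb]
  rfl

/-- images of the point 7 -/
def imgs : List ℕ := [7, 1271, 227, 1239, 179, 1367, 8, 1360, 17, 983, 465, 863, 375, 1096, 21, 1062, 22, 1269, 226, 1238, 178, 1366, 23, 1359, 54, 984, 462, 864, 372, 1097, 56, 1063, 1344, 425, 437, 478, 486, 109, 1315, 100, 1236, 747, 212, 826, 244, 502, 1329, 500, 1351, 424, 435, 477, 484, 256, 1348, 253, 1234, 749, 211, 828, 243, 238, 1328, 219, 729, 383, 787, 467, 758, 95, 726, 108, 1135, 687, 1190, 819, 1154, 489, 1134, 447, 838, 384, 786, 468, 753, 250, 780, 255, 1224, 684, 1188, 816, 1155, 204, 1180, 234]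

theorem imgs_eq : (ixs.map w96).map (fun w => tr w 7) = imgs := by decide +kernel

theorem imgs_nodup : imgs.Nodup := by decide +kernel

theorem ok96 : (ixs.map w96).all okw = true := by decide +kernel

theorem nodup96 : ((ixs.map w96).map hw).Nodup :=
  CentUp2.nodup_hw ok96 (p := 7) (by norm_num) (by rw [imgs_eq]; exact imgs_nodup)

theorem mem_cen {g : H0} : g ∈ Subgroup.centralizer ({e1, c} : Set H0) ↔ g * e1 = e1 * g ∧ g * c = c * g := by
  rw [Subgroup.mem_centralizer_iff]
  constructor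
  · intro h
    exact ⟨(h e1 (Or.inl rfl)).symm, (h c (Or.inr rfl)).symm⟩
  · rintro ⟨h1, h2⟩ x (rfl | rfl)
    · exact h1.symm
    · exact h2.symm

theorem F_mem (v : V) : F τ gz e1 e2 v ∈ Subgroup.centralizer ({e1, c} : Set H0) := by
  rw [mem_cen]
  refine ⟨(F_commute ?_ ?_ ?_ ?_ v).symm, (F_commute ?_ ?_ ?_ ?_ v).symm⟩
  · exact I4_H0.pr.symm
  · exact I4_H0.qr.symm
  · rfl
  · exact I4_H0.rs
  · exact τ_comm c
  · exact cz
  · exact ce
  · exact cf

theorem t_mem : t ∈ Subgroup.centralizer ({e1, c} : Set H0) := mem_cen.2 ⟨te, ct.symm⟩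

theorem c_mem : c ∈ Subgroup.centralizer ({e1, c} : Set H0) := mem_cen.2 ⟨ce, rfl⟩

theorem mem96 : ∀ g ∈ (ixs.map w96).map hw, g ∈ Subgroup.centralizer ({e1, c} : Set H0) := by
  intro g hg
  rw [List.map_map, List.mem_map] at hg
  obtain ⟨j, -, rfl⟩ := hg
  rw [Function.comp_apply, hw_w96]
  refine Subgroup.mul_mem _ (Subgroup.pow_mem _ c_mem _) (Subgroup.mul_mem _ (F_mem _) ?_)
  cases j.2.2
  · exact Subgroup.one_mem _
  · exact t_mem

theorem length96 : ((ixs.map w96).map hw).length = 96 := by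
  rw [List.length_map, List.length_map]
  rfl

/-- **The centraliser of `e1` and `c`.** -/
theorem f2 {g : H0} (h1 : g * c = c * g) (h2 : g * e1 = e1 * g) :
    ∃ (i : ℕ) (v : V), g = c ^ i * F τ gz e1 e2 v ∨ g = c ^ i * F τ gz e1 e2 v * t := by
  have h := CentUp2.mem_of_card_le nodup96 mem96 (by rw [length96]; exact card_centralizer_e1_c)
    (mem_cen.2 ⟨h2, h1⟩)
  rw [List.map_map, List.mem_map] at h
  obtain ⟨j, -, hj⟩ := h
  rw [Function.comp_apply, hw_w96] at hj
  refine ⟨j.1, j.2.1, ?_⟩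
  rw [← hj]
  cases j.2.2
  · left; rw [bp_false, mul_one]
  · right; rw [bp_true, mul_assoc]

/-! ### elements of order 3 of the centraliser of `e1` -/

open Classical in
theorem conj_three {C : Type*} [Group C] [Finite C] (h9 : ¬ 9 ∣ Nat.card C) {x c : C}
    (hx : x * x * x = 1) (hx1 : x ≠ 1) (hc : c * c * c = 1) (hc1 : c ≠ 1) :
    ∃ h : C, h⁻¹ * x * h = c ∨ h⁻¹ * x * h = c⁻¹ := by
  have : Fact (Nat.Prime 3) := ⟨Nat.prime_three⟩
  have ho : ∀ u : C, u * u * u = 1 → u ≠ 1 → orderOf u = 3 := by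
    intro u h1 h2
    exact orderOf_eq_prime (by rw [pow_succ, pow_two]; exact h1) h2
  have hox := ho x hx hx1
  have hoc := ho c hc hc1
  have hn : Nat.card C ≠ 0 := Nat.card_pos.ne'
  have h3 : 3 ^ 1 ∣ Nat.card C := by
    rw [pow_one, ← hox]
    exact orderOf_dvd_natCard x
  have hf1 := (Nat.prime_three.pow_dvd_iff_le_factorization hn).1 h3
  have hf2 : ¬ 2 ≤ (Nat.card C).factorization 3 := by
    intro h
    exact h9 ((Nat.prime_three.pow_dvd_iff_le_factorization hn).2 h)
  have hf : (Nat.card C).factorization 3 = 1 := by omega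
  have hcx : Nat.card (Subgroup.zpowers x) = 3 ^ (Nat.card C).factorization 3 := by
    rw [Nat.card_zpowers, hox, hf, pow_one]
  have hcc : Nat.card (Subgroup.zpowers c) = 3 ^ (Nat.card C).factorization 3 := by
    rw [Nat.card_zpowers, hoc, hf, pow_one]
  obtain ⟨g, hg⟩ := MulAction.exists_smul_eq C (Sylow.ofCard (Subgroup.zpowers x) hcx)
    (Sylow.ofCard (Subgroup.zpowers c) hcc)
  have hm : g * x * g⁻¹ ∈ Subgroup.zpowers c := by
    have h1 : g * x * g⁻¹ ∈ ((g • Sylow.ofCard (Subgroup.zpowers x) hcx : Sylow 3 C) : Subgroup C) := by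
      rw [Sylow.coe_subgroup_smul]
      have := Subgroup.smul_mem_pointwise_smul x (MulAut.conj g)
        ((Sylow.ofCard (Subgroup.zpowers x) hcx : Sylow 3 C) : Subgroup C) (Subgroup.mem_zpowers x)
      rwa [MulAut.smul_def, MulAut.conj_apply] at this
    rw [hg] at h1
    exact h1
  rw [mem_zpowers_iff_mem_range_orderOf, hoc, Finset.mem_image] at hm
  obtain ⟨k, hk, hk'⟩ := hm
  refine ⟨g⁻¹, ?_⟩
  rw [inv_inv, ← hk']
  have hk3 := Finset.mem_range.1 hk
  have hk0 : k ≠ 0 := by
    rintro rfl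
    rw [pow_zero] at hk'
    exact hx1 (conj_eq_one_iff.1 hk'.symm)
  have : k = 1 ∨ k = 2 := by omega
  rcases this with rfl | rfl
  · left; rw [pow_one]
  · right
    rw [pow_two]
    exact eq_inv_of_mul_eq_one_left hc

theorem card_centralizer_e1 : Nat.card (Subgroup.centralizer ({e1} : Set H0)) = 30720 := by
  obtain ⟨g, hg⟩ := isConj_iff.1 isConj_a_e1
  rw [← card_centralizer_a]
  refine Nat.card_congr ((MulAut.conj g⁻¹).toEquiv.subtypeEquiv ?_)
  intro u
  change u ∈ Subgroup.centralizer {e1} ↔ g⁻¹ * u * (g⁻¹)⁻¹ ∈ Subgroup.centralizer {a}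
  rw [Subgroup.mem_centralizer_singleton_iff, Subgroup.mem_centralizer_singleton_iff, ← hg, inv_inv]
  constructor
  · intro h
    have h2 : u * (g * a * g⁻¹) * g = g * a * g⁻¹ * u * g := by rw [h]
    calc g⁻¹ * u * g * a = g⁻¹ * (u * (g * a * g⁻¹) * g) := by group
      _ = g⁻¹ * (g * a * g⁻¹ * u * g) := by rw [h2]
      _ = a * (g⁻¹ * u * g) := by group
  · intro h
    calc u * (g * a * g⁻¹) = g * (g⁻¹ * u * g * a) * g⁻¹ := by group
      _ = g * (a * (g⁻¹ * u * g)) * g⁻¹ := by rw [h]
      _ = g * a * g⁻¹ * u := by group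

/-- elements of order 3 of the centraliser of `e1`. -/
theorem T2 {x : H0} (hx : x * x * x = 1) (hx1 : x ≠ 1) (h : x * e1 = e1 * x) :
    ∃ h : H0, h * e1 = e1 * h ∧ (h⁻¹ * x * h = c ∨ h⁻¹ * x * h = c⁻¹) := by
  have h9 : ¬ 9 ∣ Nat.card (Subgroup.centralizer ({e1} : Set H0)) := by
    rw [card_centralizer_e1]
    norm_num
  have m1 : x ∈ Subgroup.centralizer ({e1} : Set H0) := Subgroup.mem_centralizer_singleton_iff.2 h
  have m2 : c ∈ Subgroup.centralizer ({e1} : Set H0) := Subgroup.mem_centralizer_singleton_iff.2 ce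
  obtain ⟨k, hk⟩ := conj_three h9 (x := ⟨x, m1⟩) (c := ⟨c, m2⟩) (Subtype.ext hx)
    (fun h => hx1 (congrArg Subtype.val h)) (Subtype.ext ccc) (fun h => c_ne (congrArg Subtype.val h))
  refine ⟨k, Subgroup.mem_centralizer_singleton_iff.1 k.2, ?_⟩
  rcases hk with hk | hk
  · exact Or.inl (congrArg Subtype.val hk)
  · exact Or.inr (congrArg Subtype.val hk)

/-! ### the contradiction -/

variable {G : Type*} [Group G] {φ : H0 →* G}

theorem hom_comm {g h : H0} (e : g * h = h * g) : φ g * φ h = φ h * φ g := by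
  rw [← map_mul, e, map_mul]

theorem data (E : Emb φ τ) (ha : InK φ τ a) (hd : InK φ τ d) (hz : ¬ InK φ τ gz)
    (hb : ¬ InK φ τ (a * τ)) : HypLoc.Data (φ τ) (φ gz) (φ c) (φ e1) (φ e2) (φ t) (φ y) (φ s) where
  I := {
    pp := by rw [← map_mul, τ_mul_τ, map_one]
    qq := by rw [← map_mul, z_sq, map_one]
    rr := by rw [← map_mul, I4_H0.rr, map_one]
    ss := by rw [← map_mul, I4_H0.ss, map_one]
    pq := hom_comm I4_H0.pq
    pr := hom_comm I4_H0.pr
    ps := hom_comm I4_H0.ps
    qr := hom_comm I4_H0.qr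
    qs := hom_comm I4_H0.qs
    rs := hom_comm I4_H0.rs }
  tt := by rw [← map_mul, tt, map_one]
  ccc := by rw [← map_mul, ← map_mul, ccc, map_one]
  c1 h := c_ne (E.inj (by rw [h, map_one]))
  cτ := hom_comm (τ_comm c)
  cz := hom_comm cz
  ce := hom_comm ce
  cf := hom_comm cf
  ct := hom_comm ct
  cy := hom_comm cy
  tτ := hom_comm (τ_comm t)
  te := hom_comm te
  tz := by rw [← map_mul, ← map_mul, tz, map_mul]
  tf := by rw [← map_mul, ← map_mul, tf, map_mul]
  yyy := by rw [← map_mul, ← map_mul, yyy, map_one]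
  yτ := hom_comm (τ_comm y)
  yz := hom_comm yz
  ye := by rw [← map_inv, ← map_mul, ← map_mul, ye]
  yf := by rw [← map_inv, ← map_mul, ← map_mul, yf, map_mul]
  τ1 h := τ_ne_one (E.inj (by rw [h, map_one]))
  z1 h := z_ne_one' (E.inj (by rw [h, map_one]))
  sc := hom_comm sc
  sz := hom_comm sz
  s5 := by rw [← map_inv, ← map_mul, ← map_mul, ← map_mul, ← map_pow, s5, map_one]
  s1 h := s1 (E.inj (by rw [map_mul, map_mul, map_mul, map_inv, h, map_one]))
  K1 := ha.conj isConj_a_e1
  K2 := by rw [← map_mul]; exact hd.conj isConj_d_ze1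
  K3 := by rw [← map_mul, ← map_mul]; exact hd.conj isConj_d_τze1
  N1 := hz
  N2 h := hz (by rw [← map_mul] at h; exact InK.conj h isConj_z_τz.symm)
  N3 h := hb (by rw [← map_mul] at h; exact InK.conj h isConj_aτ_τe1.symm)
  N4 h := hz (InK.conj h isConj_z_t.symm)
  f2 := by
    intro g h1 h2 h3
    obtain ⟨k, rfl⟩ := E.cent g h1
    have i2 : k * c = c * k := E.inj (by rw [map_mul, map_mul]; exact h2)
    have i3 : k * e1 = e1 * k := E.inj (by rw [map_mul, map_mul]; exact h3)
    obtain ⟨i, v, h | h⟩ := f2 i2 i3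
    · exact ⟨i, v, Or.inl (by rw [h, map_mul, map_pow, map_F])⟩
    · exact ⟨i, v, Or.inr (by rw [h, map_mul, map_mul, map_pow, map_F])⟩
  T1 := by
    intro x h1 h2 h3 h4 h5
    obtain ⟨k, rfl⟩ := E.cent x h3
    have k2 : k ^ 2 = 1 := E.inj (by rw [map_pow, pow_two, h1, map_one])
    have hgood : ∀ g : H0, IsConj k (τ * g) → ∃ h : G, h * φ τ = φ τ * h ∧ h⁻¹ * φ k * h = φ τ * φ g := by
      intro g hg
      obtain ⟨u, hu⟩ := isConj_iff.1 hg
      refine ⟨φ u⁻¹, hom_comm (τ_comm _), ?_⟩
      rw [← map_inv, ← map_mul, ← map_mul, ← map_mul, inv_inv, hu]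
    rcases involution_cases k2 with h | h | h | h | h | h
    · exact absurd (by rw [h, map_one]) h2
    · exact absurd (by rw [h]) h4
    · exact absurd (InK.conj ha h) h4
    · exact hgood _ (h.symm.trans isConj_aτ_τe1)
    · exfalso
      apply hz
      have hk : IsConj (τ * gz) (τ * k) := by
        obtain ⟨u, hu⟩ := isConj_iff.1 h
        rw [isConj_iff]
        refine ⟨u, ?_⟩
        rw [← hu, ← mul_assoc u τ gz, τ_comm u]
        simp only [mul_assoc]
      rw [← map_mul] at h5
      exact InK.conj h5 (isConj_z_τz.trans hk).symm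
    · exact absurd (InK.conj hd h) h4
  T2 := by
    intro x h1 h2 h3 h4
    obtain ⟨k, rfl⟩ := E.cent x h3
    have k1 : k * k * k = 1 := E.inj (by rw [map_mul, map_mul, h1, map_one])
    have k2 : k ≠ 1 := fun h => h2 (by rw [h, map_one])
    have k3 : k * e1 = e1 * k := E.inj (by rw [map_mul, map_mul]; exact h4)
    obtain ⟨u, hu, hu'⟩ := T2 k1 k2 k3
    refine ⟨φ u, hom_comm (τ_comm u), hom_comm hu, ?_⟩
    rw [← map_inv, ← map_inv, ← map_mul, ← map_mul]
    rcases hu' with h | h
    · exact Or.inl (by rw [h])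
    · exact Or.inr (by rw [h])

/-- **The involutions `a` and `d` are not both conjugate to `τ` if `z` and `a τ` are not.** -/
theorem hyp_false [Finite G] (E : Emb φ τ) (ha : InK φ τ a) (hd : InK φ τ d) (hz : ¬ InK φ τ gz)
    (hb : ¬ InK φ τ (a * τ)) : False :=
  HypKill2.false_of_data (data E ha hd hz hb)

end Cfsg.Agent.HN.HypFacts
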