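import Cfsg.Agent.HN.CentUp2
import Cfsg.Agent.HN.ForallS
set_option linter.all false

-- part: HN/FactF1
section
set_option autoImplicit false

/-!
`H0 = 2.HS.2`: an element commuting with the centraliser in `K = 2.HS` of an element `h` with `h² ∈ ⟨τ⟩` lies in
`⟨τ, h⟩` (for S1752).
-/

namespace Cfsg.Agent.HN.FactF1

open Cfsg.Agent.HN.Pres Cfsg.Agent.HN.HS100 Cfsg.Agent.HN.P1408 Cfsg.Agent.HN.H0Basic
open Cfsg.Agent.HN.Syl Cfsg.Agent.HN.Classes Cfsg.Agent.HN.ColChain Cfsg.Agent.HN.CentUp Cfsg.Agent.HN.CentUp2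
open Cfsg.Agent.SporadicA.PermTab
open Equiv

/-- tables for `fa` -/
def faV : List ℕ := [0xc01883083a0b61340a8310be18c2f05a09009c1784f08c0fc2e85c08214c2c85804415c1a84a0ac05c1e82a0aa11c2a00f0a41442285009c1301980a0960381b8490560940c0440861082003e0720241e03b03c0001c02c06c0d0190010600b81682002202c038290500981202304207c0e81c0360680c81602804c0901001a0100600601001401802, 0xb41782b85d0b6164210180be0742682c09411c1c8410360542901f00e0ec3103a014120190610a214c1c02909e1001781707c1301083005003c1580101c00c258140861140483c0aa0782c0270321102802d0220081a03f0441240801a0240902b0130c00d40682a08c0003180506e1702702005c0982a00b0380f4188230660180b00404a03004036]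
/-- chain for `fa` -/
def faBS : List (ℕ × ℕ × ℕ × ℕ) := [
  (35, 2, 0x1000000016c8000016c800001f4000001000000010000000242d0000100000001000000010000000100000001f40000010000000100000001000000010000000242d00001000000013310000100000001f400000242d000010000000100000001000000010000000100000001000000010000000242d000010000000100000001f4000001f400000100000001f4000001000000013310000100000001f400000242d0000100000001000000013310000100000001000000010000000100000001f400000133100001f4000001f40000010000000100000001f400000242d0000100000001000000010000000242d00001f40000013310000133100001331000010000000100000001331000010000000100000001000000010000000100000001f400000100000001000000010000000242d000013310000133100001000000013310000100000001f400000100000001000000010000000100000001331000010000000133100001f400000100000001f4000003600000013310000360000001000000013310000100000001331, 0x1fee6000010000000100000001000)]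
/-- last table for `fa` -/
def faT : ℕ := 0x46535f904c566011508cfc108381539046535f9046535f90742e36f046535f9046535f9046535f9046535f90525f63905ca6bf205ca6bf2046535f9149905f90742e36f046535f9049541fa046535f91202c23905566276046535f9112935f9077145f9046535f9046535f9046535f9112935f9086a0626046535f9149905f906f75c32157901390a897bf206f75c32046535f9115f72ba05ca6bf206f75c3205566276149905f9046535f9049541fa046535f92f2a6bf2046535f9046535f908381539115f72ba0525f6391579013905ca6bf20a897bf21202c239086a0626112935f9112935f905ca6bf20556627606f75c32049541fa049541fa049541fa0a95b5f905b8d7e407a2d52a05ca6bf2077145f905ca6bf2077145f9112935f91202c239046535f9046535f9046535f91239653606157af3049541fa046535f9115f72ba05ca6bf20525f6390a897bf20a897bf2046535f9046535f9115f72ba046535f90ad66e230525f639046535f90525f63912dde7f907a2d52a0cf461f2046535f9115f72ba046535f907a2d52a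
/-- ranks for `fa` -/
def faR : ℕ := 0x6c1700002e0c2174118440c00e42f046038074228020440fc2003e02011c2f80a0600e02783501e0b42d80304c01004824078030148250900041b8590a618c25851058064250050400200902f0160380f8420421402903a0c40d01902705406c158160221502183b0260a01e8560300782601401a1602081a0b40542485509c01c1880609a05c2b833
/-- order for `fa` -/
def faO : ℕ := 0x6c08c2f85b09a1642f06208a02c1c00e0020500401a06e0941a02609201c0181106a0c40483b09c1602a85c0320a0068510a41400a83f0300902d04a07218c240220000840284b0581802303303a07c1e81604010c1e0400ba14c1382f0520482b05703c030190130040700501002e0b40d84f08e0a80783e0561302082e00c010180420881501d061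

theorem fa_le : Nat.card (cenA [[3], [0, 4, 2, 4, 2, 4, 3, 4]]) ≤ 2 :=
  card_cenA_le (VS := faV) (bs := faBS) (T := faT) (R := faR) (O := faO) (by decide +kernel) (by decide +kernel)

/-- tables for `fz` -/
def fzV : List ℕ := [0x441441a8380821300a001088178200590460d8170000300f82984203e1482c05a0181201a04a02a05c088120b80782f80d0ba1382282f0c40b41980505402c1d049020094040540861543183b0560281883f0340841b81c0501840783c060140268040360180102c04e0641205709e16c1302907a11c0e8160ac01c2583906400c3000e08c02410013, 0x74160308220aa1002b81407a118130620500042f80000c14c1c8290a812c2c84e0941241203702c0d02d80305e0242380207e1682285c0a218c0b81307c02c3004807609c2802d0860c80f8520080781885d0820301084c0780d4268560601102f0120140340c00702a0b81983609e1080e011010064070250460740802a0340ac1c02c01e06c10005]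
/-- chain for `fz` -/
def fzBS : List (ℕ × ℕ × ℕ × ℕ) := [
  (64, 2, 0x1000000010000000360000001000000010000000100000001000000010000000100000001f40000010000000100000001000000010000000100000001000000010000000100000001000000010000000100000001f400000100000001f400000242d00001f4000001f4000001f40000013310000242d0000100000001f400000100000001f4000001000000010000000360000001f400000100000001000000010000000100000001000000010000000242d000010000000100000001f400000100000001331000010000000100000001000000010000000100000001000000016c80000242d00001000000010000000133100001000000013310000242d000010000000100000001000000010000000100000001f40000010000000242d000016c8000013310000133100001000000013310000133100001331000010000000100000001f4000001f4000001f4000001f4000001331000010000000133100001000000013310000242d00001f40000013310000133100001000000013310000242d000013310000100000001000, 0x1ba66000010000000133100001000)]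
/-- last table for `fz` -/
def fzT : ℕ := 0x46535f9149905f912dde7f9046535f9077145f9112935f9046535f9077145f9046535f908381539046535f905ca6bf2112935f9046535f905ca6bf2077145f9046535f905ca6bf2197e6bf20a897bf2046535f90525f639046535f90525f639086a062606f75c320525f6390525f639115f72ba1b1d662f046535f90525f639046535f915790139112935f90a95b5f905e837f90525f639046535f9046535f91eb93bf2046535f9046535f9046535f90556627605ca6bf205ca6bf20525f6390a897bf207a2d52a077145f9046535f9046535f9046535f9046535f9077145f91508cfc10556627605ca6bf2046535f919d12bb3046535f9115f72ba12396536046535f9077145f9046535f9197e6bf2046535f91202c239046535f90556627604c56601049541fa06157af3046535f907a2d52a049541fa0ad66e230a897bf2112935f90525f6390525f6391202c23906f75c3207a2d52a1f8535f9115f72ba046535f9049541fa0742e36f1202c239049541fa049541fa05ca6bf206157af3086a0626259bb3ec149905f91eb93bf2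
/-- ranks for `fz` -/
def fzR : ℕ := 0x8600c020370400141401d0a80641c05d00c0f02e01c06a1540982e0900d8190330361642083f01a0502903908a008078610480f42b8490201181a05007617c2984404607c1082708e12c160170001083002d02a0c00400b09a058188120520241783a04c1382d84c03013c1102501c0f82000c0b4078318070a20a82c00a0940ac2f05603418800811
/-- order for `fz` -/
def fzO : ℕ := 0x1a0082002906c0142c05503203c2500907a0102905b06a1140583802c0681181805c01c1e04f05e0e8218340c60a8248110900481f05606e070220590c0138298390981341082603a1401402d00c0280f85d06006c0a03f0660541885f0640382e05409600c2d017058088138460a20800003b08204c238100480200f02501815c2f0610c41080082b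

theorem fz_le : Nat.card (cenA [[3, 0, 2, 1, 3], [3, 3, 4, 2, 2, 4, 3, 3]]) ≤ 2 :=
  card_cenA_le (VS := fzV) (bs := fzBS) (T := fzT) (R := fzR) (O := fzO) (by decide +kernel) (by decide +kernel)

/-- tables for `fd` -/
def fdV : List ℕ := [0xbc1441a822088100298420821642c05a0900542e05f0a41742702f0001882602d0541282482303c060228540861540f86307c0ec0883107e0e0158370740a01a06106603c0083005c1402681c0200481602706c064128240ae030278040b60681302907a11c0e80802e0580a05600e12c0d83901a02c1906000c014050460040380480304004c1e021, 0xa1881103503c0b00582005c1442705802808c090130300742d04109e1642684c08c0d02404906412c0b01b0860ac2800d07e0f81483c0760e8130380420d83004a04811c1383005e16c1685e0840181e8280620e40a8330ac1841b85c03e17c2900208802802053018114128570a81540480e00e040200170ba0680880301e0a83181901007000800, 0xbc164250000881002985f0041442705a06c0542a0420a41742c02a0441880501905e0d42b82704c0f41285c086154088630520380f83101e090190610680581d03702e0fc0083007200c23020016018258230900b4228380920302780d08e0140f03e03016c038130660a00a03c03a0b00482e008040158600240682604d0820ec0d8500380202b021]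
/-- chain for `fd` -/
def fdBS : List (ℕ × ℕ × ℕ × ℕ) := [
  (35, 2, 0x400000005b2000004000000040000000400000004000000040000000400000004000000040000000400000005b20000040000000400000004000000040000000400000004000000040000000400000005b200000400000005b2000005b2000007d0000004630800046308000400000007d0000007d000000463080004000000122c68000400000004000000040000000a66000005b2000007d0000005b2000005b2000005b2000007d0000005b200000400000005b2000004000000040000000463080007d0000004000000122c68000a660000040000000a66000007d0000007d000000400000007d0000005b200000400000007d00000046308000463080004000000040000000400000007d000000a66000007d0000007d000000400000007d00000040000000400000007d000000463080004630800040000000400000007d0000007d000000400000004000000040000000400000007d000000400000007d00000040000000400000004000000040000000400000007d0000004000000040000000400000005b2000005b200, 0x83697000040000000463080004000000040000)]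
/-- last table for `fd` -/
def fdT : ℕ := 0x117f21c31d5481942ef2fc592ef2fc591a664c07117f21c302c53bbe37b3d3251bcce34f02c53bbe02c53bbe1d54819416cbd61f03b638c605fbc434304e789402c53bbe117f21c302c53bbe125730471944a1ee02c53bbe1d5481941d548194154f55c41ae7351801d9b40f02c53bbe04f15092154f55c4272d71bf2ef2fc5938fd523f2abde6ee2ef2fc5902c53bbe17f873391d54819404f150921d5481941d548194013fbdf52c7d19ac057387d6117f21c31d5481941bcce34f02c53bbe1ce5538e3843d36a02c53bbe24a24e8e0a11924c2abde6ee17f873392eda89fe32d425611a664c073843d36a1d54819402c53bbe2c7d19ac272d71bf2996dc12379df2ed1bcce34f365b0df604f150920ee5890a04f150922eda89fe1a664c070817337e37034a1f117f21c32c7d19ac1ae73518272d71bf02c53bbe02c53bbe32d425613843d36a37b3d3252ef2fc592ef2fc59117f21c32c7d19ac02c53bbe3843d36a2ef2fc591a664c0702c53bbe117f21c302c53bbe0ce63c322abde6ee05fbc43402c53bbe1d5481940866475c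
/-- ranks for `fd` -/
def fdR : ℕ := 0x401342b8130081601300203a1642e8440960640d00e0621582d81607417c068050001841b85404a02c2300300e0a0050360600a80882205a1400305a0281202e0290681041180109e03c2f01b0a21281c0490c405c1e8600c6108190080560602605205e0e40f85507814c0804506a0f81084e07e11c1204303c09c198150240700602e0760242002c
/-- order for `fd` -/
def fdO : ℕ := 0x4609c2502409c0b42c8350a20e02d05e0c21480c04802c0701583a05e0403101d0ae0a81403601c1140a0580180881900101e0481281700613c0d029092100098330120842983f0360101d80003e0f81a0420141742380d0620f00886303202c2d8060581542b01e04c140040370c001c1e81505c1502680508c104010200860e42605f0881701804b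

theorem fd_le : Nat.card (cenA [[3, 0, 2, 1], [2, 0, 3, 0, 4, 2, 4, 3], [3, 3, 0, 4, 2, 0, 3, 4, 1, 2, 2, 1]]) ≤ 2 :=
  card_cenA_le (VS := fdV) (bs := fdBS) (T := fdT) (R := fdR) (O := fdO) (by decide +kernel) (by decide +kernel)

/-- tables for `fx` -/
def fxV : List ℕ := [0xba1602b8560aa148318540a0138288620c21802f85c0801782c85b0781681d83e08e124250340960c8198420601101705305a1301c84f09a0a01e83604e0e01184808a1181084303e1041f81d0360681303a06e0a40b81606a0501881305e048160190560a80e00d04a09006022040078080110100240c01500a0180700f0060280580200e01000001, 0x441441a8380821300a001088178200590460d8170000300f82984203e1482c05a0181201a04a02a05c088120b80782f80d0ba1382282f0c40b41980505402c1d049020094040540861543183b0560281883f0340841b81c0501840783c060140268040360180102c04e0641205709e16c1302907a11c0e8160ac01c2583906400c3000e08c02410013, 0xc01443083a0a00ec2b03c0aa14c290590ae0a02d84f0581342f05f03e1002c05a02e1242503404a0300c81b0b80ac2101d0ba1381882f0c40b41080501e02c1c0480380540d0540861103184c03c00c2283f0100cc1201006c0d4150010601041f00902401c0701802c0441b8230000b8258470640a4068270280181304607a0281100207201010013]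
/-- chain for `fx` -/
def fxBS : List (ℕ × ℕ × ℕ × ℕ) := [
  (38, 4, 0x4000000040000000d8000000400000004000000040000000400000004000000040000000400000004000000040000000d800000040000000400000004000000040000000400000004000000040000000400000004000000040000000400000005033d00081bf100081bf100081bf10005033d0005033d000430c100040000000400000004000000040000000400000004000000040000000430c1000400000004000000040000000430c1000400000005033d000400000004000000081bf1000430c10005033d000430c100040000000400000004000000040000000400000005b2000005033d000430c1000400000005033d000430c10005033d0005033d0004000000040000000430c1000400000004000000040000000400000005033d0005b2000005033d0005033d000d80000005033d0005033d0005033d000400000004000000040000000430c1000430c1000430c10005033d000d80000005033d0004000000095eed0005033d000430c10005033d00095eed0004000000095eed0005033d00095eed0004000000040000, 0x724f52000430c1000430c1000430c1000430c1)]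
/-- last table for `fx` -/
def fxT : ℕ := 0x37034a1f02c53bbe047f7d4a02c53bbe02c53bbe05fbc43402c53bbe02c53bbe02c53bbe1a664c071a664c0702c53bbe297b0a7502c53bbe02c53bbe02c53bbe117f21c329315c2d2ef2fc5902c53bbe02c53bbe2ef2fc5937b3d32537b3d325239d2f682cc1cc942d83aa8b02d3cdcb02f2d3fa046cd41f0b7f2f182ef2fc5937034a1f1a664c0702c53bbe37b3d3251a664c07117f21c30b7f2f1802c53bbe117f21c32ef2fc5932c5fbbf02c53bbe046cd41f02c53bbe02c53bbe23b8cbe80d0be8163217e624242d8ee702c53bbe2ef2fc5902c53bbe39f70db02ef2fc59013fbdf5239d2f6819c169b21a664c073217e62419c0959420e1c387239d2f6837034a1f1a664c0727eef28802c53bbe1a664c0737b3d3251a664c07046cd41f1944a1ee02f2d3fa3217e62433a8010f327b977a02f2d3fa3217e6242ef2fc5937034a1f117f21c31744ed2e23b9231332c5fbbf3217e62433a8010f046cd41f02c53bbe3a637f7b046cd41f0c1523bd02f2d3fa1851b36b02c53bbe32dbb0cf239d2f680cea34a41a664c072ef2fc59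
/-- ranks for `fx` -/
def fxR : ℕ := 0x4c1780d81e0920502004b0be0340e0530020741c047010010218580a00902703d0940880c00307e1181082f02c0d42e8420040301b8440500c83105608a0b80f8300b40e41283e0541480001700c1441602d0741841d86006c104318540461640903100e01407857090028048110b604c0d04c0520800a84d0aa09c0c82b0160401980e0780d02e04f
/-- order for `fx` -/
def fxO : ℕ := 0x420e4130240b6188208010260cc0f0500300e0058200b00b81504f000134060100b812c2f8170a81181b83c0a21001105d08e0c02600304a09c1905507a08c2100200a0e80e0340880d8140290100bc0783b01418c1884e03e1282280e06a1802b0590c20440484905810c0685e0240740a0060320102d03e00e0580a8530360ac0d0520900fc2b82d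

theorem fx_le : Nat.card (cenA [[0], [3, 0, 2, 1, 3], [3, 4, 2, 4, 3]]) ≤ 4 :=
  card_cenA_le (VS := fxV) (bs := fxBS) (T := fxT) (R := fxR) (O := fxO) (by decide +kernel) (by decide +kernel)

/-- words in `K` which commute with a word -/
def cw (v : List ℕ) (ws : List (List ℕ)) : Bool :=
  ws.all (fun w => band (okw w) (band (Nat.beq (cond (par w) 1 0) 0) (eqw (w ++ v) (v ++ w))))

theorem cw_spec {v : List ℕ} {ws : List (List ℕ)} (h : cw v ws = true) :
    ∀ w ∈ ws, hw w ∈ K ∧ hw w * hw v = hw v * hw w := by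
  intro w hw'
  have h' := List.all_eq_true.1 h w hw'
  rw [band_eq_true, band_eq_true] at h'
  obtain ⟨h1, h2, h3⟩ := h'
  refine ⟨mem_K_of_par h1 ?_, ?_⟩
  · cases hp : par w with
    | false => rfl
    | true => rw [hp] at h2; exact absurd h2 (by decide)
  · rw [← hw_append, ← hw_append]
    exact hw_eq h3

/-- elements commuting with the centraliser in `K` -/
def CK (v : H0) : Subgroup H0 := Subgroup.centralizer {k | k ∈ K ∧ k * v = v * k}

theorem mem_CK {v g : H0} : g ∈ CK v ↔ ∀ k ∈ K, k * v = v * k → g * k = k * g := by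
  unfold CK
  rw [Subgroup.mem_centralizer_iff]
  constructor
  · intro h k hk hkv
    exact (h k ⟨hk, hkv⟩).symm
  · rintro h k ⟨hk, hkv⟩
    exact (h k hk hkv).symm

theorem self_mem_CK (v : H0) : v ∈ CK v := mem_CK.2 fun _ _ h => h.symm

theorem CK_le {v : List ℕ} {ws : List (List ℕ)} (h : cw v ws = true) :
    CK (hw v) ≤ Subgroup.centralizer (wset ws) := by
  unfold CK
  refine Subgroup.centralizer_le ?_
  rintro _ ⟨w, hw', rfl⟩
  exact cw_spec h w hw'

theorem cases_of_card {v : H0} (hv : v ≠ 1) (hτ : v ≠ τ) (h : Nat.card (CK v) ≤ 4) {g : H0} (hg : g ∈ CK v) :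
    g = 1 ∨ g = τ ∨ g = v ∨ g = v * τ := by
  have hτm : τ ∈ CK v := τ_mem_centralizer _
  have hvm := self_mem_CK v
  have hn : ([1, τ, v, v * τ] : List H0).Nodup := by
    have e1 : (1 : H0) ≠ τ := τ_ne_one.symm
    have e2 : (1 : H0) ≠ v := hv.symm
    have e3 : (1 : H0) ≠ v * τ := fun h => hτ (by
      rw [← τ_inv]; exact eq_inv_of_mul_eq_one_left h.symm)
    have e4 : τ ≠ v := hτ.symm
    have e5 : τ ≠ v * τ := fun h => hv (mul_eq_right.1 h.symm)
    have e6 : v ≠ v * τ := fun h => τ_ne_one (mul_eq_left.1 h.symm)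
    simp only [List.nodup_cons, List.mem_cons, List.not_mem_nil, or_false, not_or, List.nodup_nil, and_true,
      not_false_eq_true]
    exact ⟨⟨e1, e2, e3⟩, ⟨e4, e5⟩, e6⟩
  have hL : ∀ g ∈ ([1, τ, v, v * τ] : List H0), g ∈ CK v := by
    intro g hg
    rcases List.mem_cons.1 hg with rfl | hg
    · exact Subgroup.one_mem _
    rcases List.mem_cons.1 hg with rfl | hg
    · exact hτm
    rcases List.mem_cons.1 hg with rfl | hg
    · exact hvm
    rw [List.mem_singleton] at hg
    rw [hg]
    exact Subgroup.mul_mem _ hvm hτm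
  have h' := mem_of_card_le hn hL (by simpa using h) hg
  simpa only [List.mem_cons, List.not_mem_nil, or_false] using h'

theorem card_CK_a : Nat.card (CK a) ≤ 4 := by
  have h := (card_le_of_le (CK_le (v := [2, 2, 2]) (ws := [[3], [0, 4, 2, 4, 2, 4, 3, 4]])
    (by decide +kernel))).trans (card_centralizer_le fa_le)
  rwa [hw_a] at h

theorem card_CK_z : Nat.card (CK gz) ≤ 4 := by
  have h := (card_le_of_le (CK_le (v := [4]) (ws := [[3, 0, 2, 1, 3], [3, 3, 4, 2, 2, 4, 3, 3]])
    (by decide +kernel))).trans (card_centralizer_le fz_le)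
  rwa [hw_z] at h

theorem card_CK_d : Nat.card (CK d) ≤ 4 :=
  (card_le_of_le (CK_le (v := [1, 3, 1, 2, 1, 4, 3, 4, 2, 4]) (ws := [[3, 0, 2, 1], [2, 0, 3, 0, 4, 2, 4, 3],
    [3, 3, 0, 4, 2, 0, 3, 4, 1, 2, 2, 1]]) (by decide +kernel))).trans (card_centralizer_le fd_le)

theorem card_CK_x : Nat.card (CK gx) ≤ 4 := by
  have h := (card_le_of_le (CK_le (v := [0]) (ws := [[0], [3, 0, 2, 1, 3], [3, 4, 2, 4, 3]])
    (by decide +kernel))).trans (card_centralizer_le_of_sign fx_le (x := gz) (w := [0]) ?_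
      List.mem_cons_self ?_)
  · rwa [hw_x] at h
  · refine ⟨range_le ⟨gz, rfl⟩, ?_⟩
    change φ gz ∈ Subgroup.centralizer (φ '' wset [[0], [3, 0, 2, 1, 3], [3, 4, 2, 4, 3]])
    rw [Subgroup.mem_centralizer_iff]
    rintro _ ⟨_, ⟨w, hw', rfl⟩, rfl⟩
    rw [← hw_z, ← map_mul, ← map_mul, ← hw_append, ← hw_append]
    have key : ∀ w ∈ [[0], [3, 0, 2, 1, 3], [3, 4, 2, 4, 3]],
        (eqw (w ++ [4]) ([4] ++ w) || eqw (w ++ [4]) ([4] ++ w ++ [0, 0])) = true := by decide +kernel
    rcases Bool.or_eq_true_iff.1 (key w hw') with h | h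
    · rw [hw_eq h]
    · rw [hw_eq h, hw_append _ [0, 0], hw_τ, map_mul, φ_τ, mul_one]
  · intro h
    rw [← hw_z, ← hw_append, ← hw_append] at h
    exact absurd (eqw_of_hw_eq rfl rfl h) (by decide +kernel)

theorem ne_one_of_isConj {v w : H0} (h : IsConj v w) (hv : v ≠ 1) : w ≠ 1 := by
  rintro rfl
  exact hv (isConj_one_right.1 h.symm)

/-- conjugation -/
theorem card_CK_conj {v w : H0} (h : IsConj v w) : Nat.card (CK w) = Nat.card (CK v) := by
  obtain ⟨c, rfl⟩ := isConj_iff.1 h
  have hK : ∀ k, k ∈ K → c⁻¹ * k * c ∈ K := fun k hk => by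
    have := (inferInstance : (K : Subgroup H0).Normal).conj_mem k hk c⁻¹
    rwa [inv_inv] at this
  have hK' : ∀ k, k ∈ K → c * k * c⁻¹ ∈ K := fun k hk =>
    (inferInstance : (K : Subgroup H0).Normal).conj_mem k hk c
  refine Nat.card_congr ⟨fun g => ⟨c⁻¹ * g * c, ?_⟩, fun g => ⟨c * g * c⁻¹, ?_⟩, ?_, ?_⟩
  · rw [mem_CK]
    intro k hk hkv
    have h1 := mem_CK.1 g.2 (c * k * c⁻¹) (hK' k hk) (by
      calc c * k * c⁻¹ * (c * v * c⁻¹) = c * (k * v) * c⁻¹ := by group
        _ = c * (v * k) * c⁻¹ := by rw [hkv]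
        _ = c * v * c⁻¹ * (c * k * c⁻¹) := by group)
    calc c⁻¹ * (g : H0) * c * k = c⁻¹ * ((g : H0) * (c * k * c⁻¹)) * c := by group
      _ = c⁻¹ * (c * k * c⁻¹ * (g : H0)) * c := by rw [h1]
      _ = k * (c⁻¹ * (g : H0) * c) := by group
  · rw [mem_CK]
    intro k hk hkv
    have h1 := mem_CK.1 g.2 (c⁻¹ * k * c) (hK k hk) (by
      calc c⁻¹ * k * c * v = c⁻¹ * (k * (c * v * c⁻¹)) * c := by group
        _ = c⁻¹ * (c * v * c⁻¹ * k) * c := by rw [hkv]
        _ = v * (c⁻¹ * k * c) := by group)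
    calc c * (g : H0) * c⁻¹ * k = c * ((g : H0) * (c⁻¹ * k * c)) * c⁻¹ := by group
      _ = c * (c⁻¹ * k * c * (g : H0)) * c⁻¹ := by rw [h1]
      _ = k * (c * (g : H0) * c⁻¹) := by group
  · intro g
    apply Subtype.ext
    change c * (c⁻¹ * (g : H0) * c) * c⁻¹ = g
    group
  · intro g
    apply Subtype.ext
    change c⁻¹ * (c * (g : H0) * c⁻¹) * c = g
    group

theorem CK_mul_τ (v : H0) : CK (v * τ) = CK v := by
  ext g
  rw [mem_CK, mem_CK]
  have key : ∀ k : H0, k * (v * τ) = v * τ * k ↔ k * v = v * k := by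
    intro k
    rw [← mul_assoc, mul_assoc v τ k, ← τ_comm k, ← mul_assoc]
    exact mul_left_inj τ
  simp only [key]

/-- **(F1)** An element of `H0` commuting with the centraliser in `K` of `h`, where `h² ∈ ⟨τ⟩`, `h ∉ ⟨τ⟩`. -/
theorem cent_cent {h g : H0} (hh : h ^ 2 = 1 ∨ h ^ 2 = τ) (h1 : h ≠ 1) (hτ : h ≠ τ)
    (hg : ∀ k ∈ K, k * h = h * k → g * k = k * g) : g = 1 ∨ g = τ ∨ g = h ∨ g = h * τ := by
  refine cases_of_card h1 hτ ?_ (mem_CK.2 hg)
  rcases sq_cases hh with h2 | h2 | h2 | h2 | h2 | h2 | h2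
  · exact absurd h2 h1
  · exact absurd h2 hτ
  · rw [card_CK_conj h2]; exact card_CK_a
  · rw [card_CK_conj h2, CK_mul_τ]; exact card_CK_a
  · rw [card_CK_conj h2]; exact card_CK_x
  · rw [card_CK_conj h2]; exact card_CK_z
  · rw [card_CK_conj h2]; exact card_CK_d

end Cfsg.Agent.HN.FactF1
end

-- part: HN/FactFA
section
set_option autoImplicit false

/-!
`H0 = 2.HS.2`: the cyclic normal subgroup `⟨u0⟩` of order 4 of `C(a)`, and a characterisation of its generators
among the square roots of `a` and `a τ` (for S1752).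
-/

namespace Cfsg.Agent.HN.FactFA

open Cfsg.Agent.HN.Pres Cfsg.Agent.HN.HS100 Cfsg.Agent.HN.P1408 Cfsg.Agent.HN.H0Basic Cfsg.Agent.HN.PC
open Cfsg.Agent.HN.Syl Cfsg.Agent.HN.Classes Cfsg.Agent.HN.CentUp Cfsg.Agent.HN.ForallS
open Cfsg.Agent.SporadicA.PermTab
open Equiv
open scoped commutatorElement

/-! ### `C(a)` -/

/-- A 2-element of a subgroup containing `S` is conjugate into `S` in this subgroup. -/
theorem exists_conj_in {C : Subgroup H0} (hS : S ≤ C) {g : H0} (hgC : g ∈ C) {n : ℕ} (hg : g ^ 2 ^ n = 1) :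
    ∃ c ∈ C, c⁻¹ * g * c ∈ S := by
  have : Fact (Nat.Prime 2) := ⟨Nat.prime_two⟩
  have h1 : IsPGroup 2 (Subgroup.zpowers (⟨g, hgC⟩ : C)) := by
    apply IsPGroup.of_card (n := (Nat.log 2 (orderOf (⟨g, hgC⟩ : C))))
    rw [Nat.card_zpowers]
    have hg' : (⟨g, hgC⟩ : C) ^ 2 ^ n = 1 := Subtype.ext hg
    obtain ⟨k, hk, hk'⟩ := (Nat.dvd_prime_pow Nat.prime_two).1 (orderOf_dvd_of_pow_eq_one hg')
    rw [hk', Nat.log_pow (by norm_num)]
  obtain ⟨Q, hQ⟩ := h1.exists_le_sylow
  obtain ⟨c, hc⟩ := MulAction.exists_smul_eq C (syl.subtype hS) Q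
  refine ⟨c, c.2, ?_⟩
  have h2 : (⟨g, hgC⟩ : C) ∈ ((c • (syl.subtype hS) : Sylow 2 C) : Subgroup C) := by
    rw [hc]
    exact hQ (Subgroup.mem_zpowers _)
  have h3 := mem_conj_syl h2
  have h4 : c⁻¹ * (⟨g, hgC⟩ : C) * c ∈ S.subgroupOf C := h3
  rw [Subgroup.mem_subgroupOf] at h4
  exact h4

theorem eq_centralizer_a {N : Subgroup H0} (hN : N ≤ Subgroup.centralizer {a}) (hS : S ≤ N) (hy : gy ^ 2 ∈ N)
    (h5 : f5 ∈ N) : N = Subgroup.centralizer {a} := by
  apply Subgroup.eq_of_le_of_card_ge hN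
  rw [card_centralizer_a]
  have h11 : 2 ^ 11 ∣ Nat.card N := by
    rw [← card_S]
    exact Subgroup.card_dvd_of_le hS
  have h3 : 3 ∣ Nat.card N := by
    refine prime_dvd_card hy Nat.prime_three ?_ ?_
    · rw [← pow_mul]
      exact rels_H0.r1
    · rw [pow_two, ← hw_y, ← hw_append, ← hw_nil]
      exact hw_ne rfl rfl (p := 3) (by norm_num) (by decide +kernel)
  have h5' : 5 ∣ Nat.card N := by
    refine prime_dvd_card h5 Nat.prime_five ?_ ?_
    · simp only [pow_succ, pow_zero, one_mul]
      rw [f5, ← hw_append, ← hw_append, ← hw_append, ← hw_append, ← hw_nil]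
      exact hw_eq (by decide +kernel)
    · rw [f5, ← hw_nil]
      exact hw_ne rfl rfl (p := 0) (by norm_num) (by decide +kernel)
  have h15 : 2 ^ 11 * (3 * 5) ∣ Nat.card N :=
    Nat.Coprime.mul_dvd_of_dvd_of_dvd (by norm_num) h11 (Nat.Coprime.mul_dvd_of_dvd_of_dvd (by norm_num) h3 h5')
  exact Nat.le_of_dvd Nat.card_pos h15

/-! ### `u0` -/

/-- the word of `u0` -/
def wu0 : List ℕ := sw 2 ++ (sw 3 ++ sw 5)

/-- square root of `a τ`; `⟨u0⟩` is normal in `C(a)` modulo `τ`. -/
def u0 : H0 := hw wu0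

theorem u0_eq : u0 = s 2 * (s 3 * s 5) := by rw [u0, wu0, hw_append, hw_append]; rfl

theorem u0_mem : u0 ∈ S := by
  rw [u0_eq]
  exact S.mul_mem (s_mem_S (by norm_num)) (S.mul_mem (s_mem_S (by norm_num)) (s_mem_S (by norm_num)))

theorem u0_mem_K : u0 ∈ K := mem_K_of_par rfl rfl

theorem u0_sq : u0 ^ 2 = a * τ := by
  rw [pow_two, u0, ← hw_append, ← hw_a, ← hw_τ, ← hw_append]
  exact hw_eq (by decide +kernel)

theorem u0_comm_a : u0 * a = a * u0 := a_comm u0_mem

/-- the set `{u0, u0⁻¹, u0 τ, u0⁻¹ τ}` -/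
def XU (v : H0) : Prop := v = u0 ∨ v = u0⁻¹ ∨ v = u0 * τ ∨ v = u0⁻¹ * τ

theorem XU.inv {v : H0} (h : XU v) : XU v⁻¹ := by
  rcases h with rfl | rfl | rfl | rfl
  · exact Or.inr (Or.inl rfl)
  · exact Or.inl (inv_inv _)
  · right; right; right
    rw [mul_inv_rev, τ_inv, τ_comm]
  · right; right; left
    rw [mul_inv_rev, τ_inv, inv_inv, τ_comm]

theorem XU.mul_τ {v : H0} (h : XU v) : XU (v * τ) := by
  rcases h with rfl | rfl | rfl | rfl
  · exact Or.inr (Or.inr (Or.inl rfl))
  · exact Or.inr (Or.inr (Or.inr rfl))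
  · left; rw [mul_assoc, τ_mul_τ, mul_one]
  · right; left; rw [mul_assoc, τ_mul_τ, mul_one]

theorem XU.conj {g v : H0} (hg : XU (g * u0 * g⁻¹)) (h : XU v) : XU (g * v * g⁻¹) := by
  rcases h with rfl | rfl | rfl | rfl
  · exact hg
  · have : g * u0⁻¹ * g⁻¹ = (g * u0 * g⁻¹)⁻¹ := by group
    rw [this]; exact hg.inv
  · have : g * (u0 * τ) * g⁻¹ = g * u0 * g⁻¹ * τ := by
      rw [← mul_assoc, mul_assoc (g * u0) τ, ← τ_comm g⁻¹, ← mul_assoc]
    rw [this]; exact hg.mul_τ
  · have : g * (u0⁻¹ * τ) * g⁻¹ = (g * u0 * g⁻¹)⁻¹ * τ := by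
      rw [← mul_assoc, mul_assoc (g * u0⁻¹) τ, ← τ_comm g⁻¹]; group
    rw [this]; exact hg.inv.mul_τ

/-- the elements of `C(a)` which normalise `XU` -/
def NU : Subgroup H0 where
  carrier := {g | g ∈ Subgroup.centralizer {a} ∧ XU (g * u0 * g⁻¹) ∧ XU (g⁻¹ * u0 * g)}
  mul_mem' := by
    rintro g h ⟨g1, g2, g3⟩ ⟨h1, h2, h3⟩
    refine ⟨Subgroup.mul_mem _ g1 h1, ?_, ?_⟩
    · have : g * h * u0 * (g * h)⁻¹ = g * (h * u0 * h⁻¹) * g⁻¹ := by group
      rw [this]; exact g2.conj h2
    · have : (g * h)⁻¹ * u0 * (g * h) = h⁻¹ * (g⁻¹ * u0 * g) * h⁻¹⁻¹ := by group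
      rw [this]
      exact XU.conj (by rwa [inv_inv]) g3
  one_mem' := ⟨Subgroup.one_mem _, Or.inl (by group), Or.inl (by group)⟩
  inv_mem' := by
    rintro g ⟨g1, g2, g3⟩
    exact ⟨Subgroup.inv_mem _ g1, by rwa [inv_inv], by rwa [inv_inv]⟩

/-- word test for `XU` -/
def xuB (w : List ℕ) : Bool :=
  eqw w wu0 || eqw w (iw wu0) || eqw w (wu0 ++ [0, 0]) || eqw w (iw wu0 ++ [0, 0])

theorem xu_of_xuB {w : List ℕ} (h : xuB w = true) : XU (hw w) := by
  unfold xuB at h
  rw [Bool.or_eq_true, Bool.or_eq_true, Bool.or_eq_true] at h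
  rcases h with ((h | h) | h) | h
  · exact Or.inl (hw_eq h)
  · right; left; rw [hw_eq h, hw_iw]; rfl
  · right; right; left; rw [hw_eq h, hw_append, hw_τ]; rfl
  · right; right; right; rw [hw_eq h, hw_append, hw_τ, hw_iw]; rfl

theorem mem_NU {w : List ℕ} (h1 : eqw (w ++ [2, 2, 2]) ([2, 2, 2] ++ w) = true)
    (h2 : xuB (w ++ (wu0 ++ iw w)) = true) (h3 : xuB (iw w ++ (wu0 ++ w)) = true) : hw w ∈ NU := by
  refine ⟨centralizer_singleton_mem.2 ?_, ?_, ?_⟩
  · have h := hw_eq h1
    rw [hw_append, hw_append] at h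
    exact h
  · have h := xu_of_xuB h2
    rw [hw_append, hw_append, hw_iw, ← mul_assoc] at h
    exact h
  · have h := xu_of_xuB h3
    rw [hw_append, hw_append, hw_iw, ← mul_assoc] at h
    exact h

theorem NU_eq : NU = Subgroup.centralizer {a} := by
  apply eq_centralizer_a
  · intro g hg; exact hg.1
  · have key : ∀ i < 11, eqw (sw i ++ [2, 2, 2]) ([2, 2, 2] ++ sw i) = true ∧ xuB (sw i ++ (wu0 ++ iw (sw i))) = true ∧
        xuB (iw (sw i) ++ (wu0 ++ sw i)) = true := by decide +kernel
    change Pc s 11 ≤ NU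
    rw [Pc, Subgroup.closure_le]
    rintro _ ⟨i, hi, rfl⟩
    obtain ⟨h1, h2, h3⟩ := key i hi
    exact mem_NU h1 h2 h3
  · have : gy ^ 2 = hw [2, 2] := by rw [pow_two, ← hw_y, ← hw_append]; rfl
    rw [this]
    exact mem_NU (by decide +kernel) (by decide +kernel) (by decide +kernel)
  · exact mem_NU (by decide +kernel) (by decide +kernel) (by decide +kernel)

/-- **`{u0^±, u0^± τ}` is normalised by `C(a)`.** -/
theorem XU_conj {g : H0} (hg : g * a = a * g) {v : H0} (hv : XU v) : XU (g * v * g⁻¹) := by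
  have h1 : g ∈ NU := by rw [NU_eq]; exact centralizer_singleton_mem.2 hg
  exact XU.conj h1.2.1 hv

/-! ### (FA) -/

/-- test elements of `C_K(a)` -/
def CL : List (List ℕ) := [[0, 4, 2, 2, 2, 4, 3, 3, 0, 2, 2, 2, 1, 2, 2, 1], [0, 4, 2, 2, 2, 4, 1],
  [4, 2, 4, 2, 2, 0, 2, 0, 2, 2, 4, 3, 1, 3, 3, 4], [3, 0, 4, 2, 4, 2, 4, 3, 4]]

/-- word of the commutator -/
def comw (v c : List ℕ) : List ℕ := v ++ (c ++ (iw v ++ iw c))

theorem hw_comw (v c : List ℕ) : hw (comw v c) = ⁅hw v, hw c⁆ := by
  rw [comw, hw_append, hw_append, hw_append, hw_iw, hw_iw, commutatorElement_def, mul_assoc, mul_assoc]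

/-- word in `⟨τ⟩` -/
def inT (w : List ℕ) : Bool := eqw w [] || eqw w [0, 0]

/-- word not in `⟨τ, a⟩` -/
def notV (w : List ℕ) : Bool :=
  !(eqw w [] || eqw w [0, 0] || eqw w [2, 2, 2] || eqw w [2, 2, 2, 0, 0])

/-- predicate for (FA) -/
def qA (w : List ℕ) : Bool :=
  band (okw w) (!(eqw (w ++ w) [2, 2, 2] || eqw (w ++ w) [2, 2, 2, 0, 0]) || (xuB w ||
    CL.any (fun c => band (inT (comw w c ++ comw w c)) (notV (comw w c)))))

theorem allS_qA : allS qA 10 [] = true := by decide +kernel

theorem CL_ok : ∀ c ∈ CL, okw c = true ∧ par c = false ∧ eqw (c ++ [2, 2, 2]) ([2, 2, 2] ++ c) = true := by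
  decide +kernel

/-- the hypothesis of (FA) -/
def HA (v : H0) : Prop := ∀ c ∈ K, c * a = a * c → (⁅v, c⁆ ^ 2 = 1 ∨ ⁅v, c⁆ ^ 2 = τ) →
  (⁅v, c⁆ = 1 ∨ ⁅v, c⁆ = τ ∨ ⁅v, c⁆ = a ∨ ⁅v, c⁆ = a * τ)

theorem FA_S {v : H0} (hv : v ∈ S) (hv2 : v ^ 2 = a ∨ v ^ 2 = a * τ) (H : HA v) : XU v := by
  obtain ⟨w, hQ, hw'⟩ := forall_S allS_qA hv
  have hQ' : band (okw w) (!(eqw (w ++ w) [2, 2, 2] || eqw (w ++ w) [2, 2, 2, 0, 0]) || (xuB w ||
    CL.any (fun c => band (inT (comw w c ++ comw w c)) (notV (comw w c))))) = true := hQ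
  rw [band_eq_true] at hQ'
  obtain ⟨hok, hQ'⟩ := hQ'
  have hsq : v ^ 2 = hw w ^ 2 := by
    rcases hw' with h | h
    · rw [h]
    · rw [h]; exact mul_τ_pow_even (hw w) 1
  have hcomm : ∀ c : H0, ⁅v, c⁆ = ⁅hw w, c⁆ := by
    intro c
    rcases hw' with h | h
    · rw [h]
    · rw [h, commutatorElement_def, commutatorElement_def, mul_inv_rev, τ_inv]
      have : τ * hw w * c * ((hw w)⁻¹ * τ) * c⁻¹ = τ * (hw w * c * (hw w)⁻¹) * (τ * c⁻¹) := by group
      rw [this, ← τ_comm c⁻¹, ← τ_comm (hw w * c * (hw w)⁻¹), mul_assoc _ τ, ← mul_assoc τ c⁻¹ τ, ← τ_comm c⁻¹,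
        mul_assoc c⁻¹, τ_mul_τ, mul_one]
  rcases Bool.or_eq_true_iff.1 hQ' with h | h
  · exfalso
    rw [Bool.not_eq_true', Bool.or_eq_false_iff] at h
    have h2 : okw (w ++ w) = true := okw_append hok hok
    rcases hv2 with h1 | h1
    · rw [hsq, pow_two, ← hw_append, ← hw_a] at h1
      rw [eqw_of_hw_eq h2 rfl h1] at h
      exact absurd h.1 (by decide)
    · rw [hsq, pow_two, ← hw_append, ← hw_a, ← hw_τ, ← hw_append] at h1
      rw [show ([2, 2, 2, 0, 0] : List ℕ) = [2, 2, 2] ++ [0, 0] from rfl, eqw_of_hw_eq h2 rfl h1] at h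
      exact absurd h.2 (by decide)
  rcases Bool.or_eq_true_iff.1 h with h | h
  · have h1 := xu_of_xuB h
    rcases hw' with h2 | h2
    · rwa [h2]
    · rw [h2, ← τ_comm]; exact h1.mul_τ
  · exfalso
    rw [List.any_eq_true] at h
    obtain ⟨c, hc, h1⟩ := h
    rw [band_eq_true] at h1
    obtain ⟨h1, h2⟩ := h1
    obtain ⟨c1, c2, c3⟩ := CL_ok c hc
    have hca := hw_eq c3
    rw [hw_append, hw_append, hw_a] at hca
    have h3 := H (hw c) (mem_K_of_par c1 c2) hca (by
      rw [hcomm, pow_two, ← hw_comw, ← hw_append]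
      unfold inT at h1
      rcases Bool.or_eq_true_iff.1 h1 with h4 | h4
      · left; rw [hw_eq h4, hw_nil]
      · right; rw [hw_eq h4, hw_τ])
    rw [hcomm, ← hw_comw] at h3
    unfold notV at h2
    rw [Bool.not_eq_true', Bool.or_eq_false_iff, Bool.or_eq_false_iff, Bool.or_eq_false_iff] at h2
    have hok' : okw (comw w c) = true := okw_append hok (okw_append c1 (okw_append (okw_iw hok) (okw_iw c1)))
    obtain ⟨⟨⟨e1, e2⟩, e3⟩, e4⟩ := h2
    rcases h3 with h4 | h4 | h4 | h4
    · rw [← hw_nil] at h4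
      rw [eqw_of_hw_eq hok' rfl h4] at e1; exact absurd e1 (by decide)
    · rw [← hw_τ] at h4
      rw [eqw_of_hw_eq hok' rfl h4] at e2; exact absurd e2 (by decide)
    · rw [← hw_a] at h4
      rw [eqw_of_hw_eq hok' rfl h4] at e3; exact absurd e3 (by decide)
    · rw [← hw_a, ← hw_τ, ← hw_append] at h4
      rw [show ([2, 2, 2, 0, 0] : List ℕ) = [2, 2, 2] ++ [0, 0] from rfl, eqw_of_hw_eq hok' rfl h4] at e4
      exact absurd e4 (by decide)

theorem conj_comm (g v c : H0) : g⁻¹ * ⁅v, g * c * g⁻¹⁆ * g = ⁅g⁻¹ * v * g, c⁆ := by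
  rw [commutatorElement_def, commutatorElement_def]; group

/-- **(FA)** -/
theorem FA {v : H0} (hv2 : v ^ 2 = a ∨ v ^ 2 = a * τ) (H : HA v) :
    v = u0 ∨ v = u0⁻¹ ∨ v = u0 * τ ∨ v = u0⁻¹ * τ := by
  have hva : v * a = a * v := by
    rcases hv2 with h | h
    · rw [← h]; rw [← pow_succ, ← pow_succ']
    · have h1 : v * (a * τ) = a * τ * v := by rw [← h, ← pow_succ, ← pow_succ']
      rw [mul_assoc a τ v, ← τ_comm v, ← mul_assoc, ← mul_assoc] at h1
      exact mul_right_cancel h1
  have h8 : v ^ 2 ^ 2 = 1 := by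
    have : v ^ 2 ^ 2 = (v ^ 2) ^ 2 := by rw [← pow_mul]; norm_num
    rw [this]
    rcases hv2 with h | h
    · rw [h, a_sq']
    · rw [h, aτ_sq]
  obtain ⟨g, hg, hgS⟩ := exists_conj_in S_le_centralizer_a (centralizer_singleton_mem.2 hva) h8
  have hga : g * a = a * g := centralizer_singleton_mem.1 hg
  have hga' : g⁻¹ * a * g = a := by rw [mul_assoc, ← hga, inv_mul_cancel_left]
  have h1 : XU (g⁻¹ * v * g) := by
    apply FA_S hgS
    · have h2 : (g⁻¹ * v * g) ^ 2 = g⁻¹ * v ^ 2 * g := by rw [pow_two, pow_two]; group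
      rw [h2]
      rcases hv2 with h | h
      · left; rw [h, hga']
      · right
        rw [h, ← mul_assoc, mul_assoc, ← τ_comm g, ← mul_assoc, hga']
    · intro c hc hca h2
      have hcK : g * c * g⁻¹ ∈ K := (inferInstance : (K : Subgroup H0).Normal).conj_mem c hc g
      have hca' : g * c * g⁻¹ * a = a * (g * c * g⁻¹) := by
        have h3 : g⁻¹ * a = a * g⁻¹ := by
          rw [eq_mul_inv_iff_mul_eq, hga']
        calc g * c * g⁻¹ * a = g * c * (g⁻¹ * a) := by group
          _ = g * (c * a) * g⁻¹ := by rw [h3]; group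
          _ = (g * a) * c * g⁻¹ := by rw [hca]; group
          _ = a * (g * c * g⁻¹) := by rw [hga]; group
      rw [← conj_comm] at h2 ⊢
      have h4 : ∀ e : H0, (g⁻¹ * e * g) ^ 2 = g⁻¹ * e ^ 2 * g := by
        intro e; rw [pow_two, pow_two]; group
      have h5 : ∀ e f : H0, g⁻¹ * e * g = f ↔ e = g * f * g⁻¹ := by
        intro e f
        constructor
        · rintro rfl; group
        · rintro rfl; group
      have hτg : g * τ * g⁻¹ = τ := by rw [τ_comm, mul_assoc, mul_inv_cancel, mul_one]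
      have hag : g * a * g⁻¹ = a := by rw [hga, mul_assoc, mul_inv_cancel, mul_one]
      have h1g : g * 1 * g⁻¹ = 1 := by group
      have haτg : g * (a * τ) * g⁻¹ = a * τ := by
        have : g * (a * τ) * g⁻¹ = (g * a * g⁻¹) * (g * τ * g⁻¹) := by group
        rw [this, hτg, hag]
      rw [h4, h5, h5, hτg, h1g] at h2
      rw [h5, h5, h5, h5, hτg, h1g, hag, haτg]
      exact H _ hcK hca' h2
  have h2 := XU_conj hga h1
  have h3 : g * (g⁻¹ * v * g) * g⁻¹ = v := by group
  rwa [h3] at h2

end Cfsg.Agent.HN.FactFA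
end

-- part: HN/FactF4
section
set_option autoImplicit false

/-!
`H0 = 2.HS.2`: elements centralised modulo `τ` by `S ∩ K`; parity of indices; the order of `C(d)` (for S1752).
-/

namespace Cfsg.Agent.HN.FactF4

open Cfsg.Agent.HN.Pres Cfsg.Agent.HN.HS100 Cfsg.Agent.HN.P1408 Cfsg.Agent.HN.H0Basic Cfsg.Agent.HN.PC
open Cfsg.Agent.HN.Syl Cfsg.Agent.HN.Classes Cfsg.Agent.HN.CentUp Cfsg.Agent.HN.ForallS Cfsg.Agent.HN.FactF1
open Cfsg.Agent.HN.FactFA
open Cfsg.Agent.SporadicA.PermTab
open Equiv

/-- tables for `fs` -/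
def fsV : List ℕ := [0x981883082206215c2e8180780d02c8350bc00c2a83906403c0002909e084240630921282584d03c1180d01f0860201581b03a0981185b0760dc2a0170740502c05a06614c2f80605e0700882c0820482800a0400f81280c07a1802702708811c1f82e0801140c85c070058028360260a8168010a402c0682401c0a00204200e0c00a8090ac00808051, 0x4a18830827052134258310b8014250420900e81784106a0fc0e05f09e0a02b8130761642305e0040042280600e0e02a01b0a40901e8500200981580a02a0501003e0661800c01201a168200490720c01e02204200023803034020190170120580e83702208c2a85b0a61302880b03c0101685d01e0d80c82e01c1602204e08607c0602a06818c16056, 0x2601c2183c04217831860070068178310ae010198390360c80a0220aa0a4208250040640b02b076124288560c20fc240270140481204e09608c2a05008a0e82d83d01a0440b8260940181004c09a00c2c02d0a407c0800e00017c0c01d038118298090100302c8350b811c220340020b82105d0500dc278360b41000280f0c40541503e0600781600b]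
/-- chain for `fs` -/
def fsBS : List (ℕ × ℕ × ℕ × ℕ) := [
  (32, 2, 0x40000000b1fa8000b1fa80004cc4000040000000d800000046308000400000004000000090b40000463080004cc40000d80000004cc4000046308000400000007d00000040000000400000004000000062ee8000400000007d000000400000004000000046308000400000007d00000040000000463080005b20000040000000869c80004cc400007d0000004000000040000000400000005b200000400000004630800090b40000400000004cc40000400000007d000000400000004000000062ee80004cc400004000000040000000463080004cc400007d000000463080007d00000040000000400000007d0000004cc400004cc4000046308000400000007d000000400000004cc400007d0000004000000040000000a6600000400000007d0000007d00000046308000400000004000000046308000400000004000000046308000400000004000000040000000a6600000400000004630800090b400007d0000004cc40000400000007d000000869c8000400000004cc400004000000040000000463080004000000090b40, 0x78f9e00007d000000a6600000400000004cc40)]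
/-- last table for `fs` -/
def fsT : ℕ := 0x29315c2d2939cce6010dedd309824cb805fbc4341a26bef8272d71bf1a664c07117f21c3025c9d22272d71bf1000dde933a8010f1000dde9272d71bf2ef2fc5904f1509202c53bbe37b3d32537b3d3251f3554b22ef2fc592c7d19ac05fbc4341a664c07272d71bf29315c2d2eda89fe02c53bbe06acbdbd013fbdf51a664c072834c81b1000dde932d42561117f21c31a664c0702c53bbe1d54819437b3d325272d71bf025c9d2205fbc4340214a07d05fbc43432d4256137b3d3251a664c070639ef6e1000dde92ef2fc591a664c07272d71bf1000dde92eda89fe1ce5538e04f1509202c53bbe37b3d32532d425611a3116ce377b83ee06acbdbd02c53bbe04f15092304e78942dae1e32182af82429315c2d37b3d3253140fa8637b3d3253843d36a2d070ba806acbdbd29315c2d18dc7e9b1ae7351837b3d32502c53bbe1ae7351802c53bbe1a664c0702c53bbe17f873392ef2fc591ce5538e0a44ba8e2c7d19ac377b83ee117f21c332d425613548d7f32ef2fc59377b83ee02c53bbe02c53bbe1ce5538e02c53bbe0a44ba8e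
/-- ranks for `fs` -/
def fsR : ℕ := 0x2a0c82f00602c0a8278240660a42885009a09c0d03d0300e42b0210a80a00e00c0b004c180050800040005a00e0883080f0620d01a8230ba0800f01d0280282406309616c2904e09202c1f8090a6188128430560981685501a1302205f0240402c8190940080d8080c00ec0880e07c1702383a02e00c0205707007c1604208a0f01b82f05c1041b046
/-- order for `fs` -/
def fsO : ℕ := 0x680a8208170401841d8120641100e84b0181441204f0560c42c8580ba0c02b82206606c17835022000038210500200104705a04c2a00602c0402900b00a0041e83e0b61881f84900800c1280904e1782d04e0ac0981485c0781082803a0140e41c04d0321540e05301e17c3183709407c0a81e0800501184c05c0d8160180861802400d01c06823045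

theorem fs_le : Nat.card (cenA [[2, 4, 3, 3, 3, 4, 2, 2, 2, 0, 2, 0, 4, 3, 3, 1, 4], [0, 4, 3, 0, 4, 3, 1, 4, 3, 3, 0, 2, 2, 2, 4, 2, 2, 2, 1], [0, 4, 3, 0, 4, 3, 1, 4, 3, 0, 2, 2, 0, 2, 2, 2, 0, 3, 4, 3, 1]]) ≤ 2 :=
  card_cenA_le (VS := fsV) (bs := fsBS) (T := fsT) (R := fsR) (O := fsO) (by decide +kernel) (by decide +kernel)

/-- A group of order at most 2. -/
theorem eq_of_card_le_two {G : Type*} [Group G] [Finite G] {C : Subgroup G} (h : Nat.card C ≤ 2) {x y : G}
    (hx : x ∈ C) (hy : y ∈ C) (hx1 : x ≠ 1) : y = 1 ∨ y = x := by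
  classical
  by_contra hne
  push Not at hne
  have hn : ([1, x, y] : List G).Nodup := by
    simp only [List.nodup_cons, List.mem_cons, List.not_mem_nil, or_false, not_or, List.nodup_nil, and_true,
      not_false_eq_true]
    exact ⟨⟨hx1.symm, hne.1.symm⟩, hne.2.symm⟩
  have h1 : ((([1, x, y] : List G).toFinset : Finset G) : Set G) ⊆ (C : Set G) := by
    intro z hz
    rw [Finset.mem_coe, List.mem_toFinset] at hz
    rcases List.mem_cons.1 hz with rfl | hz
    · exact C.one_mem
    rcases List.mem_cons.1 hz with rfl | hz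
    · exact hx
    rw [List.mem_singleton] at hz
    exact hz ▸ hy
  have h2 := Set.ncard_le_ncard h1 (Set.toFinite _)
  rw [Set.ncard_coe_finset, List.toFinset_card_of_nodup hn] at h2
  have h3 : (C : Set G).ncard = Nat.card C := rfl
  rw [h3] at h2
  have h4 : ([1, x, y] : List G).length = 3 := rfl
  omega

theorem hw_mem_S_of {w : List ℕ} (L : List ℕ) (hL : ∀ i ∈ L, i < 11) (h : w = cat L) : hw w ∈ S := by
  rw [h]
  exact hw_cat_mem (fun i hi => s_mem_S (hL i hi))

/-- the words of the three elements of `S ∩ K` -/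
def WS : List (List ℕ) := [cat [2], cat [8, 9], cat [8, 10]]

theorem WS_mem {w : List ℕ} (h : w ∈ WS) : hw w ∈ S ∧ hw w ∈ K := by
  have key : ∀ w ∈ WS, okw w = true ∧ par w = false := by decide +kernel
  refine ⟨?_, mem_K_of_par (key w h).1 (key w h).2⟩
  rcases List.mem_cons.1 h with h | h
  · exact hw_mem_S_of [2] (by decide) h
  rcases List.mem_cons.1 h with h | h
  · exact hw_mem_S_of [8, 9] (by decide) h
  rw [List.mem_singleton] at h
  exact hw_mem_S_of [8, 10] (by decide) h

theorem fs_le' : Nat.card (cenA WS) ≤ 2 := fs_le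

/-- **(F4)** the elements centralised modulo `τ` by `S ∩ K`. -/
theorem F4 {h : H0} (hS : ∀ k ∈ S, k ∈ K → k * h * k⁻¹ = h ∨ k * h * k⁻¹ = h * τ) :
    h = 1 ∨ h = τ ∨ h = a ∨ h = a * τ := by
  have key : ∀ g : H0, (∀ k ∈ S, k ∈ K → k * g * k⁻¹ = g ∨ k * g * k⁻¹ = g * τ) → φ g ∈ cenA WS := by
    intro g hg
    refine ⟨range_le ⟨g, rfl⟩, ?_⟩
    change φ g ∈ Subgroup.centralizer (φ '' wset WS)
    rw [Subgroup.mem_centralizer_iff]
    rintro _ ⟨_, ⟨w, hw', rfl⟩, rfl⟩
    obtain ⟨h1, h2⟩ := WS_mem hw'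
    have h3 : φ (hw w * g * (hw w)⁻¹) = φ g := by
      rcases hg _ h1 h2 with h | h
      · rw [h]
      · rw [h, map_mul, φ_τ, mul_one]
    rw [map_mul, map_mul, map_inv, mul_inv_eq_iff_eq_mul] at h3
    exact h3
  have ha : φ a ∈ cenA WS := key a (fun k hk _ => Or.inl (by rw [a_comm hk, mul_assoc, mul_inv_cancel, mul_one]))
  have ha1 : φ a ≠ 1 := by
    rw [Ne, φ_eq_one_iff, not_or]
    exact ⟨a_ne_one, a_ne_τ⟩
  rcases eq_of_card_le_two fs_le' ha (key h hS) ha1 with h1 | h1
  · rcases φ_eq_one_iff.1 h1 with h2 | h2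
    · exact Or.inl h2
    · exact Or.inr (Or.inl h2)
  · rcases φ_eq_iff.1 h1 with h2 | h2
    · exact Or.inr (Or.inr (Or.inl h2))
    · exact Or.inr (Or.inr (Or.inr h2))

/-! ### parity of indices -/

/-- A `p`-subgroup is conjugate into each subgroup of index prime to `p`. -/
theorem exists_conj_le {G : Type*} [Group G] [Finite G] {P N : Subgroup G} (hP : IsPGroup 2 P)
    (hN : ¬ 2 ∣ N.index) : ∃ c : G, ∀ k ∈ P, c⁻¹ * k * c ∈ N := by
  have : Fact (Nat.Prime 2) := ⟨Nat.prime_two⟩
  have h1 : ¬ 2 ∣ Nat.card (G ⧸ N) := hN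
  obtain ⟨x, hx⟩ := hP.nonempty_fixed_point_of_prime_not_dvd_card (G ⧸ N) h1
  obtain ⟨c, rfl⟩ := QuotientGroup.mk_surjective x
  refine ⟨c, fun k hk => ?_⟩
  have h2 : ((k * c : G) : G ⧸ N) = (c : G ⧸ N) := hx ⟨k, hk⟩
  have h3 := QuotientGroup.eq.1 h2.symm
  rw [← mul_assoc] at h3
  exact h3

/-- the elements commuting with `h` modulo `τ` -/
def Cm (h : H0) : Subgroup H0 where
  carrier := {g | g * h * g⁻¹ = h ∨ g * h * g⁻¹ = h * τ}
  mul_mem' := by
    rintro g k hg hk
    have e : g * k * h * (g * k)⁻¹ = g * (k * h * k⁻¹) * g⁻¹ := by group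
    change g * k * h * (g * k)⁻¹ = h ∨ g * k * h * (g * k)⁻¹ = h * τ
    rw [e]
    rcases hk with hk | hk
    · rw [hk]; exact hg
    · rw [hk]
      have e2 : g * (h * τ) * g⁻¹ = g * h * g⁻¹ * τ := by
        rw [← mul_assoc, mul_assoc (g * h) τ, ← τ_comm g⁻¹, ← mul_assoc]
      rw [e2]
      rcases hg with hg | hg
      · right; rw [hg]
      · left; rw [hg, mul_assoc, τ_mul_τ, mul_one]
  one_mem' := Or.inl (by group)
  inv_mem' := by
    intro g hg
    change g⁻¹ * h * g⁻¹⁻¹ = h ∨ g⁻¹ * h * g⁻¹⁻¹ = h * τ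
    rw [inv_inv]
    rcases hg with hg | hg
    · left
      have : h = g⁻¹ * (g * h * g⁻¹) * g := by group
      rw [hg] at this
      exact this.symm
    · right
      have : h = g⁻¹ * (g * h * g⁻¹) * g := by group
      rw [hg, ← mul_assoc, mul_assoc _ τ, ← τ_comm g, ← mul_assoc] at this
      calc g⁻¹ * h * g = g⁻¹ * h * g * τ * τ := by rw [mul_assoc _ τ, τ_mul_τ, mul_one]
        _ = h * τ := by rw [← this]

theorem mem_Cm {h g : H0} : g ∈ Cm h ↔ g * h * g⁻¹ = h ∨ g * h * g⁻¹ = h * τ := Iff.rfl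

theorem isPGroup_S : IsPGroup 2 S := IsPGroup.of_card card_S

theorem conj_of_odd_relIndex {h : H0} (hodd : ¬ 2 ∣ (Cm h).relIndex K) :
    h = 1 ∨ h = τ ∨ IsConj a h ∨ IsConj (a * τ) h := by
  have hP : IsPGroup 2 (S.subgroupOf K) := isPGroup_S.comap_subtype
  obtain ⟨c, hc⟩ := exists_conj_le (G := K) hP (N := (Cm h).subgroupOf K) hodd
  have h1 : (c : H0) * h * (c : H0)⁻¹ = 1 ∨ (c : H0) * h * (c : H0)⁻¹ = τ ∨ (c : H0) * h * (c : H0)⁻¹ = a ∨
      (c : H0) * h * (c : H0)⁻¹ = a * τ := by
    apply F4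
    intro k hkS hkK
    have h2 : (c : H0)⁻¹ * k * c ∈ Cm h := by
      have h3 := hc ⟨k, hkK⟩ (Subgroup.mem_subgroupOf.2 hkS)
      exact Subgroup.mem_subgroupOf.1 h3
    have e : k * ((c : H0) * h * (c : H0)⁻¹) * k⁻¹ = c * (((c : H0)⁻¹ * k * c) * h * ((c : H0)⁻¹ * k * c)⁻¹) * (c : H0)⁻¹ := by
      group
    rw [e]
    rcases h2 with h2 | h2
    · left; rw [h2]
    · right
      rw [h2, ← mul_assoc, mul_assoc ((c : H0) * h) τ, ← τ_comm (c : H0)⁻¹, ← mul_assoc]
  have h4 : ∀ k : H0, (c : H0) * h * (c : H0)⁻¹ = k → IsConj k h := by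
    rintro k rfl
    exact (isConj_iff.2 ⟨c, rfl⟩ : IsConj h _).symm
  rcases h1 with h1 | h1 | h1 | h1
  · left
    exact isConj_one_right.1 (h4 _ h1)
  · right; left
    exact isConj_τ_iff.1 (h4 _ h1)
  · exact Or.inr (Or.inr (Or.inl (h4 _ h1)))
  · exact Or.inr (Or.inr (Or.inr (h4 _ h1)))

theorem centralizer_le_Cm (h : H0) : Subgroup.centralizer {h} ≤ Cm h := by
  intro g hg
  left
  rw [centralizer_singleton_mem.1 hg, mul_assoc, mul_inv_cancel, mul_one]

/-- even index in `K`, for each subgroup of `Cm h`. -/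
theorem two_dvd_relIndex_of {h : H0} (h1 : h ≠ 1) (hτ : h ≠ τ) (ha : ¬ IsConj a h) (hb : ¬ IsConj (a * τ) h)
    {N : Subgroup H0} (hN : N ≤ Cm h) : 2 ∣ N.relIndex K := by
  have h2 : 2 ∣ (Cm h).relIndex K := by
    by_contra hodd
    rcases conj_of_odd_relIndex hodd with h3 | h3 | h3 | h3
    · exact h1 h3
    · exact hτ h3
    · exact ha h3
    · exact hb h3
  exact h2.trans (Subgroup.relIndex_dvd_of_le_left K hN)

theorem two_dvd_relIndex_z {N : Subgroup H0} (hN : N ≤ Cm gz) : 2 ∣ N.relIndex K :=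
  two_dvd_relIndex_of z_ne_one z_ne_τ not_isConj_a_z not_isConj_aτ_z hN

theorem two_dvd_relIndex_d {N : Subgroup H0} (hN : N ≤ Cm d) : 2 ∣ N.relIndex K :=
  two_dvd_relIndex_of d_ne_one d_ne_τ not_isConj_a_d not_isConj_aτ_d hN

theorem x_ne_one : gx ≠ 1 := fun h => τ_ne_one (by rw [τ, h, one_pow])

theorem x_ne_τ : gx ≠ τ := fun h => τ_ne_one (by
  have : τ = gx ^ 2 := rfl
  rw [this, h, τ_sq])

theorem not_isConj_x {v : H0} (hv : v ^ 2 = 1) : ¬ IsConj v gx := fun h => by
  have h1 := sq_of_isConj h (Or.inl hv)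
  exact τ_ne_one (by rw [τ, h1, hv])

theorem two_dvd_relIndex_x {N : Subgroup H0} (hN : N ≤ Cm gx) : 2 ∣ N.relIndex K :=
  two_dvd_relIndex_of x_ne_one x_ne_τ (not_isConj_x a_sq') (not_isConj_x aτ_sq) hN

theorem index_centralizer_a : (Subgroup.centralizer {a} : Subgroup H0).index = 5775 := by
  have h := (Subgroup.centralizer {a} : Subgroup H0).card_mul_index
  rw [card_centralizer_a, H0Basic.card_H0] at h
  omega

theorem relIndex_mul_card' {G : Type*} [Group G] (H K : Subgroup G) :
    H.relIndex K * Nat.card (H ⊓ K : Subgroup G) = Nat.card K := by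
  have h1 := (H.subgroupOf K).card_mul_index
  have h2 : Nat.card (H.subgroupOf K) = Nat.card (H ⊓ K : Subgroup G) := by
    rw [← Subgroup.inf_subgroupOf_right]
    exact Nat.card_congr (Subgroup.subgroupOfEquivOfLe inf_le_right).toEquiv
  rw [h2, mul_comm] at h1
  exact h1

theorem card_K : Nat.card K = 88704000 := by
  have h := K.card_mul_index
  rw [K_index, H0Basic.card_H0] at h
  omega

theorem card_inf_K {C : Subgroup H0} (h : ∃ g ∈ C, g ∉ K) : 2 * Nat.card (C ⊓ K : Subgroup H0) = Nat.card C := by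
  obtain ⟨g, hg, hgK⟩ := h
  have h1 : K.relIndex C = 2 := by
    have h2 : K.relIndex C ∣ 2 := by
      rw [← K_index]; exact Subgroup.relIndex_dvd_index_of_normal _ _
    rcases (Nat.dvd_prime Nat.prime_two).1 h2 with h3 | h3
    · exact absurd (Subgroup.relIndex_eq_one.1 h3 hg) hgK
    · exact h3
  have h4 := relIndex_mul_card' K C
  rw [h1, inf_comm] at h4
  exact h4

theorem card_centralizer_a_inf : Nat.card (Subgroup.centralizer {a} ⊓ K : Subgroup H0) = 15360 := by
  have h := card_inf_K (C := Subgroup.centralizer {a}) ⟨s 10, S_le_centralizer_a (s_mem_S (by norm_num)),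
    not_mem_K_of_par rfl rfl⟩
  rw [card_centralizer_a] at h
  omega

theorem relIndex_centralizer_a : (Subgroup.centralizer {a} : Subgroup H0).relIndex K = 5775 := by
  have h := relIndex_mul_card' (Subgroup.centralizer {a} : Subgroup H0) K
  rw [card_K, card_centralizer_a_inf] at h
  have h2 : (5775 : ℕ) * 15360 = 88704000 := by norm_num
  exact Nat.eq_of_mul_eq_mul_right (by norm_num : 0 < 15360) (h.trans h2.symm)

end Cfsg.Agent.HN.FactF4
end
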