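import Cfsg.Agent.HN.FusOne
set_option linter.all false

set_option autoImplicit false

/-!
No finite group has an involution `t`, fused to another involution commuting with it, whose centraliser is
`K = 2.HS` (the even part of `H0 = 2.HS.2`).
-/

namespace Cfsg.Agent.HN.FusK0

open Cfsg.Agent.HN.Pres Cfsg.Agent.HN.HS100 Cfsg.Agent.HN.P1408 Cfsg.Agent.HN.H0Basic
open Cfsg.Agent.HN.Syl Cfsg.Agent.HN.Classes Cfsg.Agent.HN.Twist Cfsg.Agent.HN.FusGen Cfsg.Agent.HN.FusOne
open scoped commutatorElement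

instance finite_K : Finite K := inferInstance

theorem index_K : K.index = 2 := by
  have h1 : K.index = Nat.card sgn.range := Subgroup.index_ker sgn
  have h2 : sgn.range = ⊤ := by
    rw [eq_top_iff]
    intro u _
    rcases Int.units_eq_one_or u with rfl | rfl
    · exact ⟨1, map_one _⟩
    · exact ⟨gz, sgn_gz⟩
  rw [h1, h2, Subgroup.card_top, Nat.card_eq_fintype_card]
  rfl

theorem card_K : Nat.card K = 88704000 := by
  have h := K.card_mul_index
  rw [index_K, H0Basic.card_H0] at h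
  omega

theorem s8_mem : s 8 ∈ S := s_mem_S (by norm_num)
theorem s8_notMem : s 8 ∉ K := not_mem_K_of_par rfl rfl

/-- The Sylow 2-subgroup of `K`. -/
def S0 : Subgroup K := S.subgroupOf K

theorem mem_S0 {g : K} : g ∈ S0 ↔ (g : H0) ∈ S := Subgroup.mem_subgroupOf

theorem card_S0 : Nat.card S0 = 2 ^ 10 := by
  have h1 : Nat.card S0 = Nat.card (K.subgroupOf S) :=
    Nat.card_congr
      { toFun := fun g => ⟨⟨g.1.1, mem_S0.1 g.2⟩, g.1.2⟩
        invFun := fun g => ⟨⟨g.1.1, g.2⟩, g.1.2⟩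
        left_inv := fun _ => rfl
        right_inv := fun _ => rfl }
  have hn : K.Normal := by unfold K; infer_instance
  have h2 : (K.subgroupOf S).index ∣ 2 := by
    have := Subgroup.relIndex_dvd_index_of_normal K S
    rw [index_K] at this
    exact this
  have h3 : (K.subgroupOf S).index ≠ 1 := by
    intro h
    have h4 : S ≤ K := Subgroup.relIndex_eq_one.1 h
    exact s8_notMem (h4 s8_mem)
  have h4 : (K.subgroupOf S).index = 2 := ((Nat.dvd_prime Nat.prime_two).1 h2).resolve_left h3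
  have h5 := (K.subgroupOf S).card_mul_index
  rw [h4, card_S] at h5
  rw [h1]
  omega

/-- `S0` is a Sylow 2-subgroup of `K`. -/
noncomputable def syl0 : Sylow 2 K := Sylow.ofCard S0 (by
  rw [card_S0, card_K]
  have h : (88704000 : ℕ) = 2 ^ 10 * 86625 := by norm_num
  rw [h, Nat.factorization_mul (by norm_num) (by norm_num), Nat.Prime.factorization_pow Nat.prime_two]
  have h2 : (86625 : ℕ).factorization 2 = 0 := Nat.factorization_eq_zero_of_not_dvd (by norm_num)
  simp [h2])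

theorem coe_syl0 : (syl0 : Subgroup K) = S0 := rfl

/-- The central involution of `K`. -/
def τ0 : K := ⟨τ, τ_mem_K⟩
/-- the involution `a` -/
def a0 : K := ⟨a, a_mem_K⟩
/-- the involution `a τ` -/
def b0 : K := ⟨a * τ, aτ_mem_K⟩

theorem b0_eq : b0 = a0 * τ0 := rfl

theorem comm5_eq0 : ⁅⁅⁅⁅s 7, s 8 * s 9⁆, s 8 * s 10⁆, s 8 * s 9⁆, s 7⁆ = a * τ := by
  rw [← s_one]
  simp only [commutatorElement_def, s, ← hw_iw, ← hw_append]
  exact hw_eq (by decide +kernel)

theorem mem89 : s 8 * s 9 ∈ K := by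
  rw [show s 8 * s 9 = hw (sw 8 ++ sw 9) from (hw_append _ _).symm]
  exact mem_K_of_par rfl rfl

theorem mem810 : s 8 * s 10 ∈ K := by
  rw [show s 8 * s 10 = hw (sw 8 ++ sw 10) from (hw_append _ _).symm]
  exact mem_K_of_par rfl rfl

theorem mem7 : s 7 ∈ K := mem_K_of_par rfl rfl

theorem a2_mem_K : a2 ∈ K := by
  rw [a2_eq]
  exact mem_K_of_par rfl rfl

/-- conjugacy in `H0` of an element of `C(s 8) ∩ K` is conjugacy in `K`. -/
theorem isConj_of {g h : K} (hg : s 8 * (g : H0) = g * s 8) (hc : IsConj (g : H0) h) : IsConj g h := by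
  obtain ⟨c, hc⟩ := isConj_iff.1 hc
  by_cases hcK : c ∈ K
  · exact isConj_iff.2 ⟨⟨c, hcK⟩, Subtype.ext hc⟩
  · have h1 : c * s 8 ∈ K := by
      rw [mem_K_iff, map_mul]
      have h2 := (Int.units_eq_one_or (sgn c)).resolve_left hcK
      have h3 := (Int.units_eq_one_or (sgn (s 8))).resolve_left s8_notMem
      rw [h2, h3]; rfl
    refine isConj_iff.2 ⟨⟨c * s 8, h1⟩, Subtype.ext ?_⟩
    change c * s 8 * g * (c * s 8)⁻¹ = h
    rw [← hc]
    calc c * s 8 * g * (c * s 8)⁻¹ = c * (s 8 * g) * (s 8)⁻¹ * c⁻¹ := by group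
      _ = c * (g * s 8) * (s 8)⁻¹ * c⁻¹ := by rw [hg]
      _ = c * g * c⁻¹ := by group

theorem s8_a : s 8 * a = a * s 8 := a_comm s8_mem

theorem s8_aτ : s 8 * (a * τ) = a * τ * s 8 := by
  rw [← mul_assoc, s8_a, mul_assoc, τ_comm, ← mul_assoc]

/-- **`C_G(t) = 2.HS` is impossible** if `t` is not isolated. -/
theorem false_of' {G : Type*} [Group G] [Finite G] {φ : K →* G} (E : Emb φ τ0)
    (hex : ∃ h, InK φ τ0 h ∧ h ≠ τ0) : False := by
  have hb : ¬ InK φ τ0 (a0 * τ0) := by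
    rw [← b0_eq]
    refine E.not_inK_of_sylow syl0 b0 (fun s hs => ?_) ?_
    · have h1 := a_comm (g := (s : H0)) (mem_S0.1 hs)
      apply Subtype.ext
      change (s : H0) * (a * τ) = a * τ * s
      rw [← mul_assoc, h1, mul_assoc, τ_comm, ← mul_assoc]
    · refine not_map_of_comm5 S0 (fun h => aτ_ne_one (congrArg Subtype.val h))
        (fun h => aτ_ne_τ (congrArg Subtype.val h)) ?_ ?_
      · intro g1 h1 g2 h2 g3 h3 g4 h4 g5 h5
        rcases comm5 (mem_S0.1 h1) (mem_S0.1 h2) (mem_S0.1 h3) (mem_S0.1 h4) (mem_S0.1 h5) with h | h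
        · exact Or.inl (Subtype.ext h)
        · exact Or.inr (Subtype.ext h)
      · refine ⟨⟨s 7, mem7⟩, mem_S0.2 (s_mem_S (by norm_num)), ⟨s 8 * s 9, mem89⟩, mem_S0.2 ?_,
          ⟨s 8 * s 10, mem810⟩, mem_S0.2 ?_, ⟨s 8 * s 9, mem89⟩, mem_S0.2 ?_, ⟨s 7, mem7⟩,
          mem_S0.2 (s_mem_S (by norm_num)), Subtype.ext comm5_eq0⟩
        · exact S.mul_mem s8_mem (s_mem_S (by norm_num))
        · exact S.mul_mem s8_mem (s_mem_S (by norm_num))
        · exact S.mul_mem s8_mem (s_mem_S (by norm_num))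
  have hK : ∀ h, InK φ τ0 h → h = τ0 ∨ IsConj a0 h := by
    intro h hh
    have h2 : (h : H0) ^ 2 = 1 := by
      rw [pow_two]; exact congrArg Subtype.val (E.sq_of_inK hh)
    rcases involution_cases h2 with h1 | h1 | h1 | h1 | h1 | h1
    · exact absurd (Subtype.ext h1) (E.ne_one_of_inK hh)
    · exact Or.inl (Subtype.ext h1)
    · exact Or.inr (isConj_of (g := a0) s8_a h1)
    · exact absurd (hh.conj (isConj_of (g := b0) s8_aτ h1).symm) hb
    · exact absurd ((mem_K_of_isConj h1).2 h.2) gz_notMem_K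
    · exact absurd ((mem_K_of_isConj h1).2 h.2) d_notMem_K
  obtain ⟨h, hh, hne⟩ := hex
  have ha : InK φ τ0 a0 := by
    rcases hK h hh with h1 | h1
    · exact absurd h1 hne
    · exact hh.conj h1.symm
  exact E.f4 (a₁ := a0) (a₂ := ⟨a2, a2_mem_K⟩) (Subtype.ext a2_comm.symm) (IsConj.refl a0)
    (isConj_of (g := a0) s8_a isConj_a_a2) (isConj_of (g := a0) s8_a isConj_a_mul) ha hb hK

end Cfsg.Agent.HN.FusK0
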