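import Cfsg.Agent.HN.Rep
import Cfsg.Agent.HN.Trace
import Cfsg.Agent.HN.TraceFast
set_option linter.all false

/-!
# Traces of the squares of m i
`m i = x² w⁻¹ x² w` for the representative `w` number `i` of the double cosets of `H` in HN.
-/

set_option autoImplicit false

namespace Cfsg.Agent.HN.TraceData

open Cfsg.Agent.Lib.PackMat Cfsg.Agent.Lib.PackMatGroup Cfsg.Agent.HN.RepData Cfsg.Agent.HN.Rep Cfsg.Agent.HN.Trace

end Cfsg.Agent.HN.TraceData
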