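import Mathlib
set_option linter.all false

set_option autoImplicit false

/-!
Last step of the identification: `G = G0` from the centralisers of two involutions.
-/

namespace Cfsg.Agent.HN.CloseFinal

variable {G : Type*} [Group G]

theorem orderOf_eq_two_iff' {a : G} : orderOf a = 2 ↔ a ≠ 1 ∧ a * a = 1 := by
  constructor
  · intro h
    refine ⟨?_, ?_⟩
    · rintro rfl
      rw [orderOf_one] at h
      exact absurd h (by norm_num)
    · rw [← pow_two, ← h, pow_orderOf_eq_one]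
  · rintro ⟨h1, h2⟩
    exact orderOf_eq_prime (by rw [pow_two, h2]) h1

/-- two non-conjugate involutions commute with a common involution. -/
theorem exists_central [Finite G] {a b : G} (ha : orderOf a = 2) (hb : orderOf b = 2) (hab : ¬ IsConj a b) :
    ∃ v : G, orderOf v = 2 ∧ a * v = v * a ∧ b * v = v * b := by
  have haa : a * a = 1 := (orderOf_eq_two_iff'.1 ha).2
  have hbb : b * b = 1 := (orderOf_eq_two_iff'.1 hb).2
  have hai : a⁻¹ = a := inv_eq_of_mul_eq_one_left haa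
  have hbi : b⁻¹ = b := inv_eq_of_mul_eq_one_left hbb
  -- `a` and `b` invert `a * b`
  have hinva : ∀ n : ℕ, a * (a * b) ^ n * a⁻¹ = ((a * b) ^ n)⁻¹ := by
    intro n
    rw [← conj_pow, ← inv_pow]
    congr 1
    rw [mul_inv_rev, hai, hbi, ← mul_assoc a a b, haa, one_mul]
  have hinvb : ∀ n : ℕ, b * (a * b) ^ n * b⁻¹ = ((a * b) ^ n)⁻¹ := by
    intro n
    rw [← conj_pow, ← inv_pow]
    congr 1
    rw [mul_inv_rev, hai, hbi, mul_assoc, mul_assoc, hbb, mul_one]
  have hpos := orderOf_pos (a * b)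
  rcases Nat.even_or_odd (orderOf (a * b)) with ⟨k, hk⟩ | ⟨k, hk⟩
  · have hk0 : k ≠ 0 := by omega
    refine ⟨(a * b) ^ k, ?_, ?_, ?_⟩
    · rw [orderOf_eq_two_iff']
      constructor
      · intro h
        have h1 := orderOf_dvd_of_pow_eq_one h
        have h2 := Nat.le_of_dvd (by omega) h1
        omega
      · rw [← pow_add, ← hk, pow_orderOf_eq_one]
    · have h1 : ((a * b) ^ k)⁻¹ = (a * b) ^ k := by
        apply inv_eq_of_mul_eq_one_left
        rw [← pow_add, ← hk, pow_orderOf_eq_one]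
      have h2 := hinva k
      rw [h1] at h2
      rw [mul_inv_eq_iff_eq_mul] at h2
      exact h2
    · have h1 : ((a * b) ^ k)⁻¹ = (a * b) ^ k := by
        apply inv_eq_of_mul_eq_one_left
        rw [← pow_add, ← hk, pow_orderOf_eq_one]
      have h2 := hinvb k
      rw [h1] at h2
      rw [mul_inv_eq_iff_eq_mul] at h2
      exact h2
  · exfalso
    apply hab
    rw [isConj_iff]
    refine ⟨(a * b) ^ k, ?_⟩
    have h1 : (a * b) ^ k * a = a * ((a * b) ^ k)⁻¹ := by
      rw [← hinva, ← mul_assoc, ← mul_assoc, haa, one_mul, hai]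
    have h2 : ((a * b) ^ k)⁻¹ * ((a * b) ^ k)⁻¹ = a * b := by
      rw [← mul_inv_rev, ← pow_add]
      apply inv_eq_of_mul_eq_one_left
      rw [← pow_succ']
      have : k + k + 1 = orderOf (a * b) := by omega
      rw [this, pow_orderOf_eq_one]
    rw [h1, mul_assoc, h2, ← mul_assoc, haa, one_mul]

/-- an involution with centraliser in `G0` whose conjugates in `G0` form one `G0`-class fixes one point. -/
theorem fix_of_class (G0 : Subgroup G) {t : G} (hCt : ∀ g, g * t = t * g → g ∈ G0)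
    (hcl : ∀ v ∈ G0, IsConj t v → ∃ k ∈ G0, k * v * k⁻¹ = t) :
    ∀ g, g⁻¹ * t * g ∈ G0 → g ∈ G0 := by
  intro g hg
  obtain ⟨k, hk, h⟩ := hcl _ hg (isConj_iff.2 ⟨g⁻¹, by group⟩)
  have h1 : k * g⁻¹ ∈ G0 := by
    apply hCt
    calc k * g⁻¹ * t = k * (g⁻¹ * t * g) * k⁻¹ * (k * g⁻¹) := by group
      _ = t * (k * g⁻¹) := by rw [h]
  have h2 : g = (k * g⁻¹)⁻¹ * k := by group
  rw [h2]
  exact G0.mul_mem (G0.inv_mem h1) hk

/-- the same, from a list of two classes of involutions of `G0`. -/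
theorem fix_of_two_classes (G0 : Subgroup G) {t w : G} (ht : orderOf t = 2)
    (hCt : ∀ g, g * t = t * g → g ∈ G0) (hne : ¬ IsConj t w)
    (hcl : ∀ v ∈ G0, orderOf v = 2 → ∃ k ∈ G0, k * v * k⁻¹ = t ∨ k * v * k⁻¹ = w) :
    ∀ g, g⁻¹ * t * g ∈ G0 → g ∈ G0 := by
  apply fix_of_class G0 hCt
  intro v hv hc
  obtain ⟨c, rfl⟩ := isConj_iff.1 hc
  obtain ⟨k, hk, h | h⟩ := hcl _ hv (by
    rw [← MulAut.conj_apply, MulEquiv.orderOf_eq, ht])
  · exact ⟨k, hk, h⟩
  · exfalso
    apply hne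
    rw [← h]
    exact hc.trans (isConj_iff.2 ⟨k, rfl⟩)

/-- **The last step.** -/
theorem eq_top [Finite G] (G0 : Subgroup G) [IsSimpleGroup G0] {t w : G} (ht : orderOf t = 2)
    (hw : orderOf w = 2) (ht0 : t ∈ G0) (hw0 : w ∈ G0)
    (hCw : ∀ g, g * w = w * g → g ∈ G0) (hne : ¬ IsConj t w)
    (hinv : ∀ v, orderOf v = 2 → v * t = t * v → ∃ g ∈ G0, g * v * g⁻¹ = t ∨ g * v * g⁻¹ = w)
    (hfix : ∀ g, g⁻¹ * t * g ∈ G0 → g ∈ G0) : G0 = ⊤ := by
  by_contra htop
  obtain ⟨g, hg⟩ : ∃ g, g ∉ G0 := by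
    by_contra hcon
    push Not at hcon
    exact htop (eq_top_iff.2 fun g _ => hcon g)
  -- every `G0`-conjugate of `w`, conjugated by `g`, lies in `G0`
  have key : ∀ h ∈ G0, g * (h * w * h⁻¹) * g⁻¹ ∈ G0 := by
    intro h hh
    set b := g * (h * w * h⁻¹) * g⁻¹ with hb
    have hb2 : b = (g * h) * w * (g * h)⁻¹ := by rw [hb]; group
    have hbo : orderOf b = 2 := by
      rw [hb2, ← MulAut.conj_apply, MulEquiv.orderOf_eq, hw]
    have hnc : ¬ IsConj t b := by
      intro hc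
      apply hne
      refine hc.trans ?_
      rw [hb2]
      exact (isConj_iff.2 ⟨g * h, rfl⟩).symm
    obtain ⟨v, hv, hvt, hvb⟩ := exists_central ht hbo hnc
    -- `v ∈ g G0 g⁻¹`
    have hvG1 : g⁻¹ * v * g ∈ G0 := by
      have h1 : (h⁻¹ * g⁻¹) * v * (g * h) ∈ G0 := by
        apply hCw
        have h2 : v * b = b * v := hvb.symm
        rw [hb2] at h2
        calc h⁻¹ * g⁻¹ * v * (g * h) * w = h⁻¹ * g⁻¹ * (v * (g * h * w * (g * h)⁻¹)) * (g * h) := by group
          _ = h⁻¹ * g⁻¹ * ((g * h * w * (g * h)⁻¹) * v) * (g * h) := by rw [h2]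
          _ = w * (h⁻¹ * g⁻¹ * v * (g * h)) := by group
      have h3 : g⁻¹ * v * g = h * ((h⁻¹ * g⁻¹) * v * (g * h)) * h⁻¹ := by group
      rw [h3]
      exact G0.mul_mem (G0.mul_mem hh h1) (G0.inv_mem hh)
    obtain ⟨k, hk, hkt | hkw⟩ := hinv v hv hvt.symm
    · exfalso
      apply hg
      have h1 : k * g ∈ G0 := by
        apply hfix
        have h5 : (k * g)⁻¹ * t * (k * g) = g⁻¹ * v * g := by
          rw [← hkt]
          group
        rw [h5]
        exact hvG1
      have h6 : g = k⁻¹ * (k * g) := by group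
      rw [h6]
      exact G0.mul_mem (G0.inv_mem hk) h1
    · -- `C(v) ≤ G0`
      have h1 : k * b * k⁻¹ ∈ G0 := by
        apply hCw
        rw [← hkw]
        calc k * b * k⁻¹ * (k * v * k⁻¹) = k * (b * v) * k⁻¹ := by group
          _ = k * (v * b) * k⁻¹ := by rw [hvb]
          _ = k * v * k⁻¹ * (k * b * k⁻¹) := by group
      have h2 : b = k⁻¹ * (k * b * k⁻¹) * k := by group
      rw [h2]
      exact G0.mul_mem (G0.mul_mem (G0.inv_mem hk) h1) hk
  -- the normal closure of `w` in `G0`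
  have hnc : Subgroup.normalClosure ({⟨w, hw0⟩} : Set G0) = ⊤ := by
    rcases IsSimpleGroup.eq_bot_or_eq_top_of_normal (Subgroup.normalClosure ({⟨w, hw0⟩} : Set G0))
      inferInstance with h | h
    · exfalso
      have h1 : (⟨w, hw0⟩ : G0) ∈ Subgroup.normalClosure ({⟨w, hw0⟩} : Set G0) :=
        Subgroup.subset_normalClosure (Set.mem_singleton _)
      rw [h, Subgroup.mem_bot] at h1
      have h2 : w = 1 := congrArg Subtype.val h1
      rw [h2, orderOf_one] at hw
      exact absurd hw (by norm_num)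
    · exact h
  have hall : ∀ x ∈ G0, g * x * g⁻¹ ∈ G0 := by
    let P : Subgroup G0 := (G0.comap (MulAut.conj g).toMonoidHom).comap G0.subtype
    have hP : Subgroup.normalClosure ({⟨w, hw0⟩} : Set G0) ≤ P := by
      rw [Subgroup.normalClosure, Subgroup.closure_le]
      intro x hx
      obtain ⟨y, hy, hyx⟩ := Group.mem_conjugatesOfSet_iff.1 hx
      rw [Set.mem_singleton_iff] at hy
      subst hy
      obtain ⟨c, rfl⟩ := isConj_iff.1 hyx
      exact key c c.2
    intro x hx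
    have h1 : (⟨x, hx⟩ : G0) ∈ P := hP (by rw [hnc]; trivial)
    exact h1
  -- so `g` normalises `G0`
  have hcard : G0.map (MulAut.conj g).toMonoidHom = G0 := by
    apply Subgroup.eq_of_le_of_card_ge
    · rintro _ ⟨x, hx, rfl⟩
      exact hall x hx
    · rw [Subgroup.card_map_of_injective (MulAut.conj g).injective]
  apply hg
  apply hfix
  have h1 : t ∈ G0.map (MulAut.conj g).toMonoidHom := by rw [hcard]; exact ht0
  obtain ⟨x, hx, hxt⟩ := h1
  have h2 : g * x * g⁻¹ = t := hxt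
  rw [← h2]
  have h3 : g⁻¹ * (g * x * g⁻¹) * g = x := by group
  rw [h3]
  exact hx

end Cfsg.Agent.HN.CloseFinal
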