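import Cfsg.Agent.HN.A12Group
import Cfsg.Agent.HN.SlpWords
set_option linter.all false

/-!
Word identities in the presented Harada-Norton group used in the closing argument, checked by a straight line program
in the 133-dimensional representation over the field with 31 elements (part D).
Letters: 0 = x, 1 = x⁻¹, 2 = y, 3 = y⁻¹, 4 = z, 6 = t, 7 = t⁻¹.
-/

set_option autoImplicit false

namespace Cfsg.Agent.HN.XIds

open Cfsg.Agent.Lib.PackMat Cfsg.Agent.Lib.PackMatGroup Cfsg.Agent.Lib.PackMatMul Cfsg.Agent.HN.RepData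
open Cfsg.Agent.HN.Rep (L LG gens rho)

/-- straight line program (results: newest first) -/
def wsD : List (ℕ × List ℕ) :=
  [(3, [3]),
    (3, [3]),
    (6, [1]),
    (7, [1]),
    (7, [8]),
    (11, [7]),
    (6, [4]),
    (10, [14]),
    (9, [7]),
    (6, [13]),
    (14, [12]),
    (14, [4]),
    (4, [7]),
    (0, [19]),
    (21, [3]),
    (0, [9]),
    (0, [10]),
    (0, [21]),
    (14, [20]),
    (26, [5]),
    (0, [19]),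
    (24, [27]),
    (18, [26]),
    (23, [19]),
    (0, [14]),
    (0, [16]),
    (0, [27]),
    (30, [24]),
    (25, [19]),
    (8, [24]),
    (0, [31]),
    (0, [22]),
    (0, [27]),
    (0, [11]),
    (0, [11]),
    (0, [27]),
    (0, [33]),
    (0, [32]),
    (0, [45]),
    (0, [41]),
    (0, [30]),
    (0, [47]),
    (35, [15]),
    (40, [15]),
    (0, [45]),
    (46, [46]),
    (27, [28]),
    (47, [48]),
    (48, [36, 46, 37, 19, 6, 5, 46, 46, 30]),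
    (45, [42, 30, 20, 41, 35, 37, 4, 51, 31]),
    (54, [38, 23, 29, 49, 7, 52, 54, 4, 3]),
    (55, [43, 28, 29, 32, 55, 45, 41, 58, 9, 49, 53, 44, 6, 39, 55, 23, 50, 52, 53, 5, 52, 4])]

/-- the results which have to be equal -/
def esD : List (ℕ × ℕ) := [(3, 4), (2, 4), (1, 4), (0, 4)]

theorem checkD : checkS C wsD esD [] L = true := by decide +kernel

theorem eq_allD : ∀ q ∈ esD, (runG wsD LG).getD q.1 1 = (runG wsD LG).getD q.2 1 :=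
  (checkS_sound (good_of_check Rep.good) A12Group.codesR checkD (by decide +kernel)).1

/-- word h3 -/
def w_h3 : List ℕ := [0, 3, 0, 2, 2, 2, 2, 4, 2, 4, 3, 3, 1, 3, 3, 7, 3, 7, 3, 4, 6, 3, 3, 3, 4, 1, 1, 3, 3, 3, 4, 3, 6, 4, 2, 2, 4, 3, 7, 4, 3, 3, 3, 4, 7, 2, 4, 3, 3, 4, 6, 0, 2, 2, 0, 4, 2, 2, 4, 3, 3, 4, 1, 3, 3, 1, 2, 2, 2, 2, 7, 4, 2, 6, 2, 6, 2, 4]
theorem h3 [IsSimpleGroup Cfsg.Spor.HN] : evG gens w_h3 = 1 :=
  SlpWords.eq_one wsD eq_allD (q := (3, 4)) (by decide) (by decide +kernel)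

/-- word h4 -/
def w_h4 : List ℕ := [4, 2, 2, 0, 2, 2, 4, 2, 2, 2, 4, 3, 3, 1, 3, 3, 3, 7, 3, 7, 3, 4, 6, 3, 0, 2, 2, 4, 3, 3, 3, 4, 3, 3, 1, 2, 7, 4, 2, 6, 2, 6, 2, 4]
theorem h4 [IsSimpleGroup Cfsg.Spor.HN] : evG gens w_h4 = 1 :=
  SlpWords.eq_one wsD eq_allD (q := (2, 4)) (by decide) (by decide +kernel)

/-- word h5 -/
def w_h5 : List ℕ := [4, 3, 0, 2, 2, 0, 4, 2, 2, 4, 3, 3, 4, 1, 3, 3, 1, 7, 3, 7, 3, 4, 6, 3, 3, 3, 3, 0, 2, 2, 0, 4, 2, 2, 4, 3, 3, 4, 1, 3, 3, 1, 2, 4, 1, 1, 4, 2, 2, 2, 7, 4, 2, 6, 2, 6, 2, 4]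
theorem h5 [IsSimpleGroup Cfsg.Spor.HN] : evG gens w_h5 = 1 :=
  SlpWords.eq_one wsD eq_allD (q := (1, 4)) (by decide) (by decide +kernel)

/-- word h7 -/
def w_h7 : List ℕ := [4, 3, 7, 4, 2, 2, 4, 3, 6, 4, 2, 2, 2, 4, 6, 2, 4, 3, 3, 4, 7, 7, 3, 7, 3, 4, 6, 3, 3, 3, 4, 1, 1, 3, 3, 3, 4, 3, 6, 4, 2, 2, 4, 3, 7, 4, 3, 3, 3, 4, 7, 2, 4, 3, 3, 4, 6, 2, 2, 2, 0, 2, 2, 4, 3, 3, 3, 4, 3, 3, 1, 3, 0, 2, 2, 4, 3, 4, 3, 3, 3, 3, 1, 2, 1, 1, 1, 4, 2, 2, 2, 7, 4, 2, 6, 2, 6, 2, 4]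
theorem h7 [IsSimpleGroup Cfsg.Spor.HN] : evG gens w_h7 = 1 :=
  SlpWords.eq_one wsD eq_allD (q := (0, 4)) (by decide) (by decide +kernel)

end Cfsg.Agent.HN.XIds
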