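import Cfsg.Agent.HN.Rep
import Cfsg.Agent.Lib.PackMatMul
set_option linter.all false

/-!
# Reduced packed matrices of the generators of HN
-/

set_option autoImplicit false

namespace Cfsg.Agent.HN.Red

open Cfsg.Agent.Lib.PackMat Cfsg.Agent.Lib.PackMatGroup Cfsg.Agent.Lib.PackMatMul
open Cfsg.Agent.HN.RepData Cfsg.Agent.HN.Rep

theorem hgood : Good C := good_of_check good

theorem redX : redC C X = true := by decide +kernel
theorem redXI : redC C XI = true := by decide +kernel
theorem redY : redC C Y = true := by decide +kernel
theorem redYI : redC C YI = true := by decide +kernel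
theorem redZ : redC C Z = true := by decide +kernel
theorem redT : redC C T = true := by decide +kernel
theorem redTI : redC C TI = true := by decide +kernel

/-- The reduced packed matrices of the letters. -/
theorem codesR : List.Forall₂ (CodesR C) LG L := by
  have h := codes
  unfold LG L at h ⊢
  simp only [List.forall₂_cons, List.forall₂_nil_right_iff, and_true] at h ⊢
  obtain ⟨h1, h2, h3, h4, h5, h6, h7, h8⟩ := h
  exact ⟨Codes.red hgood h1 redX, Codes.red hgood h2 redXI, Codes.red hgood h3 redY, Codes.red hgood h4 redYI,
    Codes.red hgood h5 redZ, Codes.red hgood h6 redZ, Codes.red hgood h7 redT, Codes.red hgood h8 redTI⟩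

end Cfsg.Agent.HN.Red
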