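import Cfsg.Agent.HN.Local
set_option linter.all false

-- part: HN/LocalX
section
/-!
# The element of order three centralising `ι(A8)`
-/

set_option autoImplicit false

namespace Cfsg.Agent.HN.LocalX

open Equiv Cfsg.Agent.HN.Local

/-- Every automorphism of `A8` is conjugation by an element of `S8`. -/
def AutStatement : Prop :=
  ∀ f : A8 ≃* A8, ∃ p : Perm (Fin 8), ∀ s : A8, ((f s : A8) : Perm (Fin 8)) = p * (s : Perm (Fin 8)) * p⁻¹

theorem a8_gen (S : Subgroup A8) (h : ∀ s : A8, s ^ 3 = 1 → s ∈ S) : S = ⊤ := by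
  rw [eq_top_iff]
  have h1 : alternatingGroup (Fin 8) ≤ S.map (alternatingGroup (Fin 8)).subtype := by
    refine Perm.closure_three_cycles_eq_alternating.symm.le.trans ((Subgroup.closure_le _).mpr ?_)
    intro σ hσ
    have h3 : σ ^ 3 = 1 := by
      have := pow_orderOf_eq_one σ
      rwa [Perm.IsThreeCycle.orderOf hσ] at this
    refine ⟨⟨σ, Perm.IsThreeCycle.mem_alternatingGroup hσ⟩, h _ (Subtype.ext h3), rfl⟩
  intro s _
  obtain ⟨s', hs', hss⟩ := h1 s.2
  have : s' = s := Subtype.ext hss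
  rwa [← this]

variable {G : Type*} [Group G] {t z : G} {ι : A8 →* G}

theorem exists_quad (L : Loc t z ι) (hAut : AutStatement) : ∃ x, Quad t z ι x := by
  obtain ⟨h, h1, h2⟩ := L.fus z (t * z) L.hv (L.toCent.four_sq (Or.inr (Or.inr (Or.inr rfl))))
    (by rw [← mul_assoc, L.comm]) (fun h => L.u1 (right_eq_mul.mp h)) L.zt L.tzt
    (by rw [L.comm, ← mul_assoc, L.hv, one_mul])
  obtain ⟨q, rfl⟩ : ∃ q, h = q⁻¹ := ⟨h⁻¹, (inv_inv h).symm⟩
  rw [inv_inv] at h1 h2
  have q1 : q * t * q⁻¹ = z := by rw [← h1]; group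
  have q2 : q * z * q⁻¹ = t * z := by
    have h4 : q * (q⁻¹ * (t * z) * q) * q⁻¹ = t * z := by group
    rwa [h2] at h4
  have q3 : q * (t * z) * q⁻¹ = t := by
    calc q * (t * z) * q⁻¹ = (q * t * q⁻¹) * (q * z * q⁻¹) := by group
      _ = z * (t * z) := by rw [q1, q2]
      _ = t := by rw [← mul_assoc, ← L.comm, mul_assoc, L.hv, mul_one]
  have key : ∀ s : A8, q * ι s * q⁻¹ ∈ ι.range := by
    let S : Subgroup A8 := (ι.range.comap (MulAut.conj q).toMonoidHom).comap ι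
    have hS : S = ⊤ := by
      apply a8_gen
      intro s hs
      show q * ι s * q⁻¹ ∈ ι.range
      have i1 : Commute (q * ι s * q⁻¹) z := by
        have := (L.cu s).symm.map (MulAut.conj q).toMonoidHom
        simp only [MulEquiv.toMonoidHom_eq_coe, MonoidHom.coe_coe, MulAut.conj_apply] at this
        rwa [q1] at this
      have i2 : Commute (q * ι s * q⁻¹) t := by
        have := ((L.cu s).symm.mul_right (L.cv s).symm).map (MulAut.conj q).toMonoidHom
        simp only [MulEquiv.toMonoidHom_eq_coe, MonoidHom.coe_coe, MulAut.conj_apply] at this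
        rwa [q3] at this
      have i3 : (q * ι s * q⁻¹) ^ 3 = 1 := by
        rw [conj_pow, ← map_pow, hs, map_one, mul_one, mul_inv_cancel]
      obtain ⟨s', -, hs'⟩ := L.toCent.cube i2 i1 i3
      exact ⟨s', hs'.symm⟩
    intro s
    have : s ∈ S := by rw [hS]; exact Subgroup.mem_top _
    exact this
  choose f hf using key
  let F : A8 →* A8 :=
    { toFun := f
      map_one' := L.inj (by rw [hf, map_one, mul_one, mul_inv_cancel])
      map_mul' := fun a b => L.inj (by rw [hf, map_mul, map_mul, hf, hf]; group) }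
  have hFinj : Function.Injective F := by
    intro a b hab
    apply L.inj
    have h1 : q * ι a * q⁻¹ = q * ι b * q⁻¹ := by rw [← hf, ← hf]; exact congrArg ι hab
    simpa using h1
  let E : A8 ≃* A8 := MulEquiv.ofBijective F ⟨hFinj, Finite.surjective_of_injective hFinj⟩
  obtain ⟨p, hp⟩ := hAut E
  let e : A8 := ⟨p ^ 2, Perm.mem_alternatingGroup.mpr (by rw [map_pow]; exact Int.units_sq _)⟩
  have hE : ∀ s, ι (E s) = q * ι s * q⁻¹ := fun s => hf s
  have hEE : ∀ s : A8, E (E s) = e * s * e⁻¹ := by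
    intro s
    apply Subtype.ext
    rw [hp, hp]
    show p * (p * (s : Perm (Fin 8)) * p⁻¹) * p⁻¹ = p ^ 2 * (s : Perm (Fin 8)) * (p ^ 2)⁻¹
    rw [pow_two]; group
  have hq2 : ∀ s, q ^ 2 * ι s * (q ^ 2)⁻¹ = ι (e * s * e⁻¹) := by
    intro s
    rw [← hEE, hE, hE, pow_two]; group
  have hq4 : ∀ s, q ^ 4 * ι s * (q ^ 4)⁻¹ = ι ((e * e) * s * (e * e)⁻¹) := by
    intro s
    have : q ^ 4 * ι s * (q ^ 4)⁻¹ = q ^ 2 * (q ^ 2 * ι s * (q ^ 2)⁻¹) * (q ^ 2)⁻¹ := by
      rw [show (4 : ℕ) = 2 + 2 from rfl, pow_add]; group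
    rw [this, hq2, hq2]; congr 1
  have q4t : q ^ 4 * t * (q ^ 4)⁻¹ = z := by
    calc q ^ 4 * t * (q ^ 4)⁻¹ = q * (q * (q * (q * t * q⁻¹) * q⁻¹) * q⁻¹) * q⁻¹ := by
          rw [pow_succ, pow_succ, pow_two]; group
      _ = z := by rw [q1, q2, q3, q1]
  have q4z : q ^ 4 * z * (q ^ 4)⁻¹ = t * z := by
    calc q ^ 4 * z * (q ^ 4)⁻¹ = q * (q * (q * (q * z * q⁻¹) * q⁻¹) * q⁻¹) * q⁻¹ := by
          rw [pow_succ, pow_succ, pow_two]; group
      _ = t * z := by rw [q2, q3, q1, q2]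
  have xt : (q ^ 4 * (ι (e * e))⁻¹) * t * (q ^ 4 * (ι (e * e))⁻¹)⁻¹ = z := by
    have h1 : Commute (ι (e * e))⁻¹ t := (L.cu (e * e)).symm.inv_left
    calc (q ^ 4 * (ι (e * e))⁻¹) * t * (q ^ 4 * (ι (e * e))⁻¹)⁻¹
        = q ^ 4 * ((ι (e * e))⁻¹ * t) * ι (e * e) * (q ^ 4)⁻¹ := by group
      _ = q ^ 4 * t * (q ^ 4)⁻¹ := by rw [h1.eq]; group
      _ = z := q4t
  have xz : (q ^ 4 * (ι (e * e))⁻¹) * z * (q ^ 4 * (ι (e * e))⁻¹)⁻¹ = t * z := by
    have h1 : Commute (ι (e * e))⁻¹ z := (L.cv (e * e)).symm.inv_left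
    calc (q ^ 4 * (ι (e * e))⁻¹) * z * (q ^ 4 * (ι (e * e))⁻¹)⁻¹
        = q ^ 4 * ((ι (e * e))⁻¹ * z) * ι (e * e) * (q ^ 4)⁻¹ := by group
      _ = q ^ 4 * z * (q ^ 4)⁻¹ := by rw [h1.eq]; group
      _ = t * z := q4z
  have cx : ∀ s, Commute (q ^ 4 * (ι (e * e))⁻¹) (ι s) := by
    intro s
    have h1 : (q ^ 4 * (ι (e * e))⁻¹) * ι s * (q ^ 4 * (ι (e * e))⁻¹)⁻¹ = ι s := by
      calc (q ^ 4 * (ι (e * e))⁻¹) * ι s * (q ^ 4 * (ι (e * e))⁻¹)⁻¹
          = q ^ 4 * ι ((e * e)⁻¹ * s * (e * e)) * (q ^ 4)⁻¹ := by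
            rw [map_mul ι _ (e * e), map_mul ι _ s, map_inv]; group
        _ = ι s := by rw [hq4]; congr 1; group
    show _ * _ = _ * _
    conv_rhs => rw [← h1]
    group
  set x := q ^ 4 * (ι (e * e))⁻¹ with hx
  have xtz : x * (t * z) * x⁻¹ = t := by
    calc x * (t * z) * x⁻¹ = (x * t * x⁻¹) * (x * z * x⁻¹) := by group
      _ = z * (t * z) := by rw [xt, xz]
      _ = t := by rw [← mul_assoc, ← L.comm, mul_assoc, L.hv, mul_one]
  refine ⟨x, L.toCent, ?_, cx, xt, xz⟩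
  have c1 : Commute (x ^ 3) t := by
    have : x ^ 3 * t * (x ^ 3)⁻¹ = t := by
      calc x ^ 3 * t * (x ^ 3)⁻¹ = x * (x * (x * t * x⁻¹) * x⁻¹) * x⁻¹ := by
            rw [pow_succ, pow_two]; group
        _ = t := by rw [xt, xz, xtz]
    show _ * _ = _ * _
    conv_rhs => rw [← this]
    group
  have c2 : Commute (x ^ 3) z := by
    have : x ^ 3 * z * (x ^ 3)⁻¹ = z := by
      calc x ^ 3 * z * (x ^ 3)⁻¹ = x * (x * (x * z * x⁻¹) * x⁻¹) * x⁻¹ := by
            rw [pow_succ, pow_two]; group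
        _ = z := by rw [xz, xtz, xt]
    show _ * _ = _ * _
    conv_rhs => rw [← this]
    group
  obtain ⟨k, hk, s, hs⟩ := L.cent _ c1 c2
  have s1 : s = 1 := by
    apply a8_center
    intro r
    apply L.toCent.commute_of_iota
    have : ι s = k⁻¹ * x ^ 3 := by rw [hs]; group
    rw [this]
    exact (L.toCent.four_iota hk r).inv_left.mul_left ((cx r).pow_left 3)
  rw [s1, map_one, mul_one] at hs
  have hkx : Commute x k := by rw [← hs]; exact (Commute.refl x).pow_right 3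
  have h' : x * k * x⁻¹ = k := by rw [hkx.eq]; group
  rw [hs]
  rcases hk with rfl | rfl | rfl | rfl
  · rfl
  · rw [xt] at h'; exact absurd h'.symm L.ne
  · rw [xz] at h'
    exact absurd (mul_eq_right.mp h') L.u1
  · rw [xtz] at h'
    exact absurd (left_eq_mul.mp h') L.v1

end Cfsg.Agent.HN.LocalX
end

-- part: HN/A8Facts
section
/-!
# Finite facts about `A8` used in the local argument
-/

set_option autoImplicit false

namespace Cfsg.Agent.HN.A8Facts

open Equiv Cfsg.Agent.HN.Local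

theorem comm_apply {a b : A8} (h : Commute a b) (i : Fin 8) :
    (a : Perm (Fin 8)) ((b : Perm (Fin 8)) i) = (b : Perm (Fin 8)) ((a : Perm (Fin 8)) i) := by
  have h1 : (a * b : A8) = b * a := h.eq
  exact congrArg (fun s : A8 => (s : Perm (Fin 8)) i) h1

theorem ext8 {a b : A8} (h : ∀ i, (a : Perm (Fin 8)) i = (b : Perm (Fin 8)) i) : a = b :=
  Subtype.ext (Equiv.ext h)

/-- If `l` commutes with `a` and `b`, it fixes the unique point fixed by `a` and moved by `b`. -/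
theorem fix_of {l a b : A8} (ha : Commute l a) (hb : Commute l b) (j : Fin 8)
    (hj : (a : Perm (Fin 8)) j = j) (hj' : (b : Perm (Fin 8)) j ≠ j)
    (hu : ∀ i, (a : Perm (Fin 8)) i = i → (b : Perm (Fin 8)) i ≠ i → i = j) : (l : Perm (Fin 8)) j = j := by
  apply hu
  · rw [← comm_apply ha, hj]
  · intro h
    rw [← comm_apply hb] at h
    exact hj' ((l : Perm (Fin 8)).injective h)

theorem cen4 {l : A8} (h1 : Commute l c2) (h2 : Commute l c3) (h3 : Commute l d6) (h4 : Commute l d7) : l = 1 := by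
  have e3 := fix_of h1 h2 3 (by decide) (by decide) (by decide)
  have e2 := fix_of h2 h1 2 (by decide) (by decide) (by decide)
  have e7 := fix_of h3 h4 7 (by decide) (by decide) (by decide)
  have e6 := fix_of h4 h3 6 (by decide) (by decide) (by decide)
  have e0 : (l : Perm (Fin 8)) 0 = 0 := by
    have := comm_apply h2 3
    rw [e3] at this
    exact this
  have e1 : (l : Perm (Fin 8)) 1 = 1 := by
    have := comm_apply h2 0
    rw [e0] at this
    exact this
  have e4 : (l : Perm (Fin 8)) 4 = 4 := by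
    have := comm_apply h4 7
    rw [e7] at this
    exact this
  have e5 : (l : Perm (Fin 8)) 5 = 5 := by
    have := comm_apply h4 4
    rw [e4] at this
    exact this
  apply ext8
  intro i
  fin_cases i
  · exact e0
  · exact e1
  · exact e2
  · exact e3
  · exact e4
  · exact e5
  · exact e6
  · exact e7

theorem cube_apply {s : A8} (h : s ^ 3 = 1) (i : Fin 8) :
    (s : Perm (Fin 8)) ((s : Perm (Fin 8)) ((s : Perm (Fin 8)) i)) = i :=
  congrArg (fun s : A8 => (s : Perm (Fin 8)) i) h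

theorem pair_fix {s : A8} (h : s ^ 3 = 1) {i j : Fin 8} (hij : i ≠ j)
    (hi : (s : Perm (Fin 8)) i = i ∨ (s : Perm (Fin 8)) i = j)
    (hj : (s : Perm (Fin 8)) j = i ∨ (s : Perm (Fin 8)) j = j) : (s : Perm (Fin 8)) i = i := by
  rcases hi with hi | hi
  · exact hi
  · exfalso
    rcases hj with hj | hj
    · have := cube_apply h i
      rw [hi, hj, hi] at this
      exact hij this.symm
    · exact hij ((s : Perm (Fin 8)).injective (hi.trans hj.symm))

theorem no3 {s : A8} (h : s ^ 3 = 1) (h1 : Commute s f1) (h2 : Commute s b0) : s = 1 := by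
  have key : ∀ i : Fin 8, ((f1 : Perm (Fin 8)) i = i ↔ (f1 : Perm (Fin 8)) ((s : Perm (Fin 8)) i) = (s : Perm (Fin 8)) i) ∧
      ((b0 : Perm (Fin 8)) i = i ↔ (b0 : Perm (Fin 8)) ((s : Perm (Fin 8)) i) = (s : Perm (Fin 8)) i) := by
    intro i
    rw [← comm_apply h1, ← comm_apply h2]
    exact ⟨⟨fun h => by rw [h], fun h => (s : Perm (Fin 8)).injective h⟩,
      ⟨fun h => by rw [h], fun h => (s : Perm (Fin 8)).injective h⟩⟩
  have dec : ∀ i k : Fin 8, ((f1 : Perm (Fin 8)) i = i ↔ (f1 : Perm (Fin 8)) k = k) →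
      ((b0 : Perm (Fin 8)) i = i ↔ (b0 : Perm (Fin 8)) k = k) → k / 2 = i / 2 := by decide
  have h3 : ∀ i, (s : Perm (Fin 8)) i / 2 = i / 2 := fun i => dec _ _ (key i).1 (key i).2
  have dec2 : ∀ i k : Fin 8, k / 2 = i / 2 → ∀ j : Fin 8, j / 2 = i / 2 → i ≠ j → k = i ∨ k = j := by decide
  have dec3 : ∀ i : Fin 8, ∃ j : Fin 8, j / 2 = i / 2 ∧ i ≠ j := by decide
  apply ext8
  intro i
  obtain ⟨j, hj1, hj2⟩ := dec3 i
  have a1 := dec2 i _ (h3 i) j hj1 hj2
  have a2 := dec2 i _ ((h3 j).trans hj1) j hj1 hj2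
  exact pair_fix h hj2 a1 a2

/-- A self map of the eight points fixing 4, 5, 6. -/
def tab (a b c d e : Fin 8) : Fin 8 → Fin 8 := ![a, b, c, d, 4, 5, 6, e]

set_option synthInstance.maxHeartbeats 400000 in
set_option synthInstance.maxSize 4000 in
theorem uniq {s : A8} (h : s ^ 3 = 1) (h1 : (c2 * s) ^ 2 = 1) (h2 : (c3 * s) ^ 2 = 1) (h3 : Commute s d6) :
    s = c7 := by
  have k1 : ∀ i, (c2 : Perm (Fin 8)) ((s : Perm (Fin 8)) ((c2 : Perm (Fin 8)) ((s : Perm (Fin 8)) i))) = i :=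
    fun i => congrArg (fun s : A8 => (s : Perm (Fin 8)) i) h1
  have k2 : ∀ i, (c3 : Perm (Fin 8)) ((s : Perm (Fin 8)) ((c3 : Perm (Fin 8)) ((s : Perm (Fin 8)) i))) = i :=
    fun i => congrArg (fun s : A8 => (s : Perm (Fin 8)) i) h2
  have k3 := cube_apply h
  -- `s` fixes 4, 5, 6
  have m4 : ∀ i : Fin 8, (d6 : Perm (Fin 8)) i ≠ i → (d6 : Perm (Fin 8)) ((s : Perm (Fin 8)) i) ≠ (s : Perm (Fin 8)) i := by
    intro i hi h
    rw [← comm_apply h3] at h
    exact hi ((s : Perm (Fin 8)).injective h)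
  have dec : ∀ i : Fin 8, (d6 : Perm (Fin 8)) i ≠ i → (c2 : Perm (Fin 8)) i = i := by decide
  have f456 : ∀ i : Fin 8, (d6 : Perm (Fin 8)) i ≠ i → (s : Perm (Fin 8)) i = i := by
    intro i hi
    have a1 := m4 i hi
    have a2 := m4 _ a1
    have a3 := k1 i
    rw [dec _ a1, dec _ a2] at a3
    have a4 := k3 i
    rw [a3] at a4
    exact a4
  have e4 := f456 4 (by decide)
  have e5 := f456 5 (by decide)
  have e6 := f456 6 (by decide)
  -- the remaining five points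
  have inj := (s : Perm (Fin 8)).injective
  have n0 : ∀ i : Fin 8, i ≠ 4 → i ≠ 5 → i ≠ 6 → (s : Perm (Fin 8)) i ≠ 4 ∧ (s : Perm (Fin 8)) i ≠ 5 ∧
      (s : Perm (Fin 8)) i ≠ 6 := by
    intro i h4 h5 h6
    exact ⟨fun h => h4 (inj (h.trans e4.symm)), fun h => h5 (inj (h.trans e5.symm)),
      fun h => h6 (inj (h.trans e6.symm))⟩
  have main : ∀ a : Fin 8, (a ≠ 4 ∧ a ≠ 5 ∧ a ≠ 6) → ∀ b : Fin 8, (b ≠ 4 ∧ b ≠ 5 ∧ b ≠ 6) → a ≠ b →
      ∀ c : Fin 8, (c ≠ 4 ∧ c ≠ 5 ∧ c ≠ 6) → a ≠ c → b ≠ c → ∀ d : Fin 8, (d ≠ 4 ∧ d ≠ 5 ∧ d ≠ 6) → a ≠ d → b ≠ d →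
      c ≠ d → ∀ e : Fin 8, (e ≠ 4 ∧ e ≠ 5 ∧ e ≠ 6) → a ≠ e → b ≠ e → c ≠ e → d ≠ e →
      (∀ i, (c2 : Perm (Fin 8)) (tab a b c d e ((c2 : Perm (Fin 8)) (tab a b c d e i))) = i) →
      (∀ i, (c3 : Perm (Fin 8)) (tab a b c d e ((c3 : Perm (Fin 8)) (tab a b c d e i))) = i) →
      (∀ i, tab a b c d e (tab a b c d e (tab a b c d e i)) = i) →
      ∀ i, tab a b c d e i = (c7 : Perm (Fin 8)) i := by decide +kernel
  have ht : ∀ i, tab ((s : Perm (Fin 8)) 0) ((s : Perm (Fin 8)) 1) ((s : Perm (Fin 8)) 2) ((s : Perm (Fin 8)) 3)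
      ((s : Perm (Fin 8)) 7) i = (s : Perm (Fin 8)) i := by
    intro i
    fin_cases i
    · rfl
    · rfl
    · rfl
    · rfl
    · exact e4.symm
    · exact e5.symm
    · exact e6.symm
    · rfl
  have hij : ∀ i j : Fin 8, i ≠ j → (s : Perm (Fin 8)) i ≠ (s : Perm (Fin 8)) j := fun i j h h' => h (inj h')
  have fin := main ((s : Perm (Fin 8)) 0) (n0 0 (by decide) (by decide) (by decide))
    ((s : Perm (Fin 8)) 1) (n0 1 (by decide) (by decide) (by decide)) (hij _ _ (by decide))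
    ((s : Perm (Fin 8)) 2) (n0 2 (by decide) (by decide) (by decide)) (hij _ _ (by decide)) (hij _ _ (by decide))
    ((s : Perm (Fin 8)) 3) (n0 3 (by decide) (by decide) (by decide)) (hij _ _ (by decide)) (hij _ _ (by decide))
      (hij _ _ (by decide))
    ((s : Perm (Fin 8)) 7) (n0 7 (by decide) (by decide) (by decide)) (hij _ _ (by decide)) (hij _ _ (by decide))
      (hij _ _ (by decide)) (hij _ _ (by decide))
    (by intro i; rw [ht, ht]; exact k1 i) (by intro i; rw [ht, ht]; exact k2 i)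
    (by intro i; rw [ht, ht, ht]; exact k3 i)
  apply ext8
  intro i
  rw [← ht]
  exact fin i

/-! ### Generation of the point stabiliser -/

/-- `(0 1 4)` -/
def c4 : A8 := mk (swap 0 1 * swap 1 4) (by decide)
/-- `(0 1 5)` -/
def c5 : A8 := mk (swap 0 1 * swap 1 5) (by decide)

theorem sift (S : Subgroup A8) (j : Fin 8)
    (T : ∀ i : Fin 8, i ≤ j → ∃ g ∈ S, (g : Perm (Fin 8)) i = j ∧ ∀ k > j, (g : Perm (Fin 8)) k = k)
    (s : A8) (hs : ∀ k > j, (s : Perm (Fin 8)) k = k) :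
    ∃ g ∈ S, ∀ k ≥ j, ((g * s : A8) : Perm (Fin 8)) k = k := by
  have h1 : (s : Perm (Fin 8)) j ≤ j := by
    by_contra h
    have h2 := hs _ (not_le.mp h)
    exact h ((s : Perm (Fin 8)).injective h2).le
  obtain ⟨g, hg, hg1, hg2⟩ := T _ h1
  refine ⟨g, hg, ?_⟩
  intro k hk
  rcases hk.lt_or_eq with hk | hk
  · show (g : Perm (Fin 8)) ((s : Perm (Fin 8)) k) = k
    rw [hs k hk, hg2 k hk]
  · subst hk
    exact hg1

theorem stab_le (S : Subgroup A8) (h1 : f1 ∈ S) (h2 : f2 ∈ S) (h3 : c2 ∈ S) (h4 : d6 ∈ S) (h5 : b0 ∈ S)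
    (h6 : rho ∈ S) (s : A8) (hs : (s : Perm (Fin 8)) 7 = 7) : s ∈ S := by
  have g2 : c2 ∈ S := h3
  have g3 : c3 ∈ S := by
    have : c3 = (f1 * c2 * f1)⁻¹ := by decide
    rw [this]
    exact S.inv_mem (S.mul_mem (S.mul_mem h1 h3) h1)
  have g4 : c4 ∈ S := by
    have : c4 = f2 * (rho * c2 * rho⁻¹) * f2 := by decide
    rw [this]
    exact S.mul_mem (S.mul_mem h2 (S.mul_mem (S.mul_mem h6 h3) (S.inv_mem h6))) h2
  have g5 : c5 ∈ S := by
    have : c5 = (b0 * c4 * b0)⁻¹ := by decide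
    rw [this]
    exact S.inv_mem (S.mul_mem (S.mul_mem h5 g4) h5)
  have g6 : c6 ∈ S := by
    have : c6 = d6 * c5 * d6⁻¹ := by decide
    rw [this]
    exact S.mul_mem (S.mul_mem h4 g5) (S.inv_mem h4)
  have i2 := S.inv_mem g2
  have i3 := S.inv_mem g3
  have i4 := S.inv_mem g4
  have i5 := S.inv_mem g5
  have i6 := S.inv_mem g6
  -- sift
  obtain ⟨x6, hx6, s6⟩ := sift S 6 (by
    intro i hi
    have : ∀ i : Fin 8, i ≤ 6 → i = 0 ∨ i = 1 ∨ i = 2 ∨ i = 3 ∨ i = 4 ∨ i = 5 ∨ i = 6 := by decide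
    rcases this i hi with rfl | rfl | rfl | rfl | rfl | rfl | rfl
    · exact ⟨c6⁻¹, i6, by decide, by decide⟩
    · exact ⟨c6, g6, by decide, by decide⟩
    · exact ⟨c6⁻¹ * c2, S.mul_mem i6 g2, by decide, by decide⟩
    · exact ⟨c6⁻¹ * c3, S.mul_mem i6 g3, by decide, by decide⟩
    · exact ⟨c6⁻¹ * c4, S.mul_mem i6 g4, by decide, by decide⟩
    · exact ⟨c6⁻¹ * c5, S.mul_mem i6 g5, by decide, by decide⟩
    · exact ⟨1, S.one_mem, rfl, fun k _ => rfl⟩) s (by
    intro k hk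
    have : ∀ k : Fin 8, k > 6 → k = 7 := by decide
    rw [this k hk, hs])
  obtain ⟨x5, hx5, s5⟩ := sift S 5 (by
    intro i hi
    have : ∀ i : Fin 8, i ≤ 5 → i = 0 ∨ i = 1 ∨ i = 2 ∨ i = 3 ∨ i = 4 ∨ i = 5 := by decide
    rcases this i hi with rfl | rfl | rfl | rfl | rfl | rfl
    · exact ⟨c5⁻¹, i5, by decide, by decide⟩
    · exact ⟨c5, g5, by decide, by decide⟩
    · exact ⟨c5⁻¹ * c2, S.mul_mem i5 g2, by decide, by decide⟩
    · exact ⟨c5⁻¹ * c3, S.mul_mem i5 g3, by decide, by decide⟩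
    · exact ⟨c5⁻¹ * c4, S.mul_mem i5 g4, by decide, by decide⟩
    · exact ⟨1, S.one_mem, rfl, fun k _ => rfl⟩) (x6 * s) (by
    intro k hk
    have : ∀ k : Fin 8, k > 5 → k ≥ 6 := by decide
    exact s6 k (this k hk))
  obtain ⟨x4, hx4, s4⟩ := sift S 4 (by
    intro i hi
    have : ∀ i : Fin 8, i ≤ 4 → i = 0 ∨ i = 1 ∨ i = 2 ∨ i = 3 ∨ i = 4 := by decide
    rcases this i hi with rfl | rfl | rfl | rfl | rfl
    · exact ⟨c4⁻¹, i4, by decide, by decide⟩
    · exact ⟨c4, g4, by decide, by decide⟩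
    · exact ⟨c4⁻¹ * c2, S.mul_mem i4 g2, by decide, by decide⟩
    · exact ⟨c4⁻¹ * c3, S.mul_mem i4 g3, by decide, by decide⟩
    · exact ⟨1, S.one_mem, rfl, fun k _ => rfl⟩) (x5 * (x6 * s)) (by
    intro k hk
    have : ∀ k : Fin 8, k > 4 → k ≥ 5 := by decide
    exact s5 k (this k hk))
  obtain ⟨x3, hx3, s3⟩ := sift S 3 (by
    intro i hi
    have : ∀ i : Fin 8, i ≤ 3 → i = 0 ∨ i = 1 ∨ i = 2 ∨ i = 3 := by decide
    rcases this i hi with rfl | rfl | rfl | rfl
    · exact ⟨c3⁻¹, i3, by decide, by decide⟩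
    · exact ⟨c3, g3, by decide, by decide⟩
    · exact ⟨c3⁻¹ * c2, S.mul_mem i3 g2, by decide, by decide⟩
    · exact ⟨1, S.one_mem, rfl, fun k _ => rfl⟩) (x4 * (x5 * (x6 * s))) (by
    intro k hk
    have : ∀ k : Fin 8, k > 3 → k ≥ 4 := by decide
    exact s4 k (this k hk))
  obtain ⟨x2, hx2, s2⟩ := sift S 2 (by
    intro i hi
    have : ∀ i : Fin 8, i ≤ 2 → i = 0 ∨ i = 1 ∨ i = 2 := by decide
    rcases this i hi with rfl | rfl | rfl
    · exact ⟨c2⁻¹, i2, by decide, by decide⟩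
    · exact ⟨c2, g2, by decide, by decide⟩
    · exact ⟨1, S.one_mem, rfl, fun k _ => rfl⟩) (x3 * (x4 * (x5 * (x6 * s)))) (by
    intro k hk
    have : ∀ k : Fin 8, k > 2 → k ≥ 3 := by decide
    exact s3 k (this k hk))
  set w : A8 := x2 * (x3 * (x4 * (x5 * (x6 * s)))) with hw
  have w1 : w = 1 := by
    have winj := (w : Perm (Fin 8)).injective
    have h01 : ∀ i : Fin 8, ¬ i ≥ 2 → (w : Perm (Fin 8)) i = 0 ∨ (w : Perm (Fin 8)) i = 1 := by
      intro i hi
      have h01 : ∀ k : Fin 8, ¬ k ≥ 2 → k = 0 ∨ k = 1 := by decide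
      apply h01
      intro hk
      have := s2 _ hk
      rw [winj this] at hk
      exact hi hk
    have cov : ∀ i : Fin 8, i = 0 ∨ i = 1 ∨ i ≥ 2 := by decide
    rcases h01 0 (by decide) with h0 | h0
    · have h1' : (w : Perm (Fin 8)) 1 = 1 := by
        rcases h01 1 (by decide) with h1' | h1'
        · exact absurd (winj (h0.trans h1'.symm)) (by decide)
        · exact h1'
      apply ext8
      intro i
      rcases cov i with rfl | rfl | hi
      · exact h0
      · exact h1'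
      · exact s2 i hi
    · exfalso
      have h1' : (w : Perm (Fin 8)) 1 = 0 := by
        rcases h01 1 (by decide) with h1' | h1'
        · exact h1'
        · exact absurd (winj (h0.trans h1'.symm)) (by decide)
      have hw' : (w : Perm (Fin 8)) = swap 0 1 := by
        apply Equiv.ext
        intro i
        rcases cov i with rfl | rfl | hi
        · rw [h0]; decide
        · rw [h1']; decide
        · rw [s2 i hi]
          revert i
          decide
      have hsgn := Perm.mem_alternatingGroup.mp w.2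
      rw [hw'] at hsgn
      exact absurd hsgn (by decide)
  have : s = x6⁻¹ * (x5⁻¹ * (x4⁻¹ * (x3⁻¹ * (x2⁻¹ * w)))) := by rw [hw]; group
  rw [this, w1, mul_one]
  exact S.mul_mem (S.inv_mem hx6) (S.mul_mem (S.inv_mem hx5) (S.mul_mem (S.inv_mem hx4)
    (S.mul_mem (S.inv_mem hx3) (S.inv_mem hx2))))

end Cfsg.Agent.HN.A8Facts
end

-- part: HN/LocalMain
section
/-!
# The local argument: the element `y` commuting with `ι(A7)`
-/

set_option autoImplicit false

namespace Cfsg.Agent.HN.LocalMain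

open Equiv Cfsg.Agent.HN.Local Cfsg.Agent.HN.LocalX Cfsg.Agent.HN.A8Facts

/-- Two commuting pairs of adjacent elements of order three of `A8` are standard up to conjugation in `S8`. -/
def LabelStatement : Prop :=
  ∀ a b c d : A8, a ^ 3 = 1 → b ^ 3 = 1 → c ^ 3 = 1 → d ^ 3 = 1 → a ≠ 1 → c ≠ 1 → (a * b) ^ 2 = 1 → a * b ≠ 1 →
    (c * d) ^ 2 = 1 → c * d ≠ 1 → Commute a c → Commute a d → Commute b c → Commute b d →
    ∃ p : Perm (Fin 8), p * (a : Perm (Fin 8)) * p⁻¹ = c2 ∧ p * (b : Perm (Fin 8)) * p⁻¹ = c3 ∧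
      p * (c : Perm (Fin 8)) * p⁻¹ = d6 ∧ p * (d : Perm (Fin 8)) * p⁻¹ = d7

variable {G : Type*} [Group G]

/-- The output of the local argument. -/
structure Out (t z : G) (ι : A8 →* G) (x y : G) : Prop extends Quad t z ι x where
  y3 : y ^ 3 = 1
  y1 : y ≠ 1
  xy : (x * y) ^ 2 = 1
  xdy : ((t * x⁻¹ * t) * y) ^ 2 = 1
  cy : ∀ s : A8, (s : Perm (Fin 8)) 7 = 7 → Commute y (ι s)
  yy : (y * (ι g0 * y * (ι g0)⁻¹)) ^ 2 = 1

theorem conj_f2 : c2 * f2 * c2⁻¹ = f1 := by decide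
theorem conj_f12 : c2⁻¹ * (f1 * f2) * (c2⁻¹)⁻¹ = f1 := by decide
theorem conj_b0 : (mk (swap 2 4 * swap 3 5) (by decide)) * b0 * (mk (swap 2 4 * swap 3 5) (by decide))⁻¹ = f1 := by
  decide
theorem conj_fb : (mk (swap 0 4 * swap 1 5) (by decide)) * (f1 * b0) * (mk (swap 0 4 * swap 1 5) (by decide))⁻¹ =
    f1 := by
  decide

theorem isConj_of {t : G} {ι : A8 →* G} (h : IsConj (ι f1) t) {g s : A8} (hg : g * s * g⁻¹ = f1) :
    IsConj (ι s) t := by
  refine IsConj.trans ?_ h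
  rw [isConj_iff]
  exact ⟨ι g, by rw [← map_inv, ← map_mul, ← map_mul, hg]⟩

theorem commute_conj {g a b : G} (h : Commute a b) : Commute (g * a * g⁻¹) (g * b * g⁻¹) := by
  have := h.map (MulAut.conj g).toMonoidHom
  simpa using this

/-- The four-group `⟨ι a, ι b⟩` gets a `Quad` structure. -/
theorem exists_quad_of {t z x : G} {ι : A8 →* G} (L : Loc t z ι) (Q : Quad t z ι x) (a b : A8)
    (ha : a * a = 1) (hb : b * b = 1) (hab : a * b = b * a) (hne : a ≠ b) (h1 : IsConj (ι a) t)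
    (h2 : IsConj (ι b) t) (h3 : IsConj (ι (a * b)) t) : ∃ ι' x', Quad (ι a) (ι b) ι' x' := by
  obtain ⟨h, e1, e2⟩ := L.fus (ι a) (ι b) (by rw [← map_mul, ha, map_one]) (by rw [← map_mul, hb, map_one])
    (by rw [← map_mul, hab, map_mul]) (fun h => hne (L.inj h)) h1 h2 (by rwa [← map_mul])
  have Q' := Q.map (MulAut.conj h⁻¹)
  have e1' : (MulAut.conj h⁻¹) t = ι a := by rw [MulAut.conj_apply, ← e1]; group
  have e2' : (MulAut.conj h⁻¹) z = ι b := by rw [MulAut.conj_apply, ← e2]; group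
  rw [e1', e2'] at Q'
  exact ⟨_, _, Q'⟩

theorem exists_out (hAut : AutStatement) (hLabel : LabelStatement) {t z : G} {ι : A8 →* G} (L : Loc t z ι) :
    ∃ x y, Out t z ι x y := by
  obtain ⟨x, Q⟩ := exists_quad L hAut
  -- the second element of order three of `J8`
  have htt : t⁻¹ = t := by rw [inv_eq_iff_mul_eq_one, L.hu]
  set xd : G := t * x⁻¹ * t with hxd
  have xd3 : xd ^ 3 = 1 := by
    have : xd = t * x⁻¹ * t⁻¹ := by rw [htt]
    rw [this, conj_pow, inv_pow, Q.x3]; group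
  have xxd : x * xd = z * t := by
    calc x * xd = (x * t * x⁻¹) * t := by rw [hxd]; group
      _ = z * t := by rw [Q.xu]
  have xxd2 : (x * xd) ^ 2 = 1 := by
    rw [xxd, pow_two, ← L.comm]
    exact L.toCent.four_sq (Or.inr (Or.inr (Or.inr rfl)))
  have xxd1 : x * xd ≠ 1 := by
    rw [xxd, ← L.comm]; exact L.toCent.uv_ne
  have cxd : ∀ s, Commute xd (ι s) := fun s =>
    ((L.cu s).mul_left (Q.cx s).inv_left).mul_left (L.cu s)
  have x1 : x ≠ 1 := by
    intro h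
    have := Q.xu
    rw [h] at this
    apply L.ne
    simpa using this
  -- the four-group F
  have cf1 : IsConj (ι f1) t := L.four
  have cf2 : IsConj (ι f2) t := isConj_of L.four conj_f2
  have cf12 : IsConj (ι (f1 * f2)) t := isConj_of L.four conj_f12
  obtain ⟨ι₀, x₀, Q₀⟩ := exists_quad_of L Q f1 f2 (by decide) (by decide) (by decide) (by decide) cf1 cf2 cf12
  have cc : ∀ a b : A8, a * b = b * a → Commute (ι a) (ι b) := fun a b h => by
    show ι a * ι b = ι b * ι a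
    rw [← map_mul, ← map_mul, h]
  obtain ⟨sa, sa3, hsa⟩ := Q₀.toCent.cube (Q.cx f1) (Q.cx f2) Q.x3
  obtain ⟨sb, sb3, hsb⟩ := Q₀.toCent.cube (cxd f1) (cxd f2) xd3
  obtain ⟨sc, sc3, hsc⟩ := Q₀.toCent.cube (g := ι d6) (cc d6 f1 (by decide)) (cc d6 f2 (by decide))
    (by rw [← map_pow, show d6 ^ 3 = 1 by decide, map_one])
  obtain ⟨sd, sd3, hsd⟩ := Q₀.toCent.cube (g := ι d7) (cc d7 f1 (by decide)) (cc d7 f2 (by decide))
    (by rw [← map_pow, show d7 ^ 3 = 1 by decide, map_one])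
  have inj₀ := Q₀.inj
  obtain ⟨p, pa, pb, pc, pd⟩ := hLabel sa sb sc sd sa3 sb3 sc3 sd3
    (fun h => x1 (by rw [hsa, h, map_one]))
    (fun h => by
      have : ι d6 = ι 1 := by rw [hsc, h, map_one, map_one]
      exact absurd (L.inj this) (by decide))
    (inj₀ (by rw [map_pow, map_mul, ← hsa, ← hsb, xxd2, map_one]))
    (fun h => xxd1 (by rw [hsa, hsb, ← map_mul, h, map_one]))
    (inj₀ (by rw [map_pow, map_mul, ← hsc, ← hsd, ← map_mul, ← map_pow, show (d6 * d7) ^ 2 = 1 by decide,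
      map_one, map_one]))
    (fun h => by
      have : ι (d6 * d7) = ι 1 := by rw [map_mul, hsc, hsd, ← map_mul, h, map_one, map_one]
      exact absurd (L.inj this) (by decide))
    (Q₀.toCent.commute_of_iota (by rw [← hsa, ← hsc]; exact Q.cx d6))
    (Q₀.toCent.commute_of_iota (by rw [← hsa, ← hsd]; exact Q.cx d7))
    (Q₀.toCent.commute_of_iota (by rw [← hsb, ← hsc]; exact cxd d6))
    (Q₀.toCent.commute_of_iota (by rw [← hsb, ← hsd]; exact cxd d7))
  -- relabel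
  let E : A8 ≃* A8 := (MulAut.conjNormal p⁻¹ : MulAut A8)
  have hE : ∀ s : A8, ((E s : A8) : Perm (Fin 8)) = p⁻¹ * (s : Perm (Fin 8)) * p := by
    intro s
    have := MulAut.conjNormal_apply (G := Perm (Fin 8)) (H := A8) p⁻¹ s
    rw [inv_inv] at this
    exact this
  have QF := Q₀.comp E
  set ιF : A8 →* G := ι₀.comp E.toMonoidHom with hιF
  have hF : ∀ s s' : A8, p * (s : Perm (Fin 8)) * p⁻¹ = (s' : Perm (Fin 8)) → ιF s' = ι₀ s := by
    intro s s' h
    show ι₀ (E s') = ι₀ s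
    congr 1
    apply Subtype.ext
    rw [hE, ← h]; group
  have Fa : ιF c2 = x := by rw [hF _ _ pa, hsa]
  have Fb : ιF c3 = xd := by rw [hF _ _ pb, hsb]
  have Fc : ιF d6 = ι d6 := by rw [hF _ _ pc, hsc]
  have Fd : ιF d7 = ι d7 := by rw [hF _ _ pd, hsd]
  -- (0 1 2) centralises L_F
  have hr1 : ι c2 * ι f1 * (ι c2)⁻¹ = ι f1 * ι f2 := by
    rw [← map_inv, ← map_mul, ← map_mul, ← map_mul, show c2 * f1 * c2⁻¹ = f1 * f2 by decide]
  have hr2 : ι c2 * ι f2 * (ι c2)⁻¹ = ι f1 := by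
    rw [← map_inv, ← map_mul, ← map_mul, show c2 * f2 * c2⁻¹ = f1 by decide]
  have R : ∀ s, Commute (ι c2) (ιF s) := by
    obtain ⟨k, hk, l, hl⟩ := QF.split hr1 hr2
    have hl1 : l = 1 := by
      apply cen4
      · exact QF.split_commute hk hl (by rw [Fa]; exact (Q.cx c2).symm)
      · exact QF.split_commute hk hl (by rw [Fb]; exact (cxd c2).symm)
      · exact QF.split_commute hk hl (by rw [Fc]; exact cc _ _ (by decide))
      · exact QF.split_commute hk hl (by rw [Fd]; exact cc _ _ (by decide))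
    rw [hl1, map_one, mul_one] at hl
    exact QF.commute_of_split hk hl
  -- the element y
  set y : G := ιF c7 with hy
  have y3 : y ^ 3 = 1 := by rw [hy, ← map_pow, show c7 ^ 3 = 1 by decide, map_one]
  have xy : (x * y) ^ 2 = 1 := by
    rw [← Fa, hy, ← map_mul, ← map_pow, show (c2 * c7) ^ 2 = 1 by decide, map_one]
  have xdy : (xd * y) ^ 2 = 1 := by
    rw [← Fb, hy, ← map_mul, ← map_pow, show (c3 * c7) ^ 2 = 1 by decide, map_one]
  have yd6 : Commute y (ι d6) := by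
    rw [← Fc]
    show ιF c7 * ιF d6 = ιF d6 * ιF c7
    rw [← map_mul, ← map_mul, show c7 * d6 = d6 * c7 by decide]
  have yf1 : Commute y (ι f1) := (QF.cu c7).symm
  have yf2 : Commute y (ι f2) := (QF.cv c7).symm
  have yc2 : Commute y (ι c2) := (R c7).symm
  -- b = (0 1)(4 5)
  have yb : Commute y (ι b0) := by
    have a1 : Commute (ι b0 * y * (ι b0)⁻¹) (ι f1) := by
      have := commute_conj (g := ι b0) yf1
      rwa [← map_inv, ← map_mul, ← map_mul, show b0 * f1 * b0⁻¹ = f1 by decide, map_inv] at this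
    have a2 : Commute (ι b0 * y * (ι b0)⁻¹) (ι f2) := by
      have := commute_conj (g := ι b0) (yf1.mul_right yf2)
      rwa [← map_inv, ← map_mul, ← map_mul, ← map_mul, show b0 * (f1 * f2) * b0⁻¹ = f2 by decide, map_inv] at this
    have a3 : (ι b0 * y * (ι b0)⁻¹) ^ 3 = 1 := by rw [conj_pow, y3]; group
    obtain ⟨s, s3, hs⟩ := QF.toCent.cube a1 a2 a3
    have a4 : Commute (ι b0 * y * (ι b0)⁻¹) (ι d6) := by
      have := commute_conj (g := ι b0) yd6.inv_right
      rwa [← map_inv, ← map_inv, ← map_mul, ← map_mul, show b0 * d6⁻¹ * b0⁻¹ = d6 by decide, map_inv] at this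
    have a5 : (x * (ι b0 * y * (ι b0)⁻¹)) ^ 2 = 1 := by
      have : x * (ι b0 * y * (ι b0)⁻¹) = ι b0 * (x * y) * (ι b0)⁻¹ := by
        have := (Q.cx b0).eq
        calc x * (ι b0 * y * (ι b0)⁻¹) = (x * ι b0) * y * (ι b0)⁻¹ := by group
          _ = _ := by rw [this]; group
      rw [this, conj_pow, xy]; group
    have a6 : (xd * (ι b0 * y * (ι b0)⁻¹)) ^ 2 = 1 := by
      have : xd * (ι b0 * y * (ι b0)⁻¹) = ι b0 * (xd * y) * (ι b0)⁻¹ := by
        have := (cxd b0).eq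
        calc xd * (ι b0 * y * (ι b0)⁻¹) = (xd * ι b0) * y * (ι b0)⁻¹ := by group
          _ = _ := by rw [this]; group
      rw [this, conj_pow, xdy]; group
    have s7 : s = c7 := by
      apply uniq s3
      · apply QF.inj
        rw [map_pow, map_mul, ← hs, Fa, a5, map_one]
      · apply QF.inj
        rw [map_pow, map_mul, ← hs, Fb, a6, map_one]
      · apply QF.toCent.commute_of_iota
        rw [← hs, Fc]; exact a4
    rw [s7] at hs
    show y * ι b0 = ι b0 * y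
    conv_lhs => rw [hy, ← hs]
    group
  -- the four-group K0
  have cb0 : IsConj (ι b0) t := isConj_of L.four conj_b0
  have cfb : IsConj (ι (f1 * b0)) t := isConj_of L.four conj_fb
  obtain ⟨ιK, xK, QK⟩ := exists_quad_of L Q f1 b0 (by decide) (by decide) (by decide) (by decide) cf1 cb0 cfb
  obtain ⟨s8, -, hs8⟩ := QK.toCent.cube yf1 yb y3
  have yrho : Commute y (ι rho) := by
    have := QK.rotation (r := ι rho)
      (by rw [← map_inv, ← map_mul, ← map_mul, ← map_mul, show rho * f1 * rho⁻¹ = f1 * b0 by decide])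
      (by rw [← map_inv, ← map_mul, ← map_mul, show rho * b0 * rho⁻¹ = f1 by decide])
      (by rw [← map_pow, show rho ^ 3 = 1 by decide, map_one]) {t, z}
      (by
        rintro w (rfl | rfl)
        · exact ⟨L.cu _, L.cu _, L.cu _⟩
        · exact ⟨L.cv _, L.cv _, L.cv _⟩)
      (by
        intro g g3 g1 g2 hg
        obtain ⟨s, s3, rfl⟩ := L.toCent.cube (hg t (Or.inl rfl)) (hg z (Or.inr rfl)) g3
        rw [no3 s3 (L.toCent.commute_of_iota g1) (L.toCent.commute_of_iota g2), map_one]) s8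
    rw [hs8]
    exact this.symm
  have cy : ∀ s : A8, (s : Perm (Fin 8)) 7 = 7 → Commute y (ι s) := by
    let S : Subgroup A8 := (Subgroup.centralizer {y}).comap ι
    have hS : ∀ s : A8, s ∈ S ↔ Commute y (ι s) := by
      intro s
      show ι s ∈ Subgroup.centralizer {y} ↔ _
      rw [Subgroup.mem_centralizer_singleton_iff]
      exact ⟨fun h => h.symm, fun h => h.symm⟩
    intro s hs
    rw [← hS]
    exact stab_le S ((hS _).mpr yf1) ((hS _).mpr yf2) ((hS _).mpr yc2) ((hS _).mpr yd6) ((hS _).mpr yb)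
      ((hS _).mpr yrho) s hs
  refine ⟨x, y, Q, y3, ?_, xy, xdy, cy, ?_⟩
  · intro h
    have : ιF c7 = ιF 1 := by rw [← hy, h, map_one]
    exact absurd (QF.inj this) (by decide)
  · have hg : ι g0 = ιF g0 := by
      rw [show g0 = d6 * (d6 * d7) * d6⁻¹ by decide]
      simp only [map_mul, map_inv, Fc, Fd]
    rw [hg, hy, ← map_inv, ← map_mul, ← map_mul, ← map_mul, ← map_pow,
      show (c7 * (g0 * c7 * g0⁻¹)) ^ 2 = 1 by decide, map_one]

end Cfsg.Agent.HN.LocalMain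
end
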