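import Cfsg.Agent.HN.TGroup
import Cfsg.Agent.HN.PC
import Cfsg.Agent.Lib.PackMatOrbit
set_option linter.all false

/-!
# A Sylow 2-subgroup of HN: relations

All relations are checked in the 133-dimensional representation.  `lev`: the commutator of a generator and of `s i`
lies in `Pc s (lev i)`.
-/

set_option autoImplicit false

namespace Cfsg.Agent.HN.TRel

open Cfsg.Agent.Lib.PackMat Cfsg.Agent.Lib.PackMatGroup Cfsg.Agent.Lib.PackMatOrbit
open Cfsg.Agent.HN.RepData Cfsg.Agent.HN.Rep Cfsg.Agent.HN.TGroup Cfsg.Agent.HN.PC

theorem evG_mem_Pc {k : ℕ} {w : List ℕ} (h : okW k w = true) : evG TG w ∈ Pc s k := by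
  induction w with
  | nil => exact Subgroup.one_mem _
  | cons i w ih =>
    obtain ⟨h1, h2⟩ := okW_cons h
    rw [evG_cons']
    exact Subgroup.mul_mem _ (mem_Pc h1) (ih h2)

theorem okW_append {k : ℕ} {v w : List ℕ} (hv : okW k v = true) (hw : okW k w = true) : okW k (v ++ w) = true := by
  induction v with
  | nil => exact hw
  | cons i v ih =>
    obtain ⟨h1, h2⟩ := okW_cons hv
    change (bif Nat.blt i k then okW k (v ++ w) else false) = true
    have : Nat.blt i k = true := by simpa [Nat.blt_eq] using h1
    rw [this, cond_true]
    exact ih h2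

theorem okW_mono {k l : ℕ} (hkl : k ≤ l) {w : List ℕ} (h : okW k w = true) : okW l w = true := by
  induction w with
  | nil => rfl
  | cons i w ih =>
    obtain ⟨h1, h2⟩ := okW_cons h
    change (bif Nat.blt i l then okW l w else false) = true
    have : Nat.blt i l = true := by simpa [Nat.blt_eq] using lt_of_lt_of_le h1 hkl
    rw [this, cond_true]
    exact ih h2

theorem comm_mem_of_rel (hinj : Function.Injective rho) {g i l : ℕ} {w : List ℕ} (hg : g < 14) (hi : i < 14)
    (hl : l ≤ 14) (hw : okW l w = true)
    (h : checkEq C (cw TL [g, i]) (cw TL (w ++ [i, g])) 0 133 = true) :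
    s g * s i * (s g)⁻¹ * (s i)⁻¹ ∈ Pc s l := by
  have ok : okW 14 [g, i] = true := by
    change (bif Nat.blt g 14 then (bif Nat.blt i 14 then true else false) else false) = true
    have h1 : Nat.blt g 14 = true := by simpa [Nat.blt_eq] using hg
    have h2 : Nat.blt i 14 = true := by simpa [Nat.blt_eq] using hi
    rw [h1, h2]; rfl
  have ok' : okW 14 [i, g] = true := by
    change (bif Nat.blt i 14 then (bif Nat.blt g 14 then true else false) else false) = true
    have h1 : Nat.blt g 14 = true := by simpa [Nat.blt_eq] using hg
    have h2 : Nat.blt i 14 = true := by simpa [Nat.blt_eq] using hi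
    rw [h1, h2]; rfl
  have h1 := rel hinj ok (okW_append (okW_mono hl hw) ok') h
  have h2 : s g * s i = evG TG w * (s i * s g) := by
    have e1 : evG TG [g, i] = s g * s i := by rw [evG_cons', evG_cons', evG_nil, mul_one]
    have e2 : evG TG [i, g] = s i * s g := by rw [evG_cons', evG_cons', evG_nil, mul_one]
    rw [← e1, ← e2, ← evG_append]
    exact h1
  have h3 : s g * s i * (s g)⁻¹ * (s i)⁻¹ = evG TG w := by
    rw [h2]; group
  rw [h3]
  exact evG_mem_Pc hw

theorem sq_mem_of_rel (hinj : Function.Injective rho) {i : ℕ} {w : List ℕ} (hi : i < 14) (hw : okW i w = true)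
    (h : checkEq C (cw TL [i, i]) (cw TL w) 0 133 = true) : s i * s i ∈ Pc s i := by
  have ok : okW 14 [i, i] = true := by
    change (bif Nat.blt i 14 then (bif Nat.blt i 14 then true else false) else false) = true
    have h2 : Nat.blt i 14 = true := by simpa [Nat.blt_eq] using hi
    rw [h2]; rfl
  have h1 := rel hinj ok (okW_mono hi.le hw) h
  have h2 : s i * s i = evG TG w := by
    have e1 : evG TG [i, i] = s i * s i := by rw [evG_cons', evG_cons', evG_nil, mul_one]
    rw [← e1]
    exact h1
  rw [h2]
  exact evG_mem_Pc hw

theorem comm_of_rel (hinj : Function.Injective rho) {g i : ℕ} (hg : g < 14) (hi : i < 14)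
    (h : checkEq C (cw TL [g, i]) (cw TL [i, g]) 0 133 = true) : s g * s i = s i * s g := by
  have ok : ∀ a b : ℕ, a < 14 → b < 14 → okW 14 [a, b] = true := by
    intro a b ha hb
    change (bif Nat.blt a 14 then (bif Nat.blt b 14 then true else false) else false) = true
    have h1 : Nat.blt a 14 = true := by simpa [Nat.blt_eq] using ha
    have h2 : Nat.blt b 14 = true := by simpa [Nat.blt_eq] using hb
    rw [h1, h2]; rfl
  have h1 := rel hinj (ok g i hg hi) (ok i g hi hg) h
  have e1 : ∀ a b : ℕ, evG TG [a, b] = s a * s b := fun a b => by rw [evG_cons', evG_cons', evG_nil, mul_one]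
  rwa [e1, e1] at h1

/-- the levels -/
def lev (i : ℕ) : ℕ := [0, 1, 2, 3, 3, 5, 5, 7, 7, 7, 10, 10, 10, 10].getD i 0

theorem k10_0 : checkEq C (cw TL [10, 0]) (cw TL ([] ++ [0, 10])) 0 133 = true := by decide +kernel
theorem k10_1 : checkEq C (cw TL [10, 1]) (cw TL ([] ++ [1, 10])) 0 133 = true := by decide +kernel
theorem k10_2 : checkEq C (cw TL [10, 2]) (cw TL ([] ++ [2, 10])) 0 133 = true := by decide +kernel
theorem k10_3 : checkEq C (cw TL [10, 3]) (cw TL ([] ++ [3, 10])) 0 133 = true := by decide +kernel
theorem k10_4 : checkEq C (cw TL [10, 4]) (cw TL ([1, 2] ++ [4, 10])) 0 133 = true := by decide +kernel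
theorem k10_5 : checkEq C (cw TL [10, 5]) (cw TL ([0, 1] ++ [5, 10])) 0 133 = true := by decide +kernel
theorem k10_6 : checkEq C (cw TL [10, 6]) (cw TL ([0] ++ [6, 10])) 0 133 = true := by decide +kernel
theorem k10_7 : checkEq C (cw TL [10, 7]) (cw TL ([0, 6] ++ [7, 10])) 0 133 = true := by decide +kernel
theorem k10_8 : checkEq C (cw TL [10, 8]) (cw TL ([0, 1, 2] ++ [8, 10])) 0 133 = true := by decide +kernel
theorem k10_9 : checkEq C (cw TL [10, 9]) (cw TL ([1] ++ [9, 10])) 0 133 = true := by decide +kernel
theorem k10_11 : checkEq C (cw TL [10, 11]) (cw TL ([0, 1, 2] ++ [11, 10])) 0 133 = true := by decide +kernel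
theorem k10_12 : checkEq C (cw TL [10, 12]) (cw TL ([0, 1, 3] ++ [12, 10])) 0 133 = true := by decide +kernel
theorem k10_13 : checkEq C (cw TL [10, 13]) (cw TL ([9] ++ [13, 10])) 0 133 = true := by decide +kernel
theorem k11_0 : checkEq C (cw TL [11, 0]) (cw TL ([] ++ [0, 11])) 0 133 = true := by decide +kernel
theorem k11_1 : checkEq C (cw TL [11, 1]) (cw TL ([] ++ [1, 11])) 0 133 = true := by decide +kernel
theorem k11_2 : checkEq C (cw TL [11, 2]) (cw TL ([] ++ [2, 11])) 0 133 = true := by decide +kernel
theorem k11_3 : checkEq C (cw TL [11, 3]) (cw TL ([2] ++ [3, 11])) 0 133 = true := by decide +kernel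
theorem k11_4 : checkEq C (cw TL [11, 4]) (cw TL ([] ++ [4, 11])) 0 133 = true := by decide +kernel
theorem k11_5 : checkEq C (cw TL [11, 5]) (cw TL ([0] ++ [5, 11])) 0 133 = true := by decide +kernel
theorem k11_6 : checkEq C (cw TL [11, 6]) (cw TL ([1] ++ [6, 11])) 0 133 = true := by decide +kernel
theorem k11_7 : checkEq C (cw TL [11, 7]) (cw TL ([0, 5] ++ [7, 11])) 0 133 = true := by decide +kernel
theorem k11_8 : checkEq C (cw TL [11, 8]) (cw TL ([1] ++ [8, 11])) 0 133 = true := by decide +kernel
theorem k11_9 : checkEq C (cw TL [11, 9]) (cw TL ([0, 1, 2] ++ [9, 11])) 0 133 = true := by decide +kernel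
theorem k11_10 : checkEq C (cw TL [11, 10]) (cw TL ([0, 1, 2] ++ [10, 11])) 0 133 = true := by decide +kernel
theorem k11_12 : checkEq C (cw TL [11, 12]) (cw TL ([1, 2, 4, 5] ++ [12, 11])) 0 133 = true := by decide +kernel
theorem k11_13 : checkEq C (cw TL [11, 13]) (cw TL ([8] ++ [13, 11])) 0 133 = true := by decide +kernel
theorem k12_0 : checkEq C (cw TL [12, 0]) (cw TL ([] ++ [0, 12])) 0 133 = true := by decide +kernel
theorem k12_1 : checkEq C (cw TL [12, 1]) (cw TL ([0] ++ [1, 12])) 0 133 = true := by decide +kernel
theorem k12_2 : checkEq C (cw TL [12, 2]) (cw TL ([0] ++ [2, 12])) 0 133 = true := by decide +kernel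
theorem k12_3 : checkEq C (cw TL [12, 3]) (cw TL ([0] ++ [3, 12])) 0 133 = true := by decide +kernel
theorem k12_4 : checkEq C (cw TL [12, 4]) (cw TL ([0] ++ [4, 12])) 0 133 = true := by decide +kernel
theorem k12_5 : checkEq C (cw TL [12, 5]) (cw TL ([] ++ [5, 12])) 0 133 = true := by decide +kernel
theorem k12_6 : checkEq C (cw TL [12, 6]) (cw TL ([] ++ [6, 12])) 0 133 = true := by decide +kernel
theorem k12_7 : checkEq C (cw TL [12, 7]) (cw TL ([] ++ [7, 12])) 0 133 = true := by decide +kernel
theorem k12_8 : checkEq C (cw TL [12, 8]) (cw TL ([0, 1, 5] ++ [8, 12])) 0 133 = true := by decide +kernel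
theorem k12_9 : checkEq C (cw TL [12, 9]) (cw TL ([0, 3, 6] ++ [9, 12])) 0 133 = true := by decide +kernel
theorem k12_10 : checkEq C (cw TL [12, 10]) (cw TL ([0, 1, 3] ++ [10, 12])) 0 133 = true := by decide +kernel
theorem k12_11 : checkEq C (cw TL [12, 11]) (cw TL ([0, 1, 2, 4, 5] ++ [11, 12])) 0 133 = true := by decide +kernel
theorem k12_13 : checkEq C (cw TL [12, 13]) (cw TL ([7] ++ [13, 12])) 0 133 = true := by decide +kernel
theorem k13_0 : checkEq C (cw TL [13, 0]) (cw TL ([] ++ [0, 13])) 0 133 = true := by decide +kernel
theorem k13_1 : checkEq C (cw TL [13, 1]) (cw TL ([] ++ [1, 13])) 0 133 = true := by decide +kernel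
theorem k13_2 : checkEq C (cw TL [13, 2]) (cw TL ([1] ++ [2, 13])) 0 133 = true := by decide +kernel
theorem k13_3 : checkEq C (cw TL [13, 3]) (cw TL ([] ++ [3, 13])) 0 133 = true := by decide +kernel
theorem k13_4 : checkEq C (cw TL [13, 4]) (cw TL ([] ++ [4, 13])) 0 133 = true := by decide +kernel
theorem k13_5 : checkEq C (cw TL [13, 5]) (cw TL ([4] ++ [5, 13])) 0 133 = true := by decide +kernel
theorem k13_6 : checkEq C (cw TL [13, 6]) (cw TL ([3] ++ [6, 13])) 0 133 = true := by decide +kernel
theorem k13_7 : checkEq C (cw TL [13, 7]) (cw TL ([] ++ [7, 13])) 0 133 = true := by decide +kernel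
theorem k13_8 : checkEq C (cw TL [13, 8]) (cw TL ([1] ++ [8, 13])) 0 133 = true := by decide +kernel
theorem k13_9 : checkEq C (cw TL [13, 9]) (cw TL ([1] ++ [9, 13])) 0 133 = true := by decide +kernel
theorem k13_10 : checkEq C (cw TL [13, 10]) (cw TL ([1, 9] ++ [10, 13])) 0 133 = true := by decide +kernel
theorem k13_11 : checkEq C (cw TL [13, 11]) (cw TL ([1, 8] ++ [11, 13])) 0 133 = true := by decide +kernel
theorem k13_12 : checkEq C (cw TL [13, 12]) (cw TL ([7] ++ [12, 13])) 0 133 = true := by decide +kernel
theorem q0 : checkEq C (cw TL [0, 0]) (cw TL []) 0 133 = true := by decide +kernel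
theorem q1 : checkEq C (cw TL [1, 1]) (cw TL []) 0 133 = true := by decide +kernel
theorem q2 : checkEq C (cw TL [2, 2]) (cw TL []) 0 133 = true := by decide +kernel
theorem q3 : checkEq C (cw TL [3, 3]) (cw TL []) 0 133 = true := by decide +kernel
theorem q4 : checkEq C (cw TL [4, 4]) (cw TL []) 0 133 = true := by decide +kernel
theorem q5 : checkEq C (cw TL [5, 5]) (cw TL [0]) 0 133 = true := by decide +kernel
theorem q6 : checkEq C (cw TL [6, 6]) (cw TL [0]) 0 133 = true := by decide +kernel
theorem q7 : checkEq C (cw TL [7, 7]) (cw TL []) 0 133 = true := by decide +kernel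
theorem q8 : checkEq C (cw TL [8, 8]) (cw TL [1]) 0 133 = true := by decide +kernel
theorem q9 : checkEq C (cw TL [9, 9]) (cw TL [1]) 0 133 = true := by decide +kernel
theorem q10 : checkEq C (cw TL [10, 10]) (cw TL []) 0 133 = true := by decide +kernel
theorem q11 : checkEq C (cw TL [11, 11]) (cw TL []) 0 133 = true := by decide +kernel
theorem q12 : checkEq C (cw TL [12, 12]) (cw TL []) 0 133 = true := by decide +kernel
theorem q13 : checkEq C (cw TL [13, 13]) (cw TL []) 0 133 = true := by decide +kernel
theorem a0 : checkEq C (cw TL [0, 1]) (cw TL [1, 0]) 0 133 = true := by decide +kernel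
theorem a2 : checkEq C (cw TL [2, 1]) (cw TL [1, 2]) 0 133 = true := by decide +kernel
theorem a3 : checkEq C (cw TL [3, 1]) (cw TL [1, 3]) 0 133 = true := by decide +kernel
theorem a4 : checkEq C (cw TL [4, 1]) (cw TL [1, 4]) 0 133 = true := by decide +kernel
theorem a5 : checkEq C (cw TL [5, 1]) (cw TL [1, 5]) 0 133 = true := by decide +kernel
theorem a6 : checkEq C (cw TL [6, 1]) (cw TL [1, 6]) 0 133 = true := by decide +kernel
theorem a7 : checkEq C (cw TL [7, 1]) (cw TL [1, 7]) 0 133 = true := by decide +kernel
theorem a8 : checkEq C (cw TL [8, 1]) (cw TL [1, 8]) 0 133 = true := by decide +kernel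
theorem a9 : checkEq C (cw TL [9, 1]) (cw TL [1, 9]) 0 133 = true := by decide +kernel
theorem a10 : checkEq C (cw TL [10, 1]) (cw TL [1, 10]) 0 133 = true := by decide +kernel
theorem a11 : checkEq C (cw TL [11, 1]) (cw TL [1, 11]) 0 133 = true := by decide +kernel
theorem b0 : checkEq C (cw TL [0, 2]) (cw TL ([] ++ [2, 0])) 0 133 = true := by decide +kernel
theorem b1 : checkEq C (cw TL [1, 2]) (cw TL ([] ++ [2, 1])) 0 133 = true := by decide +kernel
theorem b3 : checkEq C (cw TL [3, 2]) (cw TL ([] ++ [2, 3])) 0 133 = true := by decide +kernel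
theorem b4 : checkEq C (cw TL [4, 2]) (cw TL ([] ++ [2, 4])) 0 133 = true := by decide +kernel
theorem b5 : checkEq C (cw TL [5, 2]) (cw TL ([] ++ [2, 5])) 0 133 = true := by decide +kernel
theorem b6 : checkEq C (cw TL [6, 2]) (cw TL ([] ++ [2, 6])) 0 133 = true := by decide +kernel
theorem b7 : checkEq C (cw TL [7, 2]) (cw TL ([0] ++ [2, 7])) 0 133 = true := by decide +kernel
theorem b8 : checkEq C (cw TL [8, 2]) (cw TL ([] ++ [2, 8])) 0 133 = true := by decide +kernel
theorem b9 : checkEq C (cw TL [9, 2]) (cw TL ([] ++ [2, 9])) 0 133 = true := by decide +kernel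
theorem b10 : checkEq C (cw TL [10, 2]) (cw TL ([] ++ [2, 10])) 0 133 = true := by decide +kernel
theorem b11 : checkEq C (cw TL [11, 2]) (cw TL ([] ++ [2, 11])) 0 133 = true := by decide +kernel

theorem comm_self (i l : ℕ) : s i * s i * (s i)⁻¹ * (s i)⁻¹ ∈ Pc s l := by
  have : s i * s i * (s i)⁻¹ * (s i)⁻¹ = 1 := by group
  rw [this]
  exact Subgroup.one_mem _

theorem comm10 (hinj : Function.Injective rho) : ∀ i < 14, s 10 * s i * (s 10)⁻¹ * (s i)⁻¹ ∈ Pc s (lev i)
  | 0, _ => comm_mem_of_rel hinj (w := []) (by norm_num) (by norm_num) (by decide) (by decide) k10_0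
  | 1, _ => comm_mem_of_rel hinj (w := []) (by norm_num) (by norm_num) (by decide) (by decide) k10_1
  | 2, _ => comm_mem_of_rel hinj (w := []) (by norm_num) (by norm_num) (by decide) (by decide) k10_2
  | 3, _ => comm_mem_of_rel hinj (w := []) (by norm_num) (by norm_num) (by decide) (by decide) k10_3
  | 4, _ => comm_mem_of_rel hinj (w := [1, 2]) (by norm_num) (by norm_num) (by decide) (by decide) k10_4
  | 5, _ => comm_mem_of_rel hinj (w := [0, 1]) (by norm_num) (by norm_num) (by decide) (by decide) k10_5
  | 6, _ => comm_mem_of_rel hinj (w := [0]) (by norm_num) (by norm_num) (by decide) (by decide) k10_6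
  | 7, _ => comm_mem_of_rel hinj (w := [0, 6]) (by norm_num) (by norm_num) (by decide) (by decide) k10_7
  | 8, _ => comm_mem_of_rel hinj (w := [0, 1, 2]) (by norm_num) (by norm_num) (by decide) (by decide) k10_8
  | 9, _ => comm_mem_of_rel hinj (w := [1]) (by norm_num) (by norm_num) (by decide) (by decide) k10_9
  | 10, _ => comm_self _ _
  | 11, _ => comm_mem_of_rel hinj (w := [0, 1, 2]) (by norm_num) (by norm_num) (by decide) (by decide) k10_11
  | 12, _ => comm_mem_of_rel hinj (w := [0, 1, 3]) (by norm_num) (by norm_num) (by decide) (by decide) k10_12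
  | 13, _ => comm_mem_of_rel hinj (w := [9]) (by norm_num) (by norm_num) (by decide) (by decide) k10_13
theorem comm11 (hinj : Function.Injective rho) : ∀ i < 14, s 11 * s i * (s 11)⁻¹ * (s i)⁻¹ ∈ Pc s (lev i)
  | 0, _ => comm_mem_of_rel hinj (w := []) (by norm_num) (by norm_num) (by decide) (by decide) k11_0
  | 1, _ => comm_mem_of_rel hinj (w := []) (by norm_num) (by norm_num) (by decide) (by decide) k11_1
  | 2, _ => comm_mem_of_rel hinj (w := []) (by norm_num) (by norm_num) (by decide) (by decide) k11_2
  | 3, _ => comm_mem_of_rel hinj (w := [2]) (by norm_num) (by norm_num) (by decide) (by decide) k11_3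
  | 4, _ => comm_mem_of_rel hinj (w := []) (by norm_num) (by norm_num) (by decide) (by decide) k11_4
  | 5, _ => comm_mem_of_rel hinj (w := [0]) (by norm_num) (by norm_num) (by decide) (by decide) k11_5
  | 6, _ => comm_mem_of_rel hinj (w := [1]) (by norm_num) (by norm_num) (by decide) (by decide) k11_6
  | 7, _ => comm_mem_of_rel hinj (w := [0, 5]) (by norm_num) (by norm_num) (by decide) (by decide) k11_7
  | 8, _ => comm_mem_of_rel hinj (w := [1]) (by norm_num) (by norm_num) (by decide) (by decide) k11_8
  | 9, _ => comm_mem_of_rel hinj (w := [0, 1, 2]) (by norm_num) (by norm_num) (by decide) (by decide) k11_9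
  | 10, _ => comm_mem_of_rel hinj (w := [0, 1, 2]) (by norm_num) (by norm_num) (by decide) (by decide) k11_10
  | 11, _ => comm_self _ _
  | 12, _ => comm_mem_of_rel hinj (w := [1, 2, 4, 5]) (by norm_num) (by norm_num) (by decide) (by decide) k11_12
  | 13, _ => comm_mem_of_rel hinj (w := [8]) (by norm_num) (by norm_num) (by decide) (by decide) k11_13
theorem comm12 (hinj : Function.Injective rho) : ∀ i < 14, s 12 * s i * (s 12)⁻¹ * (s i)⁻¹ ∈ Pc s (lev i)
  | 0, _ => comm_mem_of_rel hinj (w := []) (by norm_num) (by norm_num) (by decide) (by decide) k12_0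
  | 1, _ => comm_mem_of_rel hinj (w := [0]) (by norm_num) (by norm_num) (by decide) (by decide) k12_1
  | 2, _ => comm_mem_of_rel hinj (w := [0]) (by norm_num) (by norm_num) (by decide) (by decide) k12_2
  | 3, _ => comm_mem_of_rel hinj (w := [0]) (by norm_num) (by norm_num) (by decide) (by decide) k12_3
  | 4, _ => comm_mem_of_rel hinj (w := [0]) (by norm_num) (by norm_num) (by decide) (by decide) k12_4
  | 5, _ => comm_mem_of_rel hinj (w := []) (by norm_num) (by norm_num) (by decide) (by decide) k12_5
  | 6, _ => comm_mem_of_rel hinj (w := []) (by norm_num) (by norm_num) (by decide) (by decide) k12_6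
  | 7, _ => comm_mem_of_rel hinj (w := []) (by norm_num) (by norm_num) (by decide) (by decide) k12_7
  | 8, _ => comm_mem_of_rel hinj (w := [0, 1, 5]) (by norm_num) (by norm_num) (by decide) (by decide) k12_8
  | 9, _ => comm_mem_of_rel hinj (w := [0, 3, 6]) (by norm_num) (by norm_num) (by decide) (by decide) k12_9
  | 10, _ => comm_mem_of_rel hinj (w := [0, 1, 3]) (by norm_num) (by norm_num) (by decide) (by decide) k12_10
  | 11, _ => comm_mem_of_rel hinj (w := [0, 1, 2, 4, 5]) (by norm_num) (by norm_num) (by decide) (by decide) k12_11
  | 12, _ => comm_self _ _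
  | 13, _ => comm_mem_of_rel hinj (w := [7]) (by norm_num) (by norm_num) (by decide) (by decide) k12_13
theorem comm13 (hinj : Function.Injective rho) : ∀ i < 14, s 13 * s i * (s 13)⁻¹ * (s i)⁻¹ ∈ Pc s (lev i)
  | 0, _ => comm_mem_of_rel hinj (w := []) (by norm_num) (by norm_num) (by decide) (by decide) k13_0
  | 1, _ => comm_mem_of_rel hinj (w := []) (by norm_num) (by norm_num) (by decide) (by decide) k13_1
  | 2, _ => comm_mem_of_rel hinj (w := [1]) (by norm_num) (by norm_num) (by decide) (by decide) k13_2
  | 3, _ => comm_mem_of_rel hinj (w := []) (by norm_num) (by norm_num) (by decide) (by decide) k13_3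
  | 4, _ => comm_mem_of_rel hinj (w := []) (by norm_num) (by norm_num) (by decide) (by decide) k13_4
  | 5, _ => comm_mem_of_rel hinj (w := [4]) (by norm_num) (by norm_num) (by decide) (by decide) k13_5
  | 6, _ => comm_mem_of_rel hinj (w := [3]) (by norm_num) (by norm_num) (by decide) (by decide) k13_6
  | 7, _ => comm_mem_of_rel hinj (w := []) (by norm_num) (by norm_num) (by decide) (by decide) k13_7
  | 8, _ => comm_mem_of_rel hinj (w := [1]) (by norm_num) (by norm_num) (by decide) (by decide) k13_8
  | 9, _ => comm_mem_of_rel hinj (w := [1]) (by norm_num) (by norm_num) (by decide) (by decide) k13_9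
  | 10, _ => comm_mem_of_rel hinj (w := [1, 9]) (by norm_num) (by norm_num) (by decide) (by decide) k13_10
  | 11, _ => comm_mem_of_rel hinj (w := [1, 8]) (by norm_num) (by norm_num) (by decide) (by decide) k13_11
  | 12, _ => comm_mem_of_rel hinj (w := [7]) (by norm_num) (by norm_num) (by decide) (by decide) k13_12
  | 13, _ => comm_self _ _
theorem comm_mem (hinj : Function.Injective rho) : ∀ g, 10 ≤ g → g < 14 → ∀ i < 14,
    s g * s i * (s g)⁻¹ * (s i)⁻¹ ∈ Pc s (lev i) := by
  intro g h1 h2
  interval_cases g
  · exact comm10 hinj
  · exact comm11 hinj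
  · exact comm12 hinj
  · exact comm13 hinj

theorem sq_mem (hinj : Function.Injective rho) : ∀ i < 14, s i * s i ∈ Pc s i
  | 0, _ => sq_mem_of_rel hinj (w := []) (by norm_num) (by decide) q0
  | 1, _ => sq_mem_of_rel hinj (w := []) (by norm_num) (by decide) q1
  | 2, _ => sq_mem_of_rel hinj (w := []) (by norm_num) (by decide) q2
  | 3, _ => sq_mem_of_rel hinj (w := []) (by norm_num) (by decide) q3
  | 4, _ => sq_mem_of_rel hinj (w := []) (by norm_num) (by decide) q4
  | 5, _ => sq_mem_of_rel hinj (w := [0]) (by norm_num) (by decide) q5
  | 6, _ => sq_mem_of_rel hinj (w := [0]) (by norm_num) (by decide) q6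
  | 7, _ => sq_mem_of_rel hinj (w := []) (by norm_num) (by decide) q7
  | 8, _ => sq_mem_of_rel hinj (w := [1]) (by norm_num) (by decide) q8
  | 9, _ => sq_mem_of_rel hinj (w := [1]) (by norm_num) (by decide) q9
  | 10, _ => sq_mem_of_rel hinj (w := []) (by norm_num) (by decide) q10
  | 11, _ => sq_mem_of_rel hinj (w := []) (by norm_num) (by decide) q11
  | 12, _ => sq_mem_of_rel hinj (w := []) (by norm_num) (by decide) q12
  | 13, _ => sq_mem_of_rel hinj (w := []) (by norm_num) (by decide) q13

theorem act1 (hinj : Function.Injective rho) : ∀ i < 12, s i * s 1 = s 1 * s i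
  | 0, _ => comm_of_rel hinj (by norm_num) (by norm_num) a0
  | 1, _ => rfl
  | 2, _ => comm_of_rel hinj (by norm_num) (by norm_num) a2
  | 3, _ => comm_of_rel hinj (by norm_num) (by norm_num) a3
  | 4, _ => comm_of_rel hinj (by norm_num) (by norm_num) a4
  | 5, _ => comm_of_rel hinj (by norm_num) (by norm_num) a5
  | 6, _ => comm_of_rel hinj (by norm_num) (by norm_num) a6
  | 7, _ => comm_of_rel hinj (by norm_num) (by norm_num) a7
  | 8, _ => comm_of_rel hinj (by norm_num) (by norm_num) a8
  | 9, _ => comm_of_rel hinj (by norm_num) (by norm_num) a9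
  | 10, _ => comm_of_rel hinj (by norm_num) (by norm_num) a10
  | 11, _ => comm_of_rel hinj (by norm_num) (by norm_num) a11

theorem act2 (hinj : Function.Injective rho) : ∀ i < 12, s i * s 2 * (s i)⁻¹ * (s 2)⁻¹ ∈ Pc s 1
  | 0, _ => comm_mem_of_rel hinj (w := []) (by norm_num) (by norm_num) (by norm_num) (by decide) b0
  | 1, _ => comm_mem_of_rel hinj (w := []) (by norm_num) (by norm_num) (by norm_num) (by decide) b1
  | 2, _ => comm_self _ _
  | 3, _ => comm_mem_of_rel hinj (w := []) (by norm_num) (by norm_num) (by norm_num) (by decide) b3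
  | 4, _ => comm_mem_of_rel hinj (w := []) (by norm_num) (by norm_num) (by norm_num) (by decide) b4
  | 5, _ => comm_mem_of_rel hinj (w := []) (by norm_num) (by norm_num) (by norm_num) (by decide) b5
  | 6, _ => comm_mem_of_rel hinj (w := []) (by norm_num) (by norm_num) (by norm_num) (by decide) b6
  | 7, _ => comm_mem_of_rel hinj (w := [0]) (by norm_num) (by norm_num) (by norm_num) (by decide) b7
  | 8, _ => comm_mem_of_rel hinj (w := []) (by norm_num) (by norm_num) (by norm_num) (by decide) b8
  | 9, _ => comm_mem_of_rel hinj (w := []) (by norm_num) (by norm_num) (by norm_num) (by decide) b9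
  | 10, _ => comm_mem_of_rel hinj (w := []) (by norm_num) (by norm_num) (by norm_num) (by decide) b10
  | 11, _ => comm_mem_of_rel hinj (w := []) (by norm_num) (by norm_num) (by norm_num) (by decide) b11

/-- `s k` is a commutator of `s (ci k)` and a generator -/
def ci (k : ℕ) : ℕ := [1, 2, 3, 6, 5, 7, 7, 12, 11, 10].getD k 0

theorem def_comm : ∀ k < 10, ∃ g, 10 ≤ g ∧ g < 14 ∧ s k = s (ci k) * s g * (s (ci k))⁻¹ * (s g)⁻¹
  | 0, _ => ⟨12, by norm_num, by norm_num, by change t0 = t1 * t12 * t1⁻¹ * t12⁻¹; exact t0_def⟩
  | 1, _ => ⟨13, by norm_num, by norm_num, by change t1 = t2 * t13 * t2⁻¹ * t13⁻¹; exact t1_def⟩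
  | 2, _ => ⟨11, by norm_num, by norm_num, by change t2 = t3 * t11 * t3⁻¹ * t11⁻¹; exact t2_def⟩
  | 3, _ => ⟨13, by norm_num, by norm_num, by change t3 = t6 * t13 * t6⁻¹ * t13⁻¹; exact t3_def⟩
  | 4, _ => ⟨13, by norm_num, by norm_num, by change t4 = t5 * t13 * t5⁻¹ * t13⁻¹; exact t4_def⟩
  | 5, _ => ⟨11, by norm_num, by norm_num, by change t5 = t7 * t11 * t7⁻¹ * t11⁻¹; exact t5_def⟩
  | 6, _ => ⟨10, by norm_num, by norm_num, by change t6 = t7 * t10 * t7⁻¹ * t10⁻¹; exact t6_def⟩
  | 7, _ => ⟨13, by norm_num, by norm_num, by change t7 = t12 * t13 * t12⁻¹ * t13⁻¹; exact t7_def⟩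
  | 8, _ => ⟨13, by norm_num, by norm_num, by change t8 = t11 * t13 * t11⁻¹ * t13⁻¹; exact t8_def⟩
  | 9, _ => ⟨13, by norm_num, by norm_num, by change t9 = t10 * t13 * t10⁻¹ * t13⁻¹; exact t9_def⟩

theorem sq_one (hinj : Function.Injective rho) : ∀ g, 10 ≤ g → g < 14 → s g * s g = 1 := by
  intro g h1 h2
  have key : ∀ g, evG TG [g, g] = s g * s g := fun g => by rw [evG_cons', evG_cons', evG_nil, mul_one]
  interval_cases g
  · rw [← key]; exact rel hinj (by decide) (by decide) q10
  · rw [← key]; exact rel hinj (by decide) (by decide) q11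
  · rw [← key]; exact rel hinj (by decide) (by decide) q12
  · rw [← key]; exact rel hinj (by decide) (by decide) q13

theorem comm13_one (hinj : Function.Injective rho) : s 13 * s 1 = s 1 * s 13 :=
  comm_of_rel hinj (by norm_num) (by norm_num) k13_1

/-! ### the order -/

/-- words of the last layers -/
def ws14 : List (List ℕ) := []
/-- words of the layers from 13 on -/
def ws13 : List (List ℕ) := [0, 5, 7] :: ws14
/-- words of the layers from 12 on -/
def ws12 : List (List ℕ) := [0, 1, 3, 4, 5, 7, 8, 12, 13] :: ws13
/-- words of the layers from 11 on -/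
def ws11 : List (List ℕ) := [0] :: ws12
/-- words of the layers from 10 on -/
def ws10 : List (List ℕ) := [1] :: ws11
/-- words of the layers from 9 on -/
def ws9 : List (List ℕ) := [7, 12] :: ws10
/-- words of the layers from 8 on -/
def ws8 : List (List ℕ) := [3, 4, 7, 12] :: ws9
/-- words of the layers from 7 on -/
def ws7 : List (List ℕ) := [1, 3] :: ws8
/-- words of the layers from 6 on -/
def ws6 : List (List ℕ) := [1, 3, 7] :: ws7
/-- words of the layers from 5 on -/
def ws5 : List (List ℕ) := [1, 2, 4] :: ws6
/-- words of the layers from 4 on -/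
def ws4 : List (List ℕ) := [0, 6, 7] :: ws5
/-- words of the layers from 3 on -/
def ws3 : List (List ℕ) := [2, 4, 9] :: ws4
/-- words of the layers from 2 on -/
def ws2 : List (List ℕ) := [13] :: ws3
/-- words of the layers from 1 on -/
def ws1 : List (List ℕ) := [10] :: ws2
/-- words of the layers from 0 on -/
def ws0 : List (List ℕ) := [2, 9, 10, 11] :: ws1
/-- base vector -/
def v13 : ℕ := 0x780030001c001400040005c0002000200070001000040017000e0006c003a0002000680028002800070004000140000000f00008006c003a000900040007800280018000e0005000120014000e800480002001d000900048003000100007000580012001d000e0001c001600100004800180014000100050000800200006000a000480030000d00090001c0008000c000a80034001e001100030002c00220017000b0005c00180019000a80008003a0015000c800440034000500068003c002e00060005000540000000f00048000c00080009000d800180032001b000f00020000200030005000700020001000068006c002a0016000a0004c003200090006000040022001d0005000140022000700050002c0020000e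
theorem l13 : layerC C TL ws13 ws14 [(0, 0)] v13 = true := by decide +kernel
/-- base vector -/
def v12 : ℕ := 0x1d00090000c00140004000d00008003200050006800700026000000020004400260011000e800540010001d00058001c000c0018000f00070000a000a000680018001e001d0001000200020001a000b800700010000700008002c00320017000d800440014000d000d0000000380008000080058002a0012000580048003a0007000c80050002a0006000c800480020000b00060006c002e0013000d8002c000c001000098001800280004000a80000000c000000018002c002e0011000d000780032001e000c0003c0014000c00078000c0012000800088003800080013000a80054003000070008800340032000000058001c00120007000800004000c0013000480048003c0017000e800640032000e00060001000100004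
theorem l12 : layerC C TL ws12 ws13 [(0, 0)] v12 = true := by decide +kernel
/-- base vector -/
def v11 : ℕ := 0x4000300020002e001200048006800300008000780058003a001800050006800160002000e8006c000400060008800300016000600008006800380004000b80058002a001b000780004002a000300000003000000000000080078000e0014000480054000c001d00078005c0028001b000780078000a0010000c0003c000600120003000480000000c0009800600036001700010000c0026001000020004c000e001b000300050002a000b00020003c002c000700078003c001c0013000000010003a0010000280024001e0019000700070002e000200048003c00020011000a80048000c0009000800018000a0014000e0003400200012000680044000e0002000480028000000070003000580010000600018004c002c0015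
theorem l11 : layerC C TL ws11 ws12 [(0, 0)] v11 = true := by decide +kernel
/-- base vector -/
def v10 : ℕ := 0x200054001a0018000c800700032000c00098001c001c0019000e8006000140000000c800600030001d000000048002800180009000380026000d000a80014002a000b00030006c00140000000b800000024000a0005000040032000d000780074003c0014000f0001c0032001100028004400120016000c80004000e001b000100050003600170007000480016000500070007400160000000c00044001c001e000200044003c000b000c00010000c000c00040002400320013000700064000a0017000600010002e000f000300074003c001700078004c0012001b0000800440012000600068003000320002000080034002a001800008001000080003000b8005c00080012000e000200000000200028005800300002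
theorem l10 : layerC C TL ws10 ws11 [(0, 0)] v10 = true := by decide +kernel
/-- base vector -/
def v9 : ℕ := 0x1600040000400280017000380030000c001d000580054000c000200080002c0032000300020005c00320014000b0000c0018001700048004c0016001400050000c00320018000f00034003c001e000280078000e0009000a000300034001000068003c00160012000b800740038000e000b0005c002a001e000d000480006000300010000400000008000e000400030000b000600018001c0010000e80034001c000200028004c0012001c000180070001a001b00048006c00340002000d8001400220008000d800780000001b000a80044001e000e0001000480024000a000280018003c000b00090006400180015000200000002e0004000480070003c000c0003800580028000d000480018003c0015000e0005c0008000c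
theorem l9 : layerC C TL ws9 ws10 [(0, 0)] v9 = true := by decide +kernel
/-- base vector -/
def v8 : ℕ := 0x1d000f00014001e001300068004c00040011000580050001e000b000a8000c000e001a000d000100026000900070003c001a001e000a80054001c0014000600010001a001400030004000340005000c8000c0030001c00078000800000005000b000400038000200088004000160007000300008002c0017000e8001c00160010000e800200030000f0005800580034000e000500078002c0010000b80078002c0010000a80060002000140000000580032001d0004800300022000800040007400360004000e000480014000200048006800080006000b8005400300003000400028001e0005000f0006c00340019000e0007000080015000280044001a001b00050004c001c000600040003c00020013000b80054000e001d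
theorem l8 : layerC C TL ws8 ws9 [(0, 0)] v8 = true := by decide +kernel
/-- base vector -/
def v7 : ℕ := 0xf00008005800180002000b8004c002c0016000f000680032000f00000000400000015000e800240032001b000600030001c001b000900014000e0016000c00058002c0004000a00030002c0011000e000540030001400070003800320006000b8001000020005000f0005c00220000000e0002c00380016000e80064003c0006000b0006c00160000000e00018002e0009000d0004c00380002000180070002e000b00038002000340011000000070003a00140001800100020000d00068005000120016000f000180030000b00018004c002c000200090001c00100001000680060000a000c0005000240026001d000f00078002c000700060004000320009000c0006c001e0002000680014002a001b00040002c003a0019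
theorem l7 : layerC C TL ws7 ws8 [(0, 0)] v7 = true := by decide +kernel
/-- base vector -/
def v6 : ℕ := 0xf0001000700006000a00048003000360000000700054000e0013000280004003c0007000a0000800160009000e8000c0016001000030000c0004001100030001c00200010000a000300022000d0002800100016000c000900070000e0007000f0004c002a001500058007800320013000900064003a001c000080038002e000a000c80050000a0002000e80050001200010006000780030000e000d8000c0014000e00000000000000000000000000000000000000000000000000000000000000000000000000000000000000000000000000000000000000000000000000000000000000000000000000000000000000000000000000000000000000000000000000000000000000000000000000000000500054001c0007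
theorem l6 : layerC C TL ws6 ws7 [(0, 0)] v6 = true := by decide +kernel
/-- base vector -/
def v5 : ℕ := 0x1700008006c0034001d00070003800200011000600054001e000800030004c0014000e000300060001e000c00038006400140013000e80060002e001e000b8006c00160007000180034000200080001800500014001200020007400160003000380064000a0010000c000400006001c0007800540026001e00070000000200006000a0005400160001000c00034001e000b000e0007400220018000d800080008001900000000000000000000000000000000000000000000000000000000000000000000000000000000000000000000000000000000000000000000000000000000000000000000000000000000000000000000000000000000000000000000000000000000000000000000000000000000080050001c0000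
theorem l5 : layerC C TL ws5 ws6 [(0, 0)] v5 = true := by decide +kernel
/-- base vector -/
def v4 : ℕ := 0x1800038004c00140012000b80008000c001a000280068000a0016000600058000e0001000f0005c003c000c00000007400080006000d80000002a0009000480020003c0004000d000780004000b00070007400080011000a80068000a0018000400064003400020006000540012000e000d00048002c000500078004c000e001e000c800640032001b0007800140010001a000e800080012001000080006c002a00130000000000000000000000000000000000000000000000000000000000000000000000000000000000000000000000000000000000000000000000000000000000000000000000000000000000000000000000000000000000000000000000000000000000000000000000000000000050003c00000003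
theorem l4 : layerC C TL ws4 ws5 [(0, 0)] v4 = true := by decide +kernel
/-- base vector -/
def v3 : ℕ := 0x1000a8004c00140013000880008001c001d0005800400002000c00090005c0002000e0009800380006001b000d8003c002e0010000200008001a00150005800640036001a000380058000e001400070004c001a001500080001000220001000a000300002000a000a8001000340018000d80028002a001e000d8004c002e001e00080005800100013000b8002800020007000b800080038000a0005800340002000700000000000000000000000000000000000000000000000000000000000000000000000000000000000000000000000000000000000000000000000000000000000000000000000000000000000000000000000000000000000000000000000000000000000000000000000000000000b0006400000010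
theorem l3 : layerC C TL ws3 ws4 [(0, 0)] v3 = true := by decide +kernel
/-- base vector -/
def v2 : ℕ := 0x1000030001c000a000b000c000480032000c00030004400300019000700048003a0011000e8003c001e001100058002c002c00120000800580012000500030004c0038000b00040003c0030000f0004800640000001b000a0002c0028000e000e800180010001a000f00000001c0018000c0003c001600090004800680018001a000d00020000c000d0006000400024001c0005000500028000500000005400040001000000000000000000000000000000000000000000000000000000000000000000000000000000000000000000000000000000000000000000000000000000000000000000000000000000000000000000000000000000000000000000000000000000000000000000000000000000007000780010000a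
theorem l2 : layerC C TL ws2 ws3 [(0, 0)] v2 = true := by decide +kernel
/-- base vector -/
def v1 : ℕ := 0x16000e00000002e000000068004c00180019000780060003c0011000c0003000280002000e0004000180018000d80044000e0001000680068002a0000000e0003c0022001b000b800580018000d000d8001c001e0012000a00034000a000b000300070003600170001000480032000300018004800180010000b000240026001200070001c0002001b000500018001a0018000b000540002000c000580020002200180000000000000000000000000000000000000000000000000000000000000000000000000000000000000000000000000000000000000000000000000000000000000000000000000000000000000000000000000000000000000000000000000000000000000000000000000000000098001000260011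
theorem l1 : layerC C TL ws1 ws2 [(0, 0)] v1 = true := by decide +kernel
/-- base vector -/
def v0 : ℕ := 0x800090006c00120004000280020002e0010000680008001c001900000006c002e001c000000010001e000d00048004000120004000f0000c002c001200040006c000e0004000980064002e0001000e0002c00260006000800014002a0016000b00044003a00010000800400030001900038002800240013000a00008003600020004000200028000a0007000180036001d000a00050000e0001000e800780024000000000000000000000000000000000000000000000000000000000000000000000000000000000000000000000000000000000000000000000000000000000000000000000000000000000000000000000000000000000000000000000000000000000000000000000000000000000000480044003a0002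
theorem l0 : layerC C TL ws0 ws1 [(0, 0)] v0 = true := by decide +kernel
theorem d14 : 1 ∣ Nat.card (grp (TG.map rho) ws14) := one_dvd _
theorem d13 : 2 ∣ Nat.card (grp (TG.map rho) ws13) :=
  layer_dvd good codesT (fun _ h => List.mem_cons_of_mem _ h) l13 d14
theorem d12 : 4 ∣ Nat.card (grp (TG.map rho) ws12) :=
  layer_dvd good codesT (fun _ h => List.mem_cons_of_mem _ h) l12 d13
theorem d11 : 8 ∣ Nat.card (grp (TG.map rho) ws11) :=
  layer_dvd good codesT (fun _ h => List.mem_cons_of_mem _ h) l11 d12
theorem d10 : 16 ∣ Nat.card (grp (TG.map rho) ws10) :=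
  layer_dvd good codesT (fun _ h => List.mem_cons_of_mem _ h) l10 d11
theorem d9 : 32 ∣ Nat.card (grp (TG.map rho) ws9) :=
  layer_dvd good codesT (fun _ h => List.mem_cons_of_mem _ h) l9 d10
theorem d8 : 64 ∣ Nat.card (grp (TG.map rho) ws8) :=
  layer_dvd good codesT (fun _ h => List.mem_cons_of_mem _ h) l8 d9
theorem d7 : 128 ∣ Nat.card (grp (TG.map rho) ws7) :=
  layer_dvd good codesT (fun _ h => List.mem_cons_of_mem _ h) l7 d8
theorem d6 : 256 ∣ Nat.card (grp (TG.map rho) ws6) :=
  layer_dvd good codesT (fun _ h => List.mem_cons_of_mem _ h) l6 d7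
theorem d5 : 512 ∣ Nat.card (grp (TG.map rho) ws5) :=
  layer_dvd good codesT (fun _ h => List.mem_cons_of_mem _ h) l5 d6
theorem d4 : 1024 ∣ Nat.card (grp (TG.map rho) ws4) :=
  layer_dvd good codesT (fun _ h => List.mem_cons_of_mem _ h) l4 d5
theorem d3 : 2048 ∣ Nat.card (grp (TG.map rho) ws3) :=
  layer_dvd good codesT (fun _ h => List.mem_cons_of_mem _ h) l3 d4
theorem d2 : 4096 ∣ Nat.card (grp (TG.map rho) ws2) :=
  layer_dvd good codesT (fun _ h => List.mem_cons_of_mem _ h) l2 d3
theorem d1 : 8192 ∣ Nat.card (grp (TG.map rho) ws1) :=
  layer_dvd good codesT (fun _ h => List.mem_cons_of_mem _ h) l1 d2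
theorem d0 : 16384 ∣ Nat.card (grp (TG.map rho) ws0) :=
  layer_dvd good codesT (fun _ h => List.mem_cons_of_mem _ h) l0 d1

theorem grp_le (ws : List (List ℕ)) (hws : okWs 14 ws = true) : grp (TG.map rho) ws ≤ (Pc s 14).map rho := by
  unfold grp
  rw [Subgroup.closure_le]
  rintro _ ⟨w, hw, rfl⟩
  rw [evG_map]
  exact ⟨_, evG_mem_Pc (okWs_spec hws w hw), rfl⟩

theorem dvd_card (hinj : Function.Injective rho) : 2 ^ 14 ∣ Nat.card (Pc s 14) := by
  have h1 : Nat.card ((Pc s 14).map rho) = Nat.card (Pc s 14) :=
    (Nat.card_congr ((Pc s 14).equivMapOfInjective rho hinj).toEquiv).symm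
  rw [← h1]
  exact (by norm_num : 2 ^ 14 = 16384) ▸ d0.trans (Subgroup.card_dvd_of_le (grp_le ws0 (by decide)))

end Cfsg.Agent.HN.TRel
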